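import Cfsg.Agent.H72.PSUThree.Stab

/-!
Subgroups of `SU₃(q)` of index at most `q³` contain no root group and are transitive on points.
-/

set_option autoImplicit false
set_option linter.unusedSectionVars false

namespace Cfsg.Agent.H72.PSUThree

open Cfsg MulAction Cfsg.Agent.Unitary Cfsg.Agent.H52.SUThree
open Matrix hiding vec

variable {F : Type*} [Field F] [Fintype F] {q : ℕ} {u w f : Fin 3 → F}

local notation "G" => SU 3 F q
local notation "Pts" => IsoPoint 3 F q

/-- A proper subgroup of index at most `q³` containing the centre. -/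
structure Good (H : Subgroup (SU 3 F q)) : Prop where
  ne_top : H ≠ ⊤
  center_le : Subgroup.center (SU 3 F q) ≤ H
  index_le : H.index ≤ q ^ 3

theorem sq_sub_one_pos (hF : Fintype.card F = q ^ 2) : 0 < q ^ 2 - 1 := by
  have := two_le_q hF
  have : 2 ^ 2 ≤ q ^ 2 := Nat.pow_le_pow_left this 2
  omega

theorem card_eq_orbit_mul (H : Subgroup G) (x : Pts) :
    Nat.card H = Nat.card (orbit H x) * Nat.card (H ⊓ stabilizer G x : Subgroup G) := by
  rw [← (stabilizer H x).index_mul_card, index_stabilizer, Nat.card_coe_set_eq]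
  congr 1
  exact Nat.card_congr
    { toFun := fun g => ⟨(g.1 : G), g.1.2, g.2⟩
      invFun := fun g => ⟨⟨g.1, g.2.1⟩, g.2.2⟩
      left_inv := fun _ => rfl
      right_inv := fun _ => rfl }

theorem Good.le_card (hF : Fintype.card F = q ^ 2) {H : Subgroup G} (hH : Good H) :
    (q ^ 2 - 1) * (q ^ 3 + 1) ≤ Nat.card H := by
  have h := H.card_mul_index
  rw [H53.card_SU_three hF, mul_assoc] at h
  refine Nat.le_of_mul_le_mul_right ?_ (pow_pos (q_pos hF) 3 : 0 < q ^ 3)
  rw [mul_comm _ (q ^ 3), ← h]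
  exact Nat.mul_le_mul_left _ hH.index_le

theorem Good.le_card_st (hF : Fintype.card F = q ^ 2) (hfr : Frame q u w f) {H : Subgroup G}
    (hH : Good H) : q ^ 2 - 1 ≤ Nat.card (H ⊓ st hfr : Subgroup G) := by
  have h := (H.subgroupOf (st hfr)).card_mul_index
  rw [card_st hF hfr] at h
  have hle : (H.subgroupOf (st hfr)).index ≤ q ^ 3 := by
    refine le_trans ?_ hH.index_le
    have h2 : H.relIndex ⊤ = H.index := Subgroup.relIndex_top_right H
    rw [← h2]
    refine Subgroup.relIndex_le_of_le_right le_top ?_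
    rw [h2]
    exact Subgroup.index_ne_zero_of_finite
  have e : Nat.card (H.subgroupOf (st hfr)) = Nat.card (H ⊓ st hfr : Subgroup G) :=
    Nat.card_congr
      { toFun := fun g => ⟨(g.1 : G), g.2, g.1.2⟩
        invFun := fun g => ⟨⟨g.1, g.2.2⟩, g.2.1⟩
        left_inv := fun _ => rfl
        right_inv := fun _ => rfl }
  rw [e] at h
  refine Nat.le_of_mul_le_mul_right ?_ (pow_pos (q_pos hF) 3 : 0 < q ^ 3)
  rw [mul_comm (q ^ 2 - 1), ← h]
  exact Nat.mul_le_mul_left _ hle

/-! ### Change of frame -/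

theorem frame_map (hfr : Frame q u w f) (g : G) : Frame q (ap g u) (ap g w) (ap g f) := by
  constructor <;> rw [herm_ap]
  exacts [hfr.uu, hfr.ff, hfr.ww, hfr.uf, hfr.fu, hfr.wu, hfr.uw, hfr.wf, hfr.fw]

theorem pu_map (hfr : Frame q u w f) (g : G) : pu (frame_map hfr g) = g • pu hfr :=
  Subtype.ext (map_span_singleton g u).symm

theorem pf_map (hfr : Frame q u w f) (g : G) : pf (frame_map hfr g) = g • pf hfr :=
  Subtype.ext (map_span_singleton g f).symm

theorem exists_frame_at (hF : Fintype.card F = q ^ 2) (x : Pts) :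
    ∃ (u w f : Fin 3 → F) (hfr : Frame q u w f), pu hfr = x := by
  obtain ⟨u, w, f, hfr⟩ := exists_frame hF
  obtain ⟨g, hg⟩ := exists_smul_isoPt hF le_rfl (pu hfr) x
  exact ⟨_, _, _, frame_map hfr g, by rw [pu_map hfr g, hg]⟩

theorem root_conj_le {H : Subgroup G} {h : G} (hh : h ∈ H) {x : Pts} (hx : rootSub x ≤ H) :
    rootSub (h • x) ≤ H := fun A hA => by
  have h1 := conj_mem_rootSub hA h⁻¹
  rw [inv_smul_smul, inv_inv] at h1
  have := mul_mem (mul_mem hh (hx h1)) (inv_mem hh)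
  rwa [show h * (h⁻¹ * A * h) * h⁻¹ = A by group] at this

/-! ### The line through the points of `u` and `f` -/

/-- Being on the line of `u` and `f`. -/
def OnLine (q : ℕ) (w : Fin 3 → F) (x : IsoPoint 3 F q) : Prop :=
  ∀ v ∈ x.1, hermForm 3 F q v w = 0

theorem onLine_iff {v : Fin 3 → F} (hv0 : v ≠ 0) (hv : hermForm 3 F q v v = 0) :
    OnLine q w (isoPt hv0 hv) ↔ hermForm 3 F q v w = 0 := by
  refine ⟨fun h => h v (Submodule.mem_span_singleton_self v), fun h x hx => ?_⟩
  obtain ⟨c, rfl⟩ := Submodule.mem_span_singleton.1 hx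
  rw [herm_smul_left, h, mul_zero]

theorem onLine_pu (hfr : Frame q u w f) : OnLine q w (pu hfr) :=
  (onLine_iff (ne_zero_u hfr) hfr.uu).2 hfr.uw

theorem onLine_pf (hfr : Frame q u w f) : OnLine q w (pf hfr) :=
  (onLine_iff (ne_zero_f hfr) hfr.ff).2 hfr.fw

theorem onLine_E_pf_iff (hF : Fintype.card F = q ^ 2) (hfr : Frame q u w f) {b β : F} (h : Ok q b β) :
    OnLine q w (eSU hF (h.spec hfr) • pf hfr) ↔ b = 0 := by
  have e : eSU hF (h.spec hfr) • pf hfr = isoPt (u := ap (eSU hF (h.spec hfr)) f)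
      (fun h0 => ne_zero_f hfr (ap_injective (eSU hF (h.spec hfr)) (by rw [h0, ap_zero])))
      (by rw [herm_ap]; exact hfr.ff) :=
    Subtype.ext (map_span_singleton _ _)
  rw [e, onLine_iff, ap_E_f hF hfr h, hfr.coord_w]

theorem card_onLine (hF : Fintype.card F = q ^ 2) (hfr : Frame q u w f) :
    Nat.card {x : Pts // OnLine q w x} = q + 1 := by
  refine Eq.trans ?_ (congrArg (· + 1) (card_trace_zero hF))
  rw [← Finite.card_option]
  refine (Nat.card_congr (Equiv.ofBijective (fun o => o.elim ⟨pu hfr, onLine_pu hfr⟩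
    fun β : {x : F // x + x ^ q = 0} =>
      (⟨eSU hF (((ok_zero_iff hF).2 β.2).spec hfr) • pf hfr,
        (onLine_E_pf_iff hF hfr ((ok_zero_iff hF).2 β.2)).2 rfl⟩ : {x : Pts // OnLine q w x})) ⟨?_, ?_⟩)).symm
  · intro o o' e
    cases o with
    | none =>
      cases o' with
      | none => rfl
      | some p => exact absurd (congrArg Subtype.val e).symm (E_pf_ne_pu hF hfr ((ok_zero_iff hF).2 p.2))
    | some p =>
      cases o' with
      | none => exact absurd (congrArg Subtype.val e) (E_pf_ne_pu hF hfr ((ok_zero_iff hF).2 p.2))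
      | some p' => exact congrArg some (Subtype.ext (E_pf_inj hF hfr ((ok_zero_iff hF).2 p.2) ((ok_zero_iff hF).2 p'.2) (congrArg Subtype.val e)).2)
  · rintro ⟨x, hx⟩
    by_cases hxu : x = pu hfr
    · exact ⟨none, Subtype.ext hxu.symm⟩
    · obtain ⟨b, β, h, rfl⟩ := exists_E_pf hF hfr hxu
      obtain rfl := (onLine_E_pf_iff hF hfr h).1 hx
      exact ⟨some ⟨β, (ok_zero_iff hF).1 h⟩, rfl⟩

theorem E'_mem_root (hF : Fintype.card F = q ^ 2) (hfr : Frame q u w f) {γ : F} (h : Ok q (0 : F) γ) :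
    eSU hF (h.spec' hfr) ∈ rootSub (pf hfr) := by
  have key : ∀ x, ap (eSU hF (h.spec' hfr)) x = x + (γ * hermForm 3 F q x f) • f := fun x => by
    rw [ap_eSU, zero_smul, smul_zero, add_zero, herm_zero_right hF, zero_smul, sub_zero]
  refine ⟨fun x => ?_, fun x hx => ?_⟩
  · rw [key, add_sub_cancel_left]
    exact Submodule.smul_mem _ _ (Submodule.mem_span_singleton_self f)
  · rw [key, hx f (Submodule.mem_span_singleton_self f), mul_zero, zero_smul, add_zero]

/-! ### No full root group -/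

theorem root_pair_absurd (hF : Fintype.card F = q ^ 2) (hq : 3 ≤ q) (hfr : Frame q u w f)
    {H : Subgroup G} (hH : Good H) (hu : rootSub (pu hfr) ≤ H) (hf : rootSub (pf hfr) ≤ H) : False := by
  by_cases hall : ∀ x : Pts, rootSub x ≤ H → OnLine q w x
  · -- `H` stabilises the line
    have hw : ∀ h ∈ H, ∃ c : F, ap h⁻¹ w = c • w := by
      intro h hh
      have e1 := hall _ (root_conj_le hh hu)
      have e2 := hall _ (root_conj_le hh hf)
      have f1 : hermForm 3 F q (ap h u) w = 0 := e1 _ (by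
        rw [coe_smul_isoPoint]; exact Submodule.mem_map_of_mem (Submodule.mem_span_singleton_self u))
      have f2 : hermForm 3 F q (ap h f) w = 0 := e2 _ (by
        rw [coe_smul_isoPoint]; exact Submodule.mem_map_of_mem (Submodule.mem_span_singleton_self f))
      refine ⟨hermForm 3 F q (ap h⁻¹ w) w, ?_⟩
      conv_lhs => rw [hfr.expand (ap h⁻¹ w)]
      have g1 : hermForm 3 F q (ap h⁻¹ w) f = 0 := by
        rw [← herm_ap h, ap_ap_inv]; exact (herm_eq_zero_symm hF).1 f2
      have g2 : hermForm 3 F q (ap h⁻¹ w) u = 0 := by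
        rw [← herm_ap h, ap_ap_inv]; exact (herm_eq_zero_symm hF).1 f1
      rw [g1, g2]
      simp [vec]
    have hpres : ∀ h ∈ H, ∀ x : Pts, OnLine q w x → OnLine q w (h • x) := by
      intro h hh x hx v hv
      rw [coe_smul_isoPoint] at hv
      obtain ⟨y, hy, rfl⟩ := hv
      obtain ⟨c, hc⟩ := hw h hh
      show hermForm 3 F q (ap h y) w = 0
      rw [← herm_ap h⁻¹, ap_inv_ap, hc, herm_smul_right, hx y hy, mul_zero]
    have horb : Nat.card (orbit H (pu hfr)) ≤ q + 1 := by
      rw [← card_onLine hF hfr]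
      refine Nat.card_le_card_of_injective (fun x : orbit H (pu hfr) =>
        (⟨x.1, by obtain ⟨_, ⟨h, rfl⟩⟩ := x; exact hpres h h.2 _ (onLine_pu hfr)⟩ : {x : Pts // OnLine q w x}))
        fun a b e => Subtype.ext (congrArg (fun z : {x : Pts // OnLine q w x} => z.1) e)
    have hk : Nat.card (params hF hfr H) = 1 := by
      refine (AddSubgroup.eq_bot_iff_card _).1 ((AddSubgroup.eq_bot_iff_forall _).2 fun b hb => ?_)
      obtain ⟨β, h, hm⟩ := hb
      exact (onLine_E_pf_iff hF hfr h).1 (hpres _ hm _ (onLine_pf hfr))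
    have hz : Nat.card (zset hF hfr H) ≤ q := by
      refine le_trans (Nat.card_le_card_of_injective (fun b : zset hF hfr H =>
        (⟨b.1, skew_of_mem_zset hF hfr H b.2⟩ : {x : F // x + x ^ q = 0}))
        fun a b e => Subtype.ext (congrArg (fun z : {x : F // x + x ^ q = 0} => z.1) e)) ?_
      rw [card_trace_zero hF]
    have hl : Nat.card (lamSet hF hfr H) ≤ q ^ 2 - 1 := by
      refine (Subgroup.card_le_card_group _).trans ?_
      rw [Nat.card_units, Nat.card_eq_fintype_card, hF]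
    have h1 := hH.le_card hF
    rw [card_eq_orbit_mul H (pu hfr), card_inf_st hF hfr H, hk, one_mul] at h1
    have h2 := h1.trans (Nat.mul_le_mul horb (Nat.mul_le_mul hz hl))
    rw [show (q + 1) * (q * (q ^ 2 - 1)) = (q ^ 2 - 1) * ((q + 1) * q) by ring] at h2
    have h3 := Nat.le_of_mul_le_mul_left h2 (sq_sub_one_pos hF)
    nlinarith
  push Not at hall
  obtain ⟨x, hxH, hxl⟩ := hall
  obtain ⟨b, β, hok, rfl⟩ := exists_E_pf hF hfr (x := x) (fun e => hxl (e ▸ onLine_pu hfr))
  have hb0 : b ≠ 0 := fun e => hxl ((onLine_E_pf_iff hF hfr hok).2 e)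
  -- the parameters of the centres
  let B : F → Prop := fun c => ∀ γ, ∀ h : Ok q c γ, rootSub (eSU hF (h.spec hfr) • pf hfr) ≤ H
  have fibre : ∀ {c γ : F} (h : Ok q c γ), rootSub (eSU hF (h.spec hfr) • pf hfr) ≤ H → B c := by
    intro c γ h hle γ' h'
    have h0 : Ok q (0 : F) (γ' - γ) := by
      rw [ok_zero_iff hF, sub_pow_q hF]
      have h2 : γ + γ ^ q + c * c ^ q = 0 := h
      have h3 : γ' + γ' ^ q + c * c ^ q = 0 := h'
      linear_combination h3 - h2
    have := root_conj_le (hu ((mem_root_iff hF hfr).2 ⟨_, h0, rfl⟩)) hle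
    rwa [smul_smul, E_mul hF hfr h0 h, E_congr hF hfr (h0.add hF h) h' (zero_add c)
      (by rw [zero_pow (q_ne_zero hF)]; ring)] at this
  have step : ∀ {c : F}, B c → c ≠ 0 → ∀ z : F, z ^ q ≠ z → B (c / z) := by
    intro c hc hc0 z hz
    have hz0 : z ≠ 0 := fun h => hz (by rw [h, zero_pow (q_ne_zero hF)])
    have hN : c * c ^ q ≠ 0 := mul_ne_zero hc0 ((pow_q_eq_zero_iff hF).not.2 hc0)
    set τ := -(z - z ^ q) / (c * c ^ q) with hτ
    have hτ0 : τ ≠ 0 := div_ne_zero (neg_ne_zero.2 (sub_ne_zero.2 (Ne.symm hz))) hN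
    have hτs : Ok q (0 : F) τ := by
      rw [ok_zero_iff hF, hτ, div_pow, neg_pow_q hF, sub_pow_q hF, pow_q_q hF, norm_pow_q hF]
      ring
    set γ := (z - 1) / τ with hγ
    have hτq : τ ^ q = -τ := eq_neg_of_add_eq_zero_right ((ok_zero_iff hF).1 hτs)
    have hγok : Ok q c γ := by
      have : c * c ^ q = -(z - z ^ q) / τ := by rw [hτ]; field_simp
      simp only [Ok, hγ, div_pow, hτq, sub_pow_q hF, one_pow, this]
      field_simp
      ring
    have h1 := root_conj_le (hf (E'_mem_root hF hfr hτs)) (hc γ hγok)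
    have hok2 : Ok q (c / z) (γ / z) := by
      have hzq := (pow_q_eq_zero_iff hF).not.2 hz0
      have h2 : γ + γ ^ q + c * c ^ q = 0 := hγok
      have e1 : z - 1 = τ * γ := by rw [hγ]; field_simp
      have e2 : z ^ q - 1 = -τ * γ ^ q := by
        have := congrArg (· ^ q) e1
        simpa only [sub_pow_q hF, one_pow, mul_pow, hτq] using this
      simp only [Ok, div_pow]
      field_simp
      linear_combination h2 + γ * e2 + γ ^ q * e1
    refine fibre hok2 ?_
    have e : eSU hF (hτs.spec' hfr) • (eSU hF (hγok.spec hfr) • pf hfr) =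
        eSU hF (hok2.spec hfr) • pf hfr := by
      rw [smul_smul]
      refine Subtype.ext ?_
      show (Submodule.span F {f}).map _ = (Submodule.span F {f}).map _
      rw [map_span_singleton, map_span_singleton, ap_mul, ap_E_f hF hfr hγok,
        ap_E' hF hfr hτs, ap_E_f hF hfr hok2, zero_mul, add_zero, zero_pow (q_ne_zero hF), zero_mul,
        sub_zero,
        show vec u w f γ c (1 + τ * γ) = z • vec u w f (γ / z) (c / z) 1 by
          rw [vec_smul, show 1 + τ * γ = z by rw [hγ]; field_simp; ring, mul_one,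
            mul_div_cancel₀ γ hz0, mul_div_cancel₀ c hz0]]
      exact Submodule.span_singleton_smul_eq hz0.isUnit _
    rwa [e] at h1
  have hBb := fibre hok hxH
  obtain ⟨z₁, hz₁⟩ : ∃ z : F, z ^ q ≠ z := by
    obtain ⟨δ, hδ0, hδ⟩ := exists_skew hF
    by_contra hcon
    push Not at hcon
    obtain ⟨y, hy⟩ := exists_trace_ne_zero hF
    have h1 := hcon δ
    rw [hδ] at h1
    have h2 := hcon y
    have h3 : (2 : F) * δ = 0 := by linear_combination -h1
    rcases mul_eq_zero.1 h3 with h4 | h4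
    · exact hy (by rw [h2]; linear_combination y * h4)
    · exact hδ0 h4
  have hz₁0 : z₁ ≠ 0 := fun h => hz₁ (by rw [h, zero_pow (q_ne_zero hF)])
  have hBall : ∀ c : F, c ≠ 0 → B c := by
    intro c hc
    by_cases hcase : (b / c) ^ q = b / c
    · have hz₂ : (b / c / z₁) ^ q ≠ b / c / z₁ := by
        intro h
        rw [div_pow, hcase, div_eq_div_iff ((pow_q_eq_zero_iff hF).not.2 hz₁0) hz₁0] at h
        exact hz₁ (mul_left_cancel₀ (div_ne_zero hb0 hc) h).symm
      have := step (step hBb hb0 z₁ hz₁) (div_ne_zero hb0 hz₁0) _ hz₂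
      rwa [show b / z₁ / (b / c / z₁) = c by field_simp] at this
    · have := step hBb hb0 _ hcase
      rwa [show b / (b / c) = c by field_simp] at this
  have hroots : ∀ y : Pts, rootSub y ≤ H := by
    intro y
    by_cases hy : y = pu hfr
    · rw [hy]; exact hu
    obtain ⟨c, γ, h, rfl⟩ := exists_E_pf hF hfr hy
    rcases eq_or_ne c 0 with rfl | hc
    · exact root_conj_le (hu ((mem_root_iff hF hfr).2 ⟨_, h, rfl⟩)) hf
    · exact hBall c hc γ h
  have htop := (iwasawaSU (n := 3) (F := F) hF (Or.inr ⟨rfl, hq⟩)).is_generator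
  exact hH.ne_top (top_le_iff.1 (htop ▸ iSup_le hroots))

theorem not_root_le (hF : Fintype.card F = q ^ 2) (hq : 3 ≤ q) (hfr : Frame q u w f)
    {H : Subgroup G} (hH : Good H) : ¬ rootSub (pu hfr) ≤ H := by
  intro hu
  by_cases hfix : ∀ h ∈ H, h • pu hfr = pu hfr
  · have hle : H ≤ st hfr := fun h hh => mem_stabilizer_iff.2 (hfix h hh)
    have h1 := hH.le_card hF
    have h2 := Subgroup.card_le_of_le hle
    rw [card_st hF hfr, mul_comm (q ^ 3)] at h2
    have := Nat.le_of_mul_le_mul_left (h1.trans h2) (sq_sub_one_pos hF)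
    omega
  push Not at hfix
  obtain ⟨h, hh, hne⟩ := hfix
  obtain ⟨b, β, hok, e⟩ := exists_E_pf hF hfr hne
  have h1 : pu (frame_map hfr (eSU hF (hok.spec hfr))) = pu hfr := by
    rw [pu_map hfr (eSU hF (hok.spec hfr)), E_smul_pu hF hfr hok]
  refine root_pair_absurd hF hq (frame_map hfr (eSU hF (hok.spec hfr))) hH (h1 ▸ hu) ?_
  rw [pf_map hfr (eSU hF (hok.spec hfr)), ← e]
  exact root_conj_le hh hu

/-! ### Transitivity -/

/-- A group with a `p`-element fixing only `x`, for every `x`, is transitive. -/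
theorem transitive_of_unique_fix (p : ℕ) [Fact p.Prime] (A : Subgroup G) (S : Pts → Prop)
    (hS : ∀ a ∈ A, ∀ x, S x → S (a • x))
    (hfix : ∀ x, S x → ∃ a ∈ A, IsPGroup p (Subgroup.zpowers a) ∧ a • x = x ∧
      ∀ y, S y → a • y = y → y = x) :
    ∀ x y, S x → S y → ∃ a ∈ A, a • x = y := by
  intro x y hx hy
  by_contra hne
  push Not at hne
  have hO : ∀ a ∈ A, ∀ z : orbit A x, a • (z : Pts) ∈ orbit A x := fun a ha z => by
    obtain ⟨_, ⟨b, rfl⟩⟩ := z
    refine ⟨⟨a, ha⟩ * b, ?_⟩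
    simp only [Subgroup.smul_def, Subgroup.coe_mul, mul_smul]
  have hSO : ∀ z : orbit A x, S (z : Pts) := fun z => by
    obtain ⟨_, ⟨b, rfl⟩⟩ := z
    simp only [Subgroup.smul_def]
    exact hS _ b.2 _ hx
  have count : ∀ v, S v → ∃ a ∈ A, (∀ z ∈ orbit A x, a • z = z → z = v) ∧ a • v = v ∧
      Nat.card (orbit A x) ≡ Nat.card {z : orbit A x // a • (z : Pts) = z} [MOD p] := by
    intro v hv
    obtain ⟨a, ha, hp, hav, huniq⟩ := hfix v hv
    have hle : Subgroup.zpowers a ≤ A := Subgroup.zpowers_le.2 ha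
    let act : MulAction (Subgroup.zpowers a) (orbit A x) :=
      { smul := fun g z => ⟨(g : G) • (z : Pts), hO g (hle g.2) z⟩
        one_smul := fun z => Subtype.ext (one_smul G (z : Pts))
        mul_smul := fun g h z => Subtype.ext (mul_smul (g : G) (h : G) (z : Pts)) }
    refine ⟨a, ha, fun z hz => huniq z (hSO ⟨z, hz⟩), hav,
      (hp.card_modEq_card_fixedPoints (orbit A x)).trans (congrArg (· % p) ?_)⟩
    refine Nat.card_congr (Equiv.subtypeEquivRight fun z => ?_)
    refine ⟨fun h => congrArg Subtype.val (h ⟨a, Subgroup.mem_zpowers a⟩), fun h g => Subtype.ext ?_⟩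
    change (g : G) • (z : Pts) = (z : Pts)
    have : Subgroup.zpowers a ≤ stabilizer G (z : Pts) := Subgroup.zpowers_le.2 h
    exact this g.2
  obtain ⟨a, -, ha1, ha2, hax⟩ := count x hx
  obtain ⟨b, -, hb1, -, hby⟩ := count y hy
  have e1 : Nat.card {z : orbit A x // a • (z : Pts) = z} = 1 :=
    Nat.card_eq_one_iff_unique.2 ⟨⟨fun z z' => Subtype.ext (Subtype.ext
      ((ha1 _ z.1.2 z.2).trans (ha1 _ z'.1.2 z'.2).symm))⟩, ⟨⟨x, mem_orbit_self x⟩, ha2⟩⟩
  have e2 : Nat.card {z : orbit A x // b • (z : Pts) = z} = 0 := by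
    have : IsEmpty {z : orbit A x // b • (z : Pts) = z} := ⟨fun z => by
      have e := hb1 _ z.1.2 z.2
      obtain ⟨c, hc⟩ := z.1.2
      simp only [Subgroup.smul_def] at hc
      exact hne c c.2 (hc.trans e)⟩
    exact Nat.card_of_isEmpty
  rw [e1] at hax
  rw [e2] at hby
  have := hax.symm.trans hby
  rw [Nat.modEq_zero_iff_dvd, Nat.dvd_one] at this
  exact (Fact.out : p.Prime).one_lt.ne' this

theorem uni_unique_fix (hF : Fintype.card F = q ^ 2) (hfr : Frame q u w f) {g : G} (hg : g ∈ uni u)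
    (hg1 : g ≠ 1) {y : Pts} (hy : g • y = y) : y = pu hfr := by
  by_contra hne
  obtain ⟨c, γ, h, rfl⟩ := exists_E_pf hF hfr hne
  obtain ⟨b, β, h', rfl⟩ := (mem_uni_iff hF hfr).1 hg
  rw [smul_smul, E_mul hF hfr h' h] at hy
  obtain ⟨e1, e2⟩ := E_pf_inj hF hfr (h'.add hF h) h hy
  obtain rfl : b = 0 := by linear_combination e1
  rw [zero_pow (q_ne_zero hF), mul_zero, sub_zero] at e2
  obtain rfl : β = 0 := by linear_combination e2
  exact hg1 (E_zero hF hfr)

theorem card_uni (hF : Fintype.card F = q ^ 2) (hfr : Frame q u w f) :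
    Nat.card (uni u : Subgroup G) = q ^ 3 := by
  rw [← card_ok hF]
  refine (Nat.card_congr (Equiv.ofBijective (fun p : {p : F × F // Ok q p.1 p.2} =>
    (⟨eSU hF (p.2.spec hfr), E_mem_uni hF hfr p.2⟩ : (uni u : Subgroup G))) ⟨?_, ?_⟩)).symm
  · intro p p' e
    obtain ⟨e1, e2⟩ := E_inj hF hfr p.2 p'.2 (congrArg Subtype.val e)
    exact Subtype.ext (Prod.ext e1 e2)
  · rintro ⟨g, hg⟩
    obtain ⟨b, β, h, rfl⟩ := (mem_uni_iff hF hfr).1 hg
    exact ⟨⟨(b, β), h⟩, rfl⟩

theorem isPGroup_of_mem_uni {p k : ℕ} [Fact p.Prime] (hF : Fintype.card F = q ^ 2) (hk : q = p ^ k)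
    (hfr : Frame q u w f) {g : G} (hg : g ∈ uni u) : IsPGroup p (Subgroup.zpowers g) := by
  have h : IsPGroup p (uni u : Subgroup G) :=
    IsPGroup.of_card (n := k * 3) (by rw [card_uni hF hfr, hk, ← pow_mul])
  exact h.to_le (Subgroup.zpowers_le.2 hg)

/-- `H` is transitive on the points. -/
theorem Good.transitive (hF : Fintype.card F = q ^ 2) {H : Subgroup G} (hH : Good H) (x y : Pts) :
    ∃ h ∈ H, h • x = y := by
  obtain ⟨p, k, hp, -, -, hk⟩ := exists_char_pow hF
  have : Fact p.Prime := ⟨hp⟩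
  by_cases hW : ∀ z : Pts, ∃ a ∈ H, IsPGroup p (Subgroup.zpowers a) ∧ a • z = z ∧
      ∀ y, True → a • y = y → y = z
  · exact transitive_of_unique_fix p H (fun _ => True) (fun _ _ _ _ => trivial)
      (fun z _ => hW z) x y trivial trivial
  push Not at hW
  obtain ⟨z, hz⟩ := hW
  obtain ⟨u, w, f, hfr, rfl⟩ := exists_frame_at hF z
  have hbot : (H ⊓ uni u : Subgroup G) = ⊥ := (Subgroup.eq_bot_iff_forall _).2 fun a ⟨haH, hau⟩ => by
    by_contra ha1
    obtain ⟨y, -, hy1, hy2⟩ := hz a haH (isPGroup_of_mem_uni hF hk hfr hau)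
      (mem_stabilizer_iff.1 (uni_le_st hfr hau))
    exact hy2 (uni_unique_fix hF hfr hau ha1 hy1)
  have hle : Nat.card (H ⊓ st hfr : Subgroup G) ≤ q ^ 2 - 1 := by
    rw [card_inf_st hF hfr H, ← card_inf_uni hF hfr H, hbot, Subgroup.card_bot, one_mul]
    refine (Subgroup.card_le_card_group _).trans ?_
    rw [Nat.card_units, Nat.card_eq_fintype_card, hF]
  have h1 := hH.le_card hF
  rw [card_eq_orbit_mul H (pu hfr)] at h1
  have h2 : q ^ 3 + 1 ≤ Nat.card (orbit H (pu hfr)) :=
    Nat.le_of_mul_le_mul_left (h1.trans ((Nat.mul_le_mul_left _ hle).trans (mul_comm _ _).le))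
      (sq_sub_one_pos hF)
  have huniv : orbit H (pu hfr) = Set.univ :=
    Set.eq_of_subset_of_ncard_le (Set.subset_univ _)
      (by rw [Set.ncard_univ, card_pts hF hfr, ← Nat.card_coe_set_eq]; exact h2) Set.finite_univ
  obtain ⟨a, ha⟩ : x ∈ orbit H (pu hfr) := huniv ▸ Set.mem_univ x
  obtain ⟨b, hb⟩ : y ∈ orbit H (pu hfr) := huniv ▸ Set.mem_univ y
  refine ⟨(b : G) * (a : G)⁻¹, mul_mem b.2 (inv_mem a.2), ?_⟩
  rw [← ha, ← hb, mul_smul]
  exact congrArg _ (inv_smul_smul (a : G) (pu hfr))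

theorem Good.card_eq (hF : Fintype.card F = q ^ 2) (hfr : Frame q u w f) {H : Subgroup G} (hH : Good H) :
    Nat.card H = (q ^ 3 + 1) * Nat.card (H ⊓ st hfr : Subgroup G) := by
  rw [card_eq_orbit_mul H (pu hfr), ← card_pts hF hfr]
  congr 1
  have : orbit H (pu hfr) = Set.univ := Set.eq_univ_of_forall fun y => by
    obtain ⟨h, hh, e⟩ := hH.transitive hF (pu hfr) y
    exact ⟨⟨h, hh⟩, e⟩
  rw [this]
  exact Nat.card_congr (Equiv.Set.univ _)

end Cfsg.Agent.H72.PSUThree
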