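import Cfsg.Agent.H72.PSUThree.Basic

/-!
Orders in the point stabiliser and the parameter sets of a subgroup.
-/

set_option autoImplicit false
set_option linter.unusedSectionVars false

namespace Cfsg.Agent.H72.PSUThree

open Cfsg MulAction Cfsg.Agent.Unitary Cfsg.Agent.H52.SUThree
open Matrix hiding vec

variable {F : Type*} [Field F] [Fintype F] {q : ℕ} {u w f : Fin 3 → F}

local notation "G" => SU 3 F q
local notation "Pts" => IsoPoint 3 F q

/-- The stabiliser of the point of `u`. -/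
abbrev st (hfr : Frame q u w f) : Subgroup G := stabilizer G (pu hfr)

/-- The elements fixing `u`. -/
abbrev uni (u : Fin 3 → F) : Subgroup (SU 3 F q) := fixer 3 F q ({u} : Set (Fin 3 → F))

theorem mem_uni {g : G} : g ∈ uni u ↔ ap g u = u := by
  rw [mem_fixer]; simp

theorem uni_le_st (hfr : Frame q u w f) : uni u ≤ st hfr := fun g hg =>
  mem_stabilizer_iff.2 ((smul_pu_iff hfr).2 ⟨1, one_ne_zero, by rw [mem_uni.1 hg, one_smul]⟩)

theorem E_mem_uni (hF : Fintype.card F = q ^ 2) (hfr : Frame q u w f) {b β : F} (h : Ok q b β) :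
    eSU hF (h.spec hfr) ∈ uni u :=
  mem_uni.2 (ap_E_u hF hfr h)

theorem mem_uni_iff (hF : Fintype.card F = q ^ 2) (hfr : Frame q u w f) {g : G} :
    g ∈ uni u ↔ ∃ (b β : F) (h : Ok q b β), g = eSU hF (h.spec hfr) := by
  refine ⟨fun hg => ?_, fun ⟨b, β, h, e⟩ => e ▸ E_mem_uni hF hfr h⟩
  obtain ⟨l, b, β, h, e⟩ := exists_decomp hF hfr (mem_stabilizer_iff.1 (uni_le_st hfr hg))
  have h1 := mem_uni.1 hg
  rw [e, ap_mul, ap_T_u, ap_smul, ap_E_u hF hfr h] at h1
  have hl : l = 1 := Units.ext (smul_left_injective F (ne_zero_u hfr)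
    (show (l : F) • u = ((1 : Fˣ) : F) • u by rw [h1, Units.val_one, one_smul]))
  exact ⟨b, β, h, by rw [e, hl, map_one, mul_one]⟩

theorem E_inj (hF : Fintype.card F = q ^ 2) (hfr : Frame q u w f) {b β b' β' : F} (h : Ok q b β)
    (h' : Ok q b' β') (e : eSU hF (h.spec hfr) = eSU hF (h'.spec hfr)) : b = b' ∧ β = β' :=
  (decomp_unique hF hfr (l := 1) (l' := 1) h h' (by rw [e])).2

theorem E_zero (hF : Fintype.card F = q ^ 2) (hfr : Frame q u w f) :
    eSU hF ((Ok.zero (F := F) hF).spec hfr) = 1 :=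
  eq_of_ap hfr fun p r s => by
    rw [ap_E hF hfr (Ok.zero hF), ap_one, zero_pow (q_ne_zero hF)]; congr 1 <;> ring

theorem ok_zero_iff (hF : Fintype.card F = q ^ 2) {β : F} : Ok q (0 : F) β ↔ β + β ^ q = 0 := by
  simp [Ok, q_ne_zero hF]

theorem mem_root_iff (hF : Fintype.card F = q ^ 2) (hfr : Frame q u w f) {g : G} :
    g ∈ rootSub (pu hfr) ↔ ∃ (β : F) (h : Ok q (0 : F) β), g = eSU hF (h.spec hfr) := by
  constructor
  · intro hg
    have hperp : ∀ x, hermForm 3 F q x u = 0 → ap g x = x := fun x hx => hg.2 x fun s hs => by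
      obtain ⟨a, rfl⟩ := Submodule.mem_span_singleton.1 hs
      rw [herm_smul_right, hx, mul_zero]
    obtain ⟨b, β, h, e⟩ := (mem_uni_iff hF hfr).1 (mem_uni.2 (hperp u hfr.uu))
    have h1 := hperp w hfr.wu
    rw [e] at h1
    have h2 := congrArg (fun x => hermForm 3 F q x f) h1
    rw [show ap (eSU hF (h.spec hfr)) w = vec u w f (-(b ^ q)) 1 0 by
      simpa [vec] using ap_E hF hfr h 0 1 0] at h2
    simp only [hfr.coord_f, hfr.wf] at h2
    obtain rfl : b = 0 := (pow_q_eq_zero_iff hF).1 (neg_eq_zero.1 h2)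
    exact ⟨β, h, e⟩
  · rintro ⟨β, h, rfl⟩
    have key : ∀ x, ap (eSU hF (h.spec hfr)) x = x + (β * hermForm 3 F q x u) • u := fun x => by
      rw [ap_eSU, zero_smul, smul_zero, add_zero, herm_zero_right hF, zero_smul, sub_zero]
    refine ⟨fun x => ?_, fun x hx => ?_⟩
    · rw [key, add_sub_cancel_left]
      exact Submodule.smul_mem _ _ (Submodule.mem_span_singleton_self u)
    · rw [key, hx u (Submodule.mem_span_singleton_self u), mul_zero, zero_smul, add_zero]

theorem root_le_uni (hF : Fintype.card F = q ^ 2) (hfr : Frame q u w f) : rootSub (pu hfr) ≤ uni u :=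
  fun g hg => by
    obtain ⟨β, h, rfl⟩ := (mem_root_iff hF hfr).1 hg
    exact E_mem_uni hF hfr h

/-! ### Orders -/

theorem card_ok (hF : Fintype.card F = q ^ 2) : Nat.card {p : F × F // Ok q p.1 p.2} = q ^ 3 := by
  have hfib : ∀ b : F, Nat.card {β : F // Ok q b β} = q := fun b => by
    obtain ⟨β₀, h₀⟩ := exists_ok hF b
    refine (Nat.card_congr ((Equiv.subRight β₀).subtypeEquiv fun β => ?_)).trans (card_trace_zero hF)
    simp only [Ok, Equiv.subRight_apply, sub_pow_q hF] at *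
    constructor <;> intro h <;> linear_combination (norm := ring_nf) h
    · linear_combination -h₀
    · linear_combination h₀
  let e : {p : F × F // Ok q p.1 p.2} ≃ Σ b : F, {β : F // Ok q b β} :=
    { toFun := fun p => ⟨p.1.1, p.1.2, p.2⟩
      invFun := fun s => ⟨(s.1, s.2.1), s.2.2⟩
      left_inv := fun _ => rfl
      right_inv := fun _ => rfl }
  rw [Nat.card_congr e, Nat.card_sigma, Finset.sum_congr rfl fun b _ => hfib b, Finset.sum_const,
    Finset.card_univ, hF, smul_eq_mul]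
  ring

theorem card_pts (hF : Fintype.card F = q ^ 2) (hfr : Frame q u w f) : Nat.card Pts = q ^ 3 + 1 := by
  rw [← card_ok hF, ← Finite.card_option]
  refine (Nat.card_congr (Equiv.ofBijective (fun o => o.elim (pu hfr)
    fun p : {p : F × F // Ok q p.1 p.2} => eSU hF (p.2.spec hfr) • pf hfr) ⟨?_, ?_⟩)).symm
  · intro o o' e
    cases o with
    | none =>
      cases o' with
      | none => rfl
      | some p => exact absurd e.symm (E_pf_ne_pu hF hfr p.2)
    | some p =>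
      cases o' with
      | none => exact absurd e (E_pf_ne_pu hF hfr p.2)
      | some p' => exact congrArg some (Subtype.ext (Prod.ext (E_pf_inj hF hfr p.2 p'.2 e).1 (E_pf_inj hF hfr p.2 p'.2 e).2))
  · intro x
    by_cases hx : x = pu hfr
    · exact ⟨none, hx.symm⟩
    · obtain ⟨b, β, h, rfl⟩ := exists_E_pf hF hfr hx
      exact ⟨some ⟨(b, β), h⟩, rfl⟩

theorem card_st (hF : Fintype.card F = q ^ 2) (hfr : Frame q u w f) :
    Nat.card (st hfr) = q ^ 3 * (q ^ 2 - 1) := by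
  have e1 : q ^ 2 - 1 = Nat.card Fˣ := by rw [Nat.card_units, Nat.card_eq_fintype_card, hF]
  rw [e1, ← card_ok hF, ← Nat.card_prod]
  refine (Nat.card_congr (Equiv.ofBijective (fun p : {p : F × F // Ok q p.1 p.2} × Fˣ =>
    (⟨eSU hF (p.1.2.spec hfr) * tHom hF hfr p.2, mem_stabilizer_iff.2 (by
      rw [mul_smul, T_smul_pu, E_smul_pu hF hfr p.1.2])⟩ : st hfr)) ⟨?_, ?_⟩)).symm
  · rintro ⟨p, l⟩ ⟨p', l'⟩ e
    obtain ⟨h1, h2, h3⟩ := decomp_unique hF hfr p.2 p'.2 (congrArg Subtype.val e)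
    exact Prod.ext (Subtype.ext (Prod.ext h2 h3)) h1
  · rintro ⟨g, hg⟩
    obtain ⟨l, b, β, h, e⟩ := exists_decomp hF hfr (mem_stabilizer_iff.1 hg)
    exact ⟨(⟨(b, β), h⟩, l), Subtype.ext e.symm⟩

/-- The eigenvalue on `u`. -/
noncomputable def lamHom (hF : Fintype.card F = q ^ 2) (hfr : Frame q u w f) : st hfr →* Fˣ :=
  MonoidHom.mk' (fun g => Units.mk0 (hermForm 3 F q (ap (g : G) u) f) (by
    obtain ⟨l, hl0, hl⟩ := (smul_pu_iff hfr).1 (mem_stabilizer_iff.1 g.2)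
    rw [hl, herm_smul_left, hfr.uf, mul_one]
    exact hl0)) fun a b => by
    obtain ⟨l, -, hl⟩ := (smul_pu_iff hfr).1 (mem_stabilizer_iff.1 b.2)
    obtain ⟨l', -, hl'⟩ := (smul_pu_iff hfr).1 (mem_stabilizer_iff.1 a.2)
    ext
    simp only [Units.val_mk0, Units.val_mul, Subgroup.coe_mul, ap_mul, hl, hl', ap_smul, herm_smul_left, hfr.uf]
    ring

theorem lamHom_eq (hF : Fintype.card F = q ^ 2) (hfr : Frame q u w f) {g : st hfr} {l : Fˣ} {b β : F}
    (h : Ok q b β) (e : (g : G) = eSU hF (h.spec hfr) * tHom hF hfr l) : lamHom hF hfr g = l := by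
  ext
  show hermForm 3 F q (ap (g : G) u) f = _
  rw [e, ap_mul, ap_T_u, ap_smul, ap_E_u hF hfr h, herm_smul_left, hfr.uf, mul_one]

theorem lamHom_eq_one_iff (hF : Fintype.card F = q ^ 2) (hfr : Frame q u w f) {g : st hfr} :
    lamHom hF hfr g = 1 ↔ (g : G) ∈ uni u := by
  obtain ⟨l, hl0, hl⟩ := (smul_pu_iff hfr).1 (mem_stabilizer_iff.1 g.2)
  rw [mem_uni, hl, Units.ext_iff]
  show hermForm 3 F q (ap (g : G) u) f = 1 ↔ _
  rw [hl, herm_smul_left, hfr.uf, mul_one]
  refine ⟨fun h => by rw [h, one_smul], fun h => ?_⟩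
  exact smul_left_injective F (ne_zero_u hfr) (h.trans (one_smul F u).symm)

/-! ### The parameters of a subgroup -/

/-- The second parameters of the central unipotents in `H`. -/
def zset (hF : Fintype.card F = q ^ 2) (hfr : Frame q u w f) (H : Subgroup G) : AddSubgroup F where
  carrier := {β | ∃ h : Ok q (0 : F) β, eSU hF (h.spec hfr) ∈ H}
  zero_mem' := ⟨Ok.zero hF, by rw [E_zero hF hfr]; exact one_mem _⟩
  add_mem' := by
    rintro a b ⟨h, hm⟩ ⟨h', hm'⟩
    have hab : Ok q (0 : F) (a + b) := by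
      rw [ok_zero_iff hF] at *
      rw [add_pow_q hF]
      linear_combination h + h'
    refine ⟨hab, ?_⟩
    rw [← E_congr hF hfr (h.add hF h') hab (add_zero 0) (by ring), ← E_mul hF hfr h h']
    exact mul_mem hm hm'
  neg_mem' := by
    rintro a ⟨h, hm⟩
    have hna : Ok q (0 : F) (-a) := by
      rw [ok_zero_iff hF] at *
      rw [neg_pow_q hF]
      linear_combination -h
    refine ⟨hna, ?_⟩
    rw [← E_congr hF hfr (h.neg hF) hna neg_zero
      (by rw [ok_zero_iff hF] at h; linear_combination h), ← E_inv hF hfr h]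
    exact inv_mem hm

variable (hF : Fintype.card F = q ^ 2) (hfr : Frame q u w f) (H : Subgroup (SU 3 F q))

/-- The eigenvalues on `u` of the elements of `H` fixing its point. -/
noncomputable def lamSet : Subgroup Fˣ := (H.subgroupOf (st hfr)).map (lamHom hF hfr)

theorem mem_lamSet {l : Fˣ} :
    l ∈ lamSet hF hfr H ↔ ∃ (b β : F) (h : Ok q b β), eSU hF (h.spec hfr) * tHom hF hfr l ∈ H := by
  constructor
  · rintro ⟨g, hg, rfl⟩
    obtain ⟨l, b, β, h, e⟩ := exists_decomp hF hfr (mem_stabilizer_iff.1 g.2)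
    rw [lamHom_eq hF hfr h e]
    exact ⟨b, β, h, e ▸ hg⟩
  · rintro ⟨b, β, h, hm⟩
    exact ⟨⟨eSU hF (h.spec hfr) * tHom hF hfr l, mem_stabilizer_iff.2 (by
      show (eSU hF (h.spec hfr) * tHom hF hfr l) • pu hfr = pu hfr
      rw [mul_smul, T_smul_pu, E_smul_pu hF hfr h])⟩, hm,
      lamHom_eq hF hfr h rfl⟩

theorem card_inf_uni :
    Nat.card (H ⊓ uni u : Subgroup G) =
      Nat.card (params hF hfr H) * Nat.card (zset hF hfr H) := by
  classical
  choose σ hσ hσm using fun b : params hF hfr H => b.2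
  rw [← Nat.card_prod]
  refine (Nat.card_congr (Equiv.ofBijective (fun p : params hF hfr H × zset hF hfr H =>
    (⟨eSU hF ((hσ p.1).spec hfr) * eSU hF (p.2.2.1.spec hfr),
      ⟨mul_mem (hσm p.1) p.2.2.2, mul_mem (E_mem_uni hF hfr (hσ p.1)) (E_mem_uni hF hfr p.2.2.1)⟩⟩ :
      (H ⊓ uni u : Subgroup G))) ⟨?_, ?_⟩)).symm
  · rintro ⟨b, z⟩ ⟨b', z'⟩ e
    have e' := congrArg Subtype.val e
    simp only at e'
    rw [E_mul hF hfr (hσ b) z.2.1, E_mul hF hfr (hσ b') z'.2.1] at e'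
    obtain ⟨h1, h2⟩ := E_inj hF hfr ((hσ b).add hF z.2.1) ((hσ b').add hF z'.2.1) e'
    simp only [add_zero] at h1
    obtain rfl : b = b' := Subtype.ext h1
    refine Prod.ext rfl (Subtype.ext ?_)
    linear_combination h2
  · rintro ⟨g, hgH, hgu⟩
    obtain ⟨b, β, h, rfl⟩ := (mem_uni_iff hF hfr).1 hgu
    have hb : b ∈ params hF hfr H := ⟨β, h, hgH⟩
    set β₀ := σ ⟨b, hb⟩ with hβ₀
    have h0 : Ok q (0 : F) (β - β₀) := by
      have h1 := hσ ⟨b, hb⟩
      simp only [← hβ₀] at h1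
      rw [ok_zero_iff hF, sub_pow_q hF]
      have h2 : β + β ^ q + b * b ^ q = 0 := h
      have h3 : β₀ + β₀ ^ q + b * b ^ q = 0 := h1
      linear_combination h2 - h3
    have e : eSU hF ((hσ ⟨b, hb⟩).spec hfr) * eSU hF (h0.spec hfr) = eSU hF (h.spec hfr) := by
      rw [E_mul hF hfr (hσ ⟨b, hb⟩) h0]
      exact E_congr hF hfr ((hσ ⟨b, hb⟩).add hF h0) h (add_zero b) (by rw [← hβ₀]; ring)
    have hz : β - β₀ ∈ zset hF hfr H := ⟨h0, by
      have := mul_mem (inv_mem (hσm ⟨b, hb⟩)) hgH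
      rwa [← e, inv_mul_cancel_left] at this⟩
    exact ⟨(⟨b, hb⟩, ⟨β - β₀, hz⟩), Subtype.ext e⟩

theorem card_inf_st :
    Nat.card (H ⊓ st hfr : Subgroup G) =
      Nat.card (params hF hfr H) * Nat.card (zset hF hfr H) * Nat.card (lamSet hF hfr H) := by
  set φ := (lamHom hF hfr).comp (Subgroup.inclusion (inf_le_right : H ⊓ st hfr ≤ st hfr)) with hφ
  rw [← φ.ker.card_mul_index, Subgroup.index_ker, ← card_inf_uni hF hfr H]
  congr 1
  · refine Nat.card_congr
      { toFun := fun g => ⟨g.1.1, g.1.2.1, (lamHom_eq_one_iff hF hfr).1 (MonoidHom.mem_ker.1 g.2)⟩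
        invFun := fun g => ⟨⟨g.1, g.2.1, uni_le_st hfr g.2.2⟩,
          MonoidHom.mem_ker.2 ((lamHom_eq_one_iff hF hfr).2 g.2.2)⟩
        left_inv := fun _ => rfl
        right_inv := fun _ => rfl }
  · have e : φ.range = lamSet hF hfr H := by
      ext l
      constructor
      · rintro ⟨g, rfl⟩
        exact ⟨_, g.2.1, rfl⟩
      · rintro ⟨g, hg, rfl⟩
        exact ⟨⟨g.1, hg, g.2⟩, rfl⟩
    rw [e]

theorem skew_of_mem_zset {β : F} (h : β ∈ zset hF hfr H) : β + β ^ q = 0 := (ok_zero_iff hF).1 h.1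

theorem comm_mem_zset {b c : F} (hb : b ∈ params hF hfr H) (hc : c ∈ params hF hfr H) :
    b * c ^ q - c * b ^ q ∈ zset hF hfr H := by
  obtain ⟨β, h, hm⟩ := hb
  obtain ⟨γ, h', hm'⟩ := hc
  have h0 : Ok q (0 : F) (b * c ^ q - c * b ^ q) := by
    rw [ok_zero_iff hF, sub_pow_q hF, mul_pow, mul_pow, pow_q_q hF, pow_q_q hF]
    ring
  refine ⟨h0, ?_⟩
  have e : eSU hF (h'.spec hfr) * eSU hF (h.spec hfr) * eSU hF (h0.spec hfr) =
      eSU hF (h.spec hfr) * eSU hF (h'.spec hfr) := by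
    rw [E_mul hF hfr h' h, E_mul hF hfr (h'.add hF h) h0, E_mul hF hfr h h']
    exact E_congr hF hfr ((h'.add hF h).add hF h0) (h.add hF h') (by ring) (by ring)
  have := mul_mem (inv_mem (mul_mem hm' hm)) (mul_mem hm hm')
  rwa [← e, inv_mul_cancel_left] at this

theorem mu_mul_mem {l : Fˣ} (hl : l ∈ lamSet hF hfr H) {b : F} (hb : b ∈ params hF hfr H) :
    ((mu q l : Fˣ) : F) * b ∈ params hF hfr H := by
  obtain ⟨c, γ, h, hm⟩ := (mem_lamSet hF hfr H).1 hl
  obtain ⟨β, h', hm'⟩ := hb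
  have := mul_mem (mul_mem hm hm') (inv_mem hm)
  rw [_root_.mul_assoc (eSU hF (h.spec hfr)), T_conj_E hF hfr l h',
    show eSU hF (h.spec hfr) * (eSU hF ((ok_scale hF l h').spec hfr) * tHom hF hfr l) *
        (eSU hF (h.spec hfr) * tHom hF hfr l)⁻¹ =
      eSU hF (h.spec hfr) * eSU hF ((ok_scale hF l h').spec hfr) * (eSU hF (h.spec hfr))⁻¹ by group,
    E_inv hF hfr h, E_mul hF hfr h (ok_scale hF l h'),
    E_mul hF hfr (h.add hF (ok_scale hF l h')) (h.neg hF)] at this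
  have h3 := (h.add hF (ok_scale hF l h')).add hF (h.neg hF)
  have e : c + ((mu q l : Fˣ) : F) * b + -c = ((mu q l : Fˣ) : F) * b := by ring
  obtain ⟨β', hβ'⟩ : ∃ x : F, γ + ((nu q l : Fˣ) : F) * β - ((mu q l : Fˣ) : F) * b * c ^ q + γ ^ q -
      -c * (c + ((mu q l : Fˣ) : F) * b) ^ q = x := ⟨_, rfl⟩
  have h4 : Ok q (((mu q l : Fˣ) : F) * b) β' := by
    have h5 := h3
    rw [e, hβ'] at h5
    exact h5
  refine ⟨β', h4, ?_⟩
  rw [← E_congr hF hfr h3 h4 e hβ']
  exact this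

theorem nu_mul_mem {l : Fˣ} (hl : l ∈ lamSet hF hfr H) {β : F} (hβ : β ∈ zset hF hfr H) :
    ((nu q l : Fˣ) : F) * β ∈ zset hF hfr H := by
  obtain ⟨c, γ, h, hm⟩ := (mem_lamSet hF hfr H).1 hl
  obtain ⟨h', hm'⟩ := hβ
  have h0 : Ok q (0 : F) (((nu q l : Fˣ) : F) * β) := by
    have := ok_scale hF l h'
    rwa [mul_zero] at this
  refine ⟨h0, ?_⟩
  have := mul_mem (mul_mem hm hm') (inv_mem hm)
  rw [_root_.mul_assoc (eSU hF (h.spec hfr)), T_conj_E hF hfr l h',
    E_congr hF hfr (ok_scale hF l h') h0 (mul_zero _) rfl] at this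
  have e : eSU hF (h.spec hfr) * eSU hF (h0.spec hfr) = eSU hF (h0.spec hfr) * eSU hF (h.spec hfr) := by
    rw [E_mul hF hfr h h0, E_mul hF hfr h0 h]
    exact E_congr hF hfr (h.add hF h0) (h0.add hF h) (by ring) (by rw [zero_pow (q_ne_zero hF)]; ring)
  rwa [← _root_.mul_assoc, e, _root_.mul_assoc (eSU hF (h0.spec hfr)), mul_inv_cancel_right] at this

end Cfsg.Agent.H72.PSUThree
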