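import Cfsg.Agent.H72.PSUThree.Small

/-!
The least index of a proper subgroup of `SU₃(q)` containing the centre.
-/

set_option autoImplicit false
set_option linter.unusedSectionVars false

namespace Cfsg.Agent.H72.PSUThree

open Cfsg MulAction Cfsg.Agent.Unitary Cfsg.Agent.H52.SUThree
open Matrix hiding vec

variable {F : Type*} [Field F] [Fintype F] {q : ℕ} {u w f : Fin 3 → F}

local notation "G" => SU 3 F q

variable (hF : Fintype.card F = q ^ 2) (hfr : Frame q u w f) (H : Subgroup (SU 3 F q))

include hF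

theorem params_ne_top (hlt : Nat.card (zset hF hfr H) < q) : Nat.card (params hF hfr H) ≠ q ^ 2 := by
  intro h
  have htop : ∀ c : F, c ∈ params hF hfr H := fun c => by
    have : params hF hfr H = ⊤ := AddSubgroup.eq_top_of_card_eq _ (by rw [h, Nat.card_eq_fintype_card, hF])
    rw [this]; exact AddSubgroup.mem_top c
  let φ : F →+ zset hF hfr H := AddMonoidHom.mk'
    (fun c => ⟨1 * c ^ q - c * 1 ^ q, comm_mem_zset hF hfr H (htop 1) (htop c)⟩) fun a b => Subtype.ext (by
      show 1 * (a + b) ^ q - (a + b) * 1 ^ q = (1 * a ^ q - a * 1 ^ q) + (1 * b ^ q - b * 1 ^ q)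
      rw [add_pow_q hF]; ring)
  have h1 := φ.ker.card_mul_index
  rw [AddSubgroup.index_ker, Nat.card_eq_fintype_card (α := F), hF] at h1
  have h2 : Nat.card φ.ker ≤ q := by
    refine le_trans ?_ (card_fixed hF).le
    refine Nat.card_le_card_of_injective (fun c => (⟨(c : F), ?_⟩ : {x : F // x ^ q = x}))
      fun a b e => Subtype.ext (congrArg (fun z : {x : F // x ^ q = x} => z.1) e)
    have h3 := congrArg Subtype.val (c.2 : φ (c : F) = 0)
    simp only [φ, AddMonoidHom.mk'_apply, ZeroMemClass.coe_zero, one_mul, one_pow, mul_one] at h3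
    exact sub_eq_zero.1 h3
  have h3 : Nat.card φ.range ≤ Nat.card (zset hF hfr H) :=
    Nat.card_le_card_of_injective _ Subtype.val_injective
  have h4 := Nat.mul_le_mul h2 h3
  rw [h1, sq] at h4
  have := Nat.le_of_mul_le_mul_left h4 (q_pos hF)
  omega

/-- With two central unipotents the first parameters have constant norm. -/
theorem params_card_le_four [CharP F 2] (hz : Nat.card (zset hF hfr H) = 2) :
    Nat.card (params hF hfr H) ≤ 4 := by
  classical
  have h2F : (2 : F) = 0 := CharTwo.two_eq_zero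
  by_cases h0 : ∀ b ∈ params hF hfr H, b = 0
  · rw [(AddSubgroup.eq_bot_iff_forall _).2 h0, AddSubgroup.card_bot]; norm_num
  push Not at h0
  obtain ⟨b, hbm, hb0⟩ := h0
  have hN : ∀ c ∈ params hF hfr H, c ≠ 0 → c * c ^ q = b * b ^ q := by
    intro c hc hc0
    have hne : ∀ x : F, x ≠ 0 → x * x ^ q ≠ 0 := fun x hx => mul_ne_zero hx ((pow_q_eq_zero_iff hF).not.2 hx)
    obtain ⟨x, y, hxy, hall⟩ := (Nat.card_eq_two_iff).1 hz
    have h1 : ∀ z : zset hF hfr H, z = x ∨ z = y := fun z => by
      have := Set.ext_iff.1 hall z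
      simpa using this
    rcases h1 0 with e | e <;> rcases h1 ⟨_, sq_mem_zset hF hfr H hc⟩ with e1 | e1 <;>
      rcases h1 ⟨_, sq_mem_zset hF hfr H hbm⟩ with e2 | e2 <;>
      first
      | exact congrArg Subtype.val (e1.trans e2.symm)
      | exact absurd (congrArg Subtype.val (e1.trans e.symm)) (by simpa using hne c hc0)
      | exact absurd (congrArg Subtype.val (e2.trans e.symm)) (by simpa using hne b hb0)
  have hroot : ∀ c ∈ params hF hfr H, (c / b) ^ 4 = c / b := by
    intro c hc
    rcases eq_or_ne c 0 with rfl | hc0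
    · simp
    rcases eq_or_ne c b with rfl | hcb
    · rw [div_self hc0, one_pow]
    have hadd : c + b ≠ 0 := fun h => hcb (by linear_combination h - b * h2F)
    have hbq := (pow_q_eq_zero_iff hF).not.2 hb0
    have e1 : c / b * (c / b) ^ q = 1 := by
      rw [div_pow, div_mul_div_comm, hN c hc hc0, div_self (mul_ne_zero hb0 hbq)]
    have e2 : (c / b + 1) * ((c / b) ^ q + 1) = 1 := by
      rw [← one_pow (M := F) q, ← add_pow_q hF, one_pow, div_add_one hb0, div_pow, div_mul_div_comm,
        hN _ (AddSubgroup.add_mem _ hc hbm) hadd, div_self (mul_ne_zero hb0 hbq)]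
    set r := c / b
    linear_combination (r ^ 2 - r) * e2 * r - (r ^ 2 - r) * e1 * (r + 1)
  let P : Polynomial F := Polynomial.X ^ 4 - Polynomial.X
  have hP : P.natDegree = 4 := by
    simp only [P]
    compute_degree!
  have hP0 : P ≠ 0 := fun h => by rw [h, Polynomial.natDegree_zero] at hP; norm_num at hP
  refine le_trans (Nat.card_le_card_of_injective (fun c : params hF hfr H =>
    (⟨(c : F) / b, by
      rw [Multiset.mem_toFinset, Polynomial.mem_roots hP0, Polynomial.IsRoot.def, Polynomial.eval_sub,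
        Polynomial.eval_pow, Polynomial.eval_X, hroot _ c.2, sub_self]⟩ :
      P.roots.toFinset)) ?_) ?_
  · intro c c' e
    exact Subtype.ext ((div_left_inj' hb0).1 (congrArg (fun z : P.roots.toFinset => (z : F)) e))
  · rw [Nat.card_eq_fintype_card, Fintype.card_coe, ← hP]
    exact (Multiset.toFinset_card_le _).trans P.card_roots'

/-- The main bound. -/
theorem Good.main (hq : 3 ≤ q) (hH : Good H) : q = 5 ∧ 50 ≤ H.index := by
  obtain ⟨u, w, f, hfr⟩ := exists_frame (F := F) hF
  have five : q = 5 → Nat.card (H ⊓ st hfr : Subgroup G) ≤ 60 → q = 5 ∧ 50 ≤ H.index := by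
    intro h5 hle
    refine ⟨h5, ?_⟩
    have h1 := H.card_mul_index
    rw [H53.card_SU_three hF, hH.card_eq hF hfr, show q ^ 3 = 125 by rw [h5]; norm_num,
      show q ^ 2 = 25 by rw [h5]; norm_num] at h1
    by_contra h50
    have h2 := Nat.mul_le_mul hle (show H.index ≤ 49 by omega)
    generalize Nat.card (H ⊓ st hfr : Subgroup G) = c at h1 h2
    generalize H.index = i at h1 h2
    rw [mul_assoc] at h1
    omega
  have hst := card_inf_st hF hfr H
  rcases hH.shapes hF hfr H hq with ⟨hk, hz, hL⟩ | ⟨hz, hk, hq2, hq3, s, hL, hs⟩ | hz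
  · rw [hk, hz, hL, one_mul, one_mul] at hst
    rcases hH.regular_cases hF hfr H hq hk hz hL with h | h | h | h
    · exact (no_regular_three hF hfr H h hH hst).elim
    · refine five h ?_
      rw [hst, show q ^ 2 = 25 by rw [h]; norm_num]
      norm_num
    · exact (no_regular_seven hF hfr H h hH hst).elim
    · exact (no_regular_eleven hF hfr H h hH hst).elim
  · rw [hk, hz, hL, mul_one] at hst
    rcases hH.abelian_cases hF hfr H hq hz hk hq2 hq3 hL hs with h | ⟨h, h10⟩
    · refine five h ?_
      rw [hst]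
      calc q * (3 * s) ≤ 5 * (3 * 4) := Nat.mul_le_mul (by omega) (by omega)
        _ = 60 := by norm_num
    · refine (no_abelian_eleven hF hfr H h hH hk ?_).elim
      rw [hst]
      calc q * (3 * s) = 11 * (3 * 10) := congrArg₂ (fun a b => a * (3 * b)) h h10
        _ = 330 := by norm_num
  exfalso
  have hlow := hH.le_card_st hF hfr
  have hLd := card_lamSet hF hfr H hH.center_le
  obtain ⟨s, hs⟩ : ∃ s, s = Nat.card ((lamSet hF hfr H).map (mu q)) := ⟨_, rfl⟩
  rw [← hs] at hLd
  have hsd : s ∣ Nat.card (params hF hfr H) - 1 := hs ▸ card_map_mu_dvd hF hfr H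
  have hnu := card_map_nu_dvd hF hfr H
  have hlt := zset_card_lt hF hfr H hq hH
  obtain ⟨p, e, hp, he, hchar, hqp⟩ := exists_char_pow hF
  have : Fact p.Prime := ⟨hp⟩
  obtain ⟨j, hj⟩ := exists_eq_pow hF hqp (params hF hfr H)
  rw [hst] at hlow
  -- the eigenvalues have bounded order
  have hLdvd : ∀ {m M : ℕ}, Nat.card (zset hF hfr H) - 1 = m → M = (q + 1) * m →
      Nat.card (lamSet hF hfr H) ∣ Nat.gcd (q ^ 2 - 1) M := by
    intro m M hm hM
    have hker : lamSet hF hfr H ≤ (powMonoidHom M : Fˣ →* Fˣ).ker := by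
      intro l hl
      rw [MonoidHom.mem_ker, powMonoidHom_apply, hM, pow_mul]
      have hmem : nu q l ∈ (lamSet hF hfr H).map (nu q) := ⟨l, hl, rfl⟩
      have h1 := (Subgroup.orderOf_dvd_natCard _ hmem).trans hnu
      rw [hm] at h1
      exact orderOf_dvd_iff_pow_eq_one.1 h1
    refine (Subgroup.card_dvd_of_le hker).trans ?_
    rw [IsCyclic.card_powMonoidHom_ker, Nat.card_units, Nat.card_eq_fintype_card, hF]
  rcases hH.transvection_cases hF hfr H hq hz with ⟨hev, hz2⟩ | ⟨h9, hz3⟩
  · have hp2 : p = 2 := by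
      rcases hp.eq_two_or_odd with h | h
      · exact h
      · exfalso
        rw [hqp, Nat.pow_mod, h, one_pow, Nat.one_mod] at hev
        exact one_ne_zero hev
    subst hp2
    have hk4 := params_card_le_four hF hfr H hz2
    have hL1 : Nat.card (lamSet hF hfr H) ∣ q + 1 :=
      (hLdvd (m := 1) (by rw [hz2]) (mul_one _).symm).trans (Nat.gcd_dvd_right _ _)
    rw [hj] at hk4 hsd
    rw [hz2, hj] at hlow
    have hj2 : j ≤ 2 := by
      by_contra h
      have : 2 ^ 3 ≤ 2 ^ j := Nat.pow_le_pow_right (by norm_num) (by omega)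
      omega
    have hq4 : 4 ≤ q := by omega
    have h16 : 4 * q ≤ q * q := Nat.mul_le_mul_right _ hq4
    rw [sq] at hlow
    have hd3 : Nat.gcd 3 (q + 1) ≤ 3 := Nat.le_of_dvd (by norm_num) (Nat.gcd_dvd_left _ _)
    interval_cases j
    · norm_num at hlow
      have := Nat.le_of_dvd (by omega) hL1
      omega
    · norm_num at hlow hsd
      subst hsd
      omega
    · norm_num at hlow hsd
      have hs3 : s = 1 ∨ s = 3 := (Nat.dvd_prime Nat.prime_three).1 hsd
      rcases (Nat.dvd_prime Nat.prime_three).1 (Nat.gcd_dvd_left 3 (q + 1)) with hd | hd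
      · rw [hd, one_mul] at hLd
        rcases hs3 with rfl | rfl
        · rw [hLd] at hlow; omega
        · have : 3 ∣ Nat.gcd 3 (q + 1) := Nat.dvd_gcd dvd_rfl (hLd ▸ hL1)
          rw [hd] at this
          norm_num at this
      · rw [hd] at hLd
        have hmod : 3 ∣ q + 1 := hd ▸ Nat.gcd_dvd_right 3 (q + 1)
        have hq8 : q ≤ 8 := by
          by_contra h
          have : 9 * 9 ≤ q * q := Nat.mul_le_mul (by omega) (by omega)
          rcases hs3 with rfl | rfl <;> omega
        have hq8' : q = 8 := by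
          have : q = 2 ^ e := hqp
          have he3 : e ≤ 3 := (Nat.pow_le_pow_iff_right (by norm_num : 1 < 2)).1 (by omega : 2 ^ e ≤ 2 ^ 3)
          interval_cases e <;> omega
        refine no_transvection_eight hF hfr H hq8' hH ?_
        have h63 : q * q - 1 = 63 := by
          rw [show q * q = 8 * 8 from congrArg₂ (· * ·) hq8' hq8']
        rw [hst, hz2, hj, hLd]
        rcases hs3 with rfl | rfl
        · omega
        · norm_num
  · have hd : Nat.gcd 3 (q + 1) = 1 := by
      rw [show q + 1 = 10 by omega]; norm_num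
    rw [hd, one_mul] at hLd
    have hL20 : Nat.card (lamSet hF hfr H) ∣ 20 :=
      (hLdvd (m := 2) (M := 20) (by rw [hz3]) (by omega)).trans (Nat.gcd_dvd_right _ _)
    rw [hLd] at hL20
    have hp3 : p = 3 := by
      have h1 : p ∣ 3 ^ 2 := by
        rw [show (3 : ℕ) ^ 2 = p ^ e by rw [← hqp, h9]; norm_num]
        exact dvd_pow_self p he.ne'
      exact (Nat.prime_dvd_prime_iff_eq hp Nat.prime_three).1 (hp.dvd_of_dvd_pow h1)
    subst hp3
    have h81 : q ^ 2 = 81 := by rw [sq, show q * q = 9 * 9 from congrArg₂ (· * ·) h9 h9]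
    have hne := params_ne_top hF hfr H hlt
    have hkdvd := (params hF hfr H).card_addSubgroup_dvd_card
    rw [Nat.card_eq_fintype_card (α := F), hF, h81, hj, show (81 : ℕ) = 3 ^ 4 by norm_num] at hkdvd
    have hj4 : j ≤ 4 := Nat.pow_dvd_pow_iff_le_right'.1 hkdvd
    rw [h81, hj] at hne
    rw [h81, hz3, hj, hLd] at hlow
    rw [hj] at hsd
    have hs20 : s ≤ 20 := Nat.le_of_dvd (by norm_num) hL20
    have fin : ∀ N, (N = 108 ∨ N = 81 ∨ N = 162) → Nat.card (H ⊓ st hfr : Subgroup G) = N → False :=
      fun N hN hN' => no_transvection_nine hF hfr H h9 hH hN hN'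
    rw [hz3, hj, hLd] at hst
    interval_cases j
    · norm_num at hlow; omega
    · norm_num at hlow hsd
      have := Nat.le_of_dvd (by norm_num) hsd
      omega
    · norm_num at hlow hsd hst
      refine fin _ ?_ hst
      have := Nat.le_of_dvd (by norm_num) hsd
      interval_cases s <;> omega
    · norm_num at hlow hsd hst
      refine fin _ ?_ hst
      have h8 : s ≤ 26 := Nat.le_of_dvd (by norm_num) hsd
      interval_cases s <;> omega
    · norm_num at hne

end Cfsg.Agent.H72.PSUThree
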