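import Cfsg.Agent.H72.PSUThree.Main

/-!
The least index of a proper subgroup of `PSU₃(q)`.
-/

set_option autoImplicit false
set_option linter.unusedSectionVars false

namespace Cfsg.Agent.H72.PSUThree

open Cfsg MulAction Cfsg.Agent.Unitary Cfsg.Agent.H52.SUThree
open Matrix hiding vec

variable {F : Type*} [Field F] [Fintype F] {q : ℕ} {u w f : Fin 3 → F}

local notation "G" => SU 3 F q

theorem center_le_st (hF : Fintype.card F = q ^ 2) (hfr : Frame q u w f) :
    Subgroup.center G ≤ st hfr := by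
  intro z hz
  obtain ⟨l, hl0, hl⟩ : ∃ l : F, l ≠ 0 ∧ ap z u = l • u := by
    obtain ⟨l, hl⟩ := eq_smul_of_mem_center hF (by norm_num) hz
    refine ⟨l, fun h0 => ne_zero_u hfr (ap_injective z ?_), hl u⟩
    rw [hl, h0, zero_smul, ap_zero]
  exact mem_stabilizer_iff.2 ((smul_pu_iff hfr).2 ⟨l, hl0, hl⟩)

theorem index_st (hF : Fintype.card F = q ^ 2) (hfr : Frame q u w f) :
    (st hfr).index = q ^ 3 + 1 := by
  have h := (st hfr).card_mul_index
  rw [card_st hF hfr, H53.card_SU_three hF] at h
  exact Nat.eq_of_mul_eq_mul_left (Nat.mul_pos (pow_pos (q_pos hF) 3) (sq_sub_one_pos hF)) h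

/-- Proper subgroups of the quotient give good subgroups or have large index. -/
theorem index_psu_cases (hF : Fintype.card F = q ^ 2) (hq : 3 ≤ q)
    (H : Subgroup (PSU 3 F q)) (hH : H ≠ ⊤) :
    q ^ 3 + 1 ≤ H.index ∨ q = 5 ∧ 50 ≤ H.index := by
  set π := QuotientGroup.mk' (Subgroup.center G)
  have hs : Function.Surjective π := QuotientGroup.mk'_surjective _
  have hi : (H.comap π).index = H.index := H.index_comap_of_surjective hs
  by_cases hle : H.index ≤ q ^ 3
  · right
    rw [← hi]
    refine Good.main hF _ hq ⟨fun h => hH (Subgroup.comap_injective hs (h.trans (Subgroup.comap_top π).symm)), ?_,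
      hi ▸ hle⟩
    intro z hz
    rw [Subgroup.mem_comap, QuotientGroup.mk'_apply, (QuotientGroup.eq_one_iff z).2 hz]
    exact one_mem _
  · left; omega

theorem exists_index_psu (hF : Fintype.card F = q ^ 2) :
    ∃ H : Subgroup (PSU 3 F q), H.index = q ^ 3 + 1 := by
  obtain ⟨u, w, f, hfr⟩ := exists_frame (F := F) hF
  refine ⟨(st hfr).map (QuotientGroup.mk' _), ?_⟩
  rw [Subgroup.index_map_eq _ (QuotientGroup.mk'_surjective _) (by rw [QuotientGroup.ker_mk']; exact center_le_st hF hfr),
    index_st hF hfr]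

end Cfsg.Agent.H72.PSUThree
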