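import Cfsg.Agent.H52.SUThree
import Cfsg.Agent.H53.SUInvol
import Cfsg.Agent.Unitary.Simple

/-!
The stabiliser of an isotropic point in `SU₃(q)` in a frame, and the fixed points of its elements.
-/

set_option autoImplicit false
set_option linter.unusedSectionVars false

namespace Cfsg.Agent.H72.PSUThree

open Cfsg MulAction Cfsg.Agent.Unitary Cfsg.Agent.H52.SUThree
open Matrix hiding vec

variable {F : Type*} [Field F] [Fintype F] {q : ℕ} {u w f : Fin 3 → F}

local notation "G" => SU 3 F q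
local notation "Pts" => IsoPoint 3 F q

instance finite_isoPoint : Finite (IsoPoint 3 F q) :=
  Finite.of_injective (fun L => (L.1 : Submodule F (Fin 3 → F))) Subtype.val_injective

theorem ne_zero_u (hfr : Frame q u w f) : u ≠ 0 := fun h => by simpa [h] using hfr.uf

theorem ne_zero_f (hfr : Frame q u w f) : f ≠ 0 := fun h => by simpa [h] using hfr.fu

/-- The point of `u`. -/
def pu (hfr : Frame q u w f) : Pts := isoPt (ne_zero_u hfr) hfr.uu

/-- The point of `f`. -/
def pf (hfr : Frame q u w f) : Pts := isoPt (ne_zero_f hfr) hfr.ff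

theorem vec_u : vec u w f 1 0 0 = u := by simp [vec]

theorem vec_w : vec u w f 0 1 0 = w := by simp [vec]

theorem vec_f : vec u w f 0 0 1 = f := by simp [vec]

theorem vec_smul (c p r s : F) : c • vec u w f p r s = vec u w f (c * p) (c * r) (c * s) := by
  simp only [vec]
  module

theorem vec_inj (hfr : Frame q u w f) {p r s p' r' s' : F} (h : vec u w f p r s = vec u w f p' r' s') :
    p = p' ∧ r = r' ∧ s = s' := by
  refine ⟨?_, ?_, ?_⟩
  · rw [← hfr.coord_f p r s, h, hfr.coord_f]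
  · rw [← hfr.coord_w p r s, h, hfr.coord_w]
  · rw [← hfr.coord_u p r s, h, hfr.coord_u]

theorem smul_pu_iff (hfr : Frame q u w f) {g : G} :
    g • pu hfr = pu hfr ↔ ∃ l : F, l ≠ 0 ∧ ap g u = l • u := by
  constructor
  · intro h
    obtain ⟨l, hl⟩ := Submodule.mem_span_singleton.1
      (mem_of_smul_eq h (Submodule.mem_span_singleton_self u))
    refine ⟨l, fun h0 => ne_zero_u hfr (ap_injective g ?_), hl.symm⟩
    rw [← hl, h0, zero_smul, ap_zero]
  · rintro ⟨l, hl0, hl⟩
    exact smul_isoPt_eq (ne_zero_u hfr) hfr.uu (ne_zero_u hfr) hfr.uu hl0 hl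

/-! ### The torus -/

theorem exists_T (hF : Fintype.card F = q ^ 2) (hfr : Frame q u w f) (l : Fˣ) :
    ∃ g : G, ∀ p r s, ap g (vec u w f p r s) =
      vec u w f ((l : F) * p) ((l : F) ^ q / l * r) (((l : F) ^ q)⁻¹ * s) := by
  have hl := (pow_q_eq_zero_iff hF).not.2 l.ne_zero
  have hl' := l.ne_zero
  obtain ⟨g, hg⟩ := exists_map hF hfr !![(l : F), 0, 0; 0, (l : F) ^ q / l, 0; 0, 0, ((l : F) ^ q)⁻¹]
    (by simp [det_fin_three]; field_simp)
    (fun y z => by
      simp [Matrix.mulVec, dotProduct, Fin.sum_univ_three, mul_pow, div_pow, pow_q_q hF]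
      field_simp)
  refine ⟨g, fun p r s => (hg p r s).trans ?_⟩
  congr 1 <;> simp [Matrix.mulVec, dotProduct, Fin.sum_univ_three]

/-- The diagonal element with eigenvalue `l` on `u`. -/
noncomputable def tEl (hF : Fintype.card F = q ^ 2) (hfr : Frame q u w f) (l : Fˣ) : G :=
  Classical.choose (exists_T hF hfr l)

theorem ap_T (hF : Fintype.card F = q ^ 2) (hfr : Frame q u w f) (l : Fˣ) (p r s : F) :
    ap (tEl hF hfr l) (vec u w f p r s) =
      vec u w f ((l : F) * p) ((l : F) ^ q / l * r) (((l : F) ^ q)⁻¹ * s) :=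
  Classical.choose_spec (exists_T hF hfr l) p r s

/-- The torus as a homomorphism. -/
noncomputable def tHom (hF : Fintype.card F = q ^ 2) (hfr : Frame q u w f) : Fˣ →* G :=
  MonoidHom.mk' (tEl hF hfr) fun a b => eq_of_ap hfr fun p r s => by
    rw [ap_mul, ap_T, ap_T, ap_T]
    congr 1
    · push_cast; ring
    · push_cast; rw [mul_pow]; field_simp
    · push_cast; rw [mul_pow, mul_inv]; ring

theorem ap_tHom (hF : Fintype.card F = q ^ 2) (hfr : Frame q u w f) (l : Fˣ) (p r s : F) :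
    ap (tHom hF hfr l) (vec u w f p r s) =
      vec u w f ((l : F) * p) ((l : F) ^ q / l * r) (((l : F) ^ q)⁻¹ * s) :=
  ap_T hF hfr l p r s

/-- The multiplier on the first parameter. -/
noncomputable def mu (q : ℕ) : Fˣ →* Fˣ := powMonoidHom (2 * q - 1)

/-- The multiplier on the second parameter. -/
noncomputable def nu (q : ℕ) : Fˣ →* Fˣ := powMonoidHom (q + 1)

theorem mu_val (hF : Fintype.card F = q ^ 2) (l : Fˣ) :
    ((mu q l : Fˣ) : F) = (l : F) ^ q * ((l : F) ^ q / l) := by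
  have hl := l.ne_zero
  have h2 : 1 ≤ 2 * q := by have := q_pos hF; omega
  rw [mu, powMonoidHom_apply, Units.val_pow_eq_pow_val, mul_div_assoc', ← pow_add, ← two_mul,
    eq_div_iff hl, ← pow_succ, Nat.sub_add_cancel h2]

theorem nu_val (l : Fˣ) : ((nu q l : Fˣ) : F) = (l : F) ^ q * (l : F) := by
  rw [nu, powMonoidHom_apply, Units.val_pow_eq_pow_val, pow_succ]

theorem ok_scale (hF : Fintype.card F = q ^ 2) (l : Fˣ) {b β : F} (h : Ok q b β) :
    Ok q (((mu q l : Fˣ) : F) * b) (((nu q l : Fˣ) : F) * β) := by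
  have hl := l.ne_zero
  have := (pow_q_eq_zero_iff hF).not.2 hl
  simp only [Ok, mu_val hF, nu_val, mul_pow, div_pow, pow_q_q hF] at *
  field_simp
  linear_combination ((l : F) * (l : F) ^ q) * h

theorem T_conj_E (hF : Fintype.card F = q ^ 2) (hfr : Frame q u w f) (l : Fˣ) {b β : F} (h : Ok q b β) :
    tHom hF hfr l * eSU hF (h.spec hfr) =
      eSU hF ((ok_scale hF l h).spec hfr) * tHom hF hfr l := by
  refine eq_of_ap hfr fun p r s => ?_
  have hl := l.ne_zero
  have := (pow_q_eq_zero_iff hF).not.2 hl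
  rw [ap_mul, ap_mul, ap_E hF hfr h, ap_tHom, ap_tHom, ap_E hF hfr (ok_scale hF l h), mu_val hF, nu_val]
  congr 1
  · simp only [mul_pow, div_pow, pow_q_q hF]
    field_simp
  · field_simp

theorem T_central (hF : Fintype.card F = q ^ 2) (hfr : Frame q u w f) {l : Fˣ} (h3 : l ^ 3 = 1)
    (hq1 : l ^ (q + 1) = 1) : tHom hF hfr l ∈ Subgroup.center G := by
  refine smul_mem_center (l := (l : F)) fun x => ?_
  have hl := l.ne_zero
  have e3 : (l : F) ^ 3 = 1 := by
    rw [← Units.val_pow_eq_pow_val, h3, Units.val_one]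
  have eq1 : (l : F) ^ q * l = 1 := by
    rw [← pow_succ, ← Units.val_pow_eq_pow_val, hq1, Units.val_one]
  have elq : (l : F) ^ q = (l : F)⁻¹ := eq_inv_of_mul_eq_one_left eq1
  conv_lhs => rw [hfr.expand x]
  conv_rhs => rw [hfr.expand x]
  rw [ap_tHom, vec_smul, elq, inv_inv]
  congr 1
  field_simp
  linear_combination (-(hermForm 3 F q x w)) * e3

theorem ap_E_u (hF : Fintype.card F = q ^ 2) (hfr : Frame q u w f) {b β : F} (h : Ok q b β) :
    ap (eSU hF (h.spec hfr)) u = u := by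
  simpa [vec] using ap_E hF hfr h 1 0 0

theorem ap_E_f (hF : Fintype.card F = q ^ 2) (hfr : Frame q u w f) {b β : F} (h : Ok q b β) :
    ap (eSU hF (h.spec hfr)) f = vec u w f β b 1 := by
  simpa [vec] using ap_E hF hfr h 0 0 1

theorem ap_T_u (hF : Fintype.card F = q ^ 2) (hfr : Frame q u w f) (l : Fˣ) :
    ap (tHom hF hfr l) u = (l : F) • u := by
  simpa [vec] using ap_tHom hF hfr l 1 0 0

theorem ap_T_f (hF : Fintype.card F = q ^ 2) (hfr : Frame q u w f) (l : Fˣ) :
    ap (tHom hF hfr l) f = ((l : F) ^ q)⁻¹ • f := by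
  simpa [vec] using ap_tHom hF hfr l 0 0 1

/-! ### The decomposition of the point stabiliser -/

theorem eq_one_of_fix (hF : Fintype.card F = q ^ 2) (hfr : Frame q u w f) {A : G} (hu : ap A u = u)
    (hf : ap A f = f) : A = 1 := by
  set X : Matrix (Fin 3) (Fin 3) F := Matrix.of fun i j => ![u i, w i, f i] j with hX
  have hXne : X.det ≠ 0 := fun h0 => by
    have := congrArg Matrix.det hfr.mul_eq_one
    rw [det_mul, det_one, ← hX, h0, mul_zero] at this
    exact zero_ne_one this
  obtain ⟨ν, hν⟩ : ∃ ν : F, ap A w = ν • w := by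
    refine ⟨hermForm 3 F q (ap A w) w, ?_⟩
    conv_lhs => rw [hfr.expand (ap A w)]
    have e1 : hermForm 3 F q (ap A w) f = 0 := by
      conv_lhs => rw [← hf]
      rw [herm_ap, hfr.wf]
    have e2 : hermForm 3 F q (ap A w) u = 0 := by
      conv_lhs => rw [← hu]
      rw [herm_ap, hfr.wu]
    rw [e1, e2]
    simp [vec]
  have hν1 : ν = 1 := by
    have hmul : mat A * X = X * Matrix.diagonal ![1, ν, 1] := by
      ext i j
      rw [Matrix.mul_diagonal]
      fin_cases j
      · have := congrFun hu i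
        simpa [Matrix.mul_apply, X, ap_def, Matrix.mulVec, dotProduct] using this
      · have := congrFun hν i
        simpa [Matrix.mul_apply, X, ap_def, Matrix.mulVec, dotProduct, mul_comm] using this
      · have := congrFun hf i
        simpa [Matrix.mul_apply, X, ap_def, Matrix.mulVec, dotProduct] using this
    have := congrArg Matrix.det hmul
    rw [det_mul, det_mul, det_diagonal, show (mat A).det = 1 from (A : Matrix.SpecialLinearGroup (Fin 3) F).2,
      one_mul, Fin.prod_univ_three] at this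
    simp only [Matrix.cons_val_zero, Matrix.cons_val_one, Matrix.cons_val_two, Matrix.tail_cons,
      Matrix.head_cons, one_mul, mul_one] at this
    exact (mul_eq_left₀ hXne).1 this.symm
  refine eq_of_ap hfr fun p r s => ?_
  rw [ap_one]
  simp only [vec, ap_add, ap_smul, hu, hf, hν, hν1, one_smul]

/-- Every element fixing the point of `u` is a product of a unipotent and a torus element. -/
theorem exists_decomp (hF : Fintype.card F = q ^ 2) (hfr : Frame q u w f) {g : G}
    (hg : g • pu hfr = pu hfr) :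
    ∃ (l : Fˣ) (b β : F) (h : Ok q b β), g = eSU hF (h.spec hfr) * tHom hF hfr l := by
  obtain ⟨l, hl0, hl⟩ := (smul_pu_iff hfr).1 hg
  have hlq := (pow_q_eq_zero_iff hF).not.2 hl0
  set r := hermForm 3 F q (ap g f) w with hr
  set p := hermForm 3 F q (ap g f) f with hp
  have hs : hermForm 3 F q (ap g f) u = (l ^ q)⁻¹ := by
    have h1 := herm_ap g f u
    rw [hl, herm_smul_right, hfr.fu] at h1
    exact eq_inv_of_mul_eq_one_right h1
  have hexp : ap g f = vec u w f p r (l ^ q)⁻¹ := by rw [hfr.expand (ap g f), hs]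
  have hok : Ok q (r * l ^ q) (p * l ^ q) := by
    have h1 := herm_ap g f f
    rw [hexp, hfr.herm_vec hF, hfr.ff, inv_pow, pow_q_q hF] at h1
    simp only [Ok, mul_pow, pow_q_q hF]
    field_simp at h1
    linear_combination h1
  refine ⟨Units.mk0 l hl0, _, _, hok, ?_⟩
  set k := eSU hF (hok.spec hfr) * tHom hF hfr (Units.mk0 l hl0) with hk
  have hku : ap k u = ap g u := by
    rw [hk, ap_mul, ap_T_u, ap_smul, ap_E_u hF hfr hok, hl, Units.val_mk0]
  have hkf : ap k f = ap g f := by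
    rw [hk, ap_mul, ap_T_f, ap_smul, ap_E_f hF hfr hok, hexp, Units.val_mk0, vec_smul]
    congr 1 <;> field_simp
  have h1 : k⁻¹ * g = 1 := eq_one_of_fix hF hfr (by rw [ap_mul, ← hku, ap_inv_ap])
    (by rw [ap_mul, ← hkf, ap_inv_ap])
  exact (inv_mul_eq_one.1 h1).symm

theorem E_smul_pu (hF : Fintype.card F = q ^ 2) (hfr : Frame q u w f) {b β : F} (h : Ok q b β) :
    eSU hF (h.spec hfr) • pu hfr = pu hfr :=
  (smul_pu_iff hfr).2 ⟨1, one_ne_zero, by rw [ap_E_u hF hfr h, one_smul]⟩

theorem T_smul_pu (hF : Fintype.card F = q ^ 2) (hfr : Frame q u w f) (l : Fˣ) :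
    tHom hF hfr l • pu hfr = pu hfr :=
  (smul_pu_iff hfr).2 ⟨l, l.ne_zero, ap_T_u hF hfr l⟩

theorem decomp_unique (hF : Fintype.card F = q ^ 2) (hfr : Frame q u w f) {l l' : Fˣ} {b β b' β' : F}
    (h : Ok q b β) (h' : Ok q b' β')
    (e : eSU hF (h.spec hfr) * tHom hF hfr l = eSU hF (h'.spec hfr) * tHom hF hfr l') :
    l = l' ∧ b = b' ∧ β = β' := by
  have e1 := congrArg (fun A => ap A (vec u w f 1 0 0)) e
  have e2 := congrArg (fun A => ap A (vec u w f 0 0 1)) e
  simp only [ap_mul, ap_tHom, ap_E hF hfr h, ap_E hF hfr h'] at e1 e2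
  have hl : (l : F) = (l' : F) := by simpa using (vec_inj hfr e1).1
  obtain ⟨h1, h2, -⟩ := vec_inj hfr e2
  have hlu : l = l' := Units.ext hl
  have := (pow_q_eq_zero_iff hF).not.2 l.ne_zero
  refine ⟨hlu, ?_, ?_⟩
  · simpa [hl] using h2
  · simpa [hl] using h1

/-! ### The points -/

theorem exists_E_pf (hF : Fintype.card F = q ^ 2) (hfr : Frame q u w f) {x : Pts} (hx : x ≠ pu hfr) :
    ∃ (b β : F) (h : Ok q b β), x = eSU hF (h.spec hfr) • pf hfr := by
  obtain ⟨v, hv0, hv, rfl⟩ := exists_isoPt x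
  have hexp := hfr.expand v
  set p := hermForm 3 F q v f
  set r := hermForm 3 F q v w
  set s := hermForm 3 F q v u
  have hv' := hv
  rw [hexp, hfr.herm_vec hF] at hv'
  have hs : s ≠ 0 := by
    intro hs0
    rw [hs0, zero_pow (q_ne_zero hF), mul_zero, zero_add, zero_mul, add_zero] at hv'
    have hr : r = 0 := by
      rcases mul_eq_zero.1 hv' with h | h
      · exact h
      · exact (pow_q_eq_zero_iff hF).1 h
    have hv2 : v = p • u := by rw [hexp, hs0, hr]; simp [vec]
    refine hx (Subtype.ext ?_)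
    show Submodule.span F {v} = Submodule.span F {u}
    rw [hv2, Submodule.span_singleton_smul_eq (Ne.isUnit fun h0 => hv0 (by rw [hv2, h0, zero_smul])) u]
  have hsq := (pow_q_eq_zero_iff hF).not.2 hs
  have hok : Ok q (r / s) (p / s) := by
    simp only [Ok, div_pow]
    field_simp
    linear_combination hv'
  refine ⟨_, _, hok, (smul_isoPt_eq (ne_zero_f hfr) hfr.ff hv0 hv (inv_ne_zero hs) ?_).symm⟩
  rw [ap_E_f hF hfr hok, hexp, vec_smul]
  congr 1 <;> field_simp

theorem E_pf_ne_pu (hF : Fintype.card F = q ^ 2) (hfr : Frame q u w f) {b β : F} (h : Ok q b β) :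
    eSU hF (h.spec hfr) • pf hfr ≠ pu hfr := by
  intro e
  have e1 : ap (eSU hF (h.spec hfr)) f ∈ (pu hfr).1 := by
    rw [← e, coe_smul_isoPoint]
    exact Submodule.mem_map_of_mem (Submodule.mem_span_singleton_self f)
  obtain ⟨c, hc⟩ := Submodule.mem_span_singleton.1 e1
  rw [ap_E_f hF hfr h] at hc
  have := congrArg (fun x => hermForm 3 F q x u) hc
  simp [herm_smul_left, hfr.uu, hfr.coord_u] at this

theorem E_pf_inj (hF : Fintype.card F = q ^ 2) (hfr : Frame q u w f) {b β b' β' : F} (h : Ok q b β)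
    (h' : Ok q b' β') (e : eSU hF (h.spec hfr) • pf hfr = eSU hF (h'.spec hfr) • pf hfr) :
    b = b' ∧ β = β' := by
  have e1 : ap (eSU hF (h.spec hfr)) f ∈ (eSU hF (h'.spec hfr) • pf hfr).1 := by
    rw [← e, coe_smul_isoPoint]
    exact Submodule.mem_map_of_mem (Submodule.mem_span_singleton_self f)
  have e2 : (eSU hF (h'.spec hfr) • pf hfr).1 = Submodule.span F {ap (eSU hF (h'.spec hfr)) f} := by
    rw [coe_smul_isoPoint]
    exact map_span_singleton _ _
  rw [e2] at e1
  obtain ⟨c, hc⟩ := Submodule.mem_span_singleton.1 e1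
  rw [ap_E_f hF hfr h, ap_E_f hF hfr h', vec_smul] at hc
  obtain ⟨h1, h2, h3⟩ := vec_inj hfr hc
  rw [mul_one] at h3
  rw [h3, one_mul] at h1 h2
  exact ⟨h2.symm, h1.symm⟩

theorem T_smul_E_pf (hF : Fintype.card F = q ^ 2) (hfr : Frame q u w f) (l : Fˣ) {b β : F} (h : Ok q b β) :
    tHom hF hfr l • (eSU hF (h.spec hfr) • pf hfr) =
      eSU hF ((ok_scale hF l h).spec hfr) • pf hfr := by
  rw [smul_smul, T_conj_E hF hfr l h, ← smul_smul]
  congr 1
  refine smul_isoPt_eq (ne_zero_f hfr) hfr.ff (ne_zero_f hfr) hfr.ff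
    (l := ((l : F) ^ q)⁻¹) (inv_ne_zero ((pow_q_eq_zero_iff hF).not.2 l.ne_zero)) ?_
  exact ap_T_f hF hfr l

theorem T_smul_pf (hF : Fintype.card F = q ^ 2) (hfr : Frame q u w f) (l : Fˣ) :
    tHom hF hfr l • pf hfr = pf hfr :=
  smul_isoPt_eq (ne_zero_f hfr) hfr.ff (ne_zero_f hfr) hfr.ff
    (l := ((l : F) ^ q)⁻¹) (inv_ne_zero ((pow_q_eq_zero_iff hF).not.2 l.ne_zero)) (ap_T_f hF hfr l)

end Cfsg.Agent.H72.PSUThree
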