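import Cfsg.Agent.H72.PSUThree.Roots

/-!
The three shapes of the point stabiliser in a subgroup of small index.
-/

set_option autoImplicit false
set_option linter.unusedSectionVars false

namespace Cfsg.Agent.H72.PSUThree

open Cfsg MulAction Cfsg.Agent.Unitary Cfsg.Agent.H52.SUThree
open Matrix hiding vec

variable {F : Type*} [Field F] [Fintype F] {q : ℕ} {u w f : Fin 3 → F}

local notation "G" => SU 3 F q

/-- A multiplicative group stabilising an additive one acts freely on its nonzero elements. -/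
theorem dvd_card_sub_one (M : Subgroup Fˣ) (L : AddSubgroup F)
    (h : ∀ m ∈ M, ∀ b ∈ L, (m : F) * b ∈ L) : Nat.card M ∣ Nat.card L - 1 := by
  classical
  set S : Set Fˣ := {x | (x : F) ∈ L} with hS
  have e1 : Nat.card L = Nat.card S + 1 := by
    rw [← Finite.card_option]
    refine Nat.card_congr
      { toFun := fun b => if hb : (b : F) = 0 then none else some ⟨Units.mk0 (b : F) hb, b.2⟩
        invFun := fun o => o.elim 0 fun x => ⟨((x : Fˣ) : F), x.2⟩
        left_inv := fun b => by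
          by_cases hb : (b : F) = 0
          · simp only [dif_pos hb, Option.elim_none]
            exact Subtype.ext hb.symm
          · simp only [dif_neg hb, Option.elim_some]
            rfl
        right_inv := fun o => by
          cases o with
          | none => simp
          | some x => simp }
  have e2 : QuotientGroup.mk ⁻¹' ((QuotientGroup.mk : Fˣ → Fˣ ⧸ M) '' S) = S := by
    refine Set.Subset.antisymm ?_ (Set.subset_preimage_image _ _)
    rintro x ⟨y, hy, e⟩
    have hm := QuotientGroup.eq.1 e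
    have := h _ hm _ hy
    rwa [← Units.val_mul, mul_comm, mul_inv_cancel_left] at this
  rw [e1, Nat.add_sub_cancel, ← e2,
    Nat.card_congr (QuotientGroup.preimageMkEquivSubgroupProdSet M _), Nat.card_prod]
  exact Dvd.intro _ rfl

theorem exists_eq_pow {p k : ℕ} [Fact p.Prime] (hF : Fintype.card F = q ^ 2) (hk : q = p ^ k)
    (L : AddSubgroup F) : ∃ i, Nat.card L = p ^ i := by
  have h := L.card_addSubgroup_dvd_card
  rw [Nat.card_eq_fintype_card (α := F), hF, hk, ← pow_mul] at h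
  obtain ⟨i, -, hi⟩ := (Nat.dvd_prime_pow (Fact.out : p.Prime)).1 h
  exact ⟨i, hi⟩

theorem two_mul_le_of_lt {p i j : ℕ} (hp : 2 ≤ p) (h : p ^ i < p ^ j) : 2 * p ^ i ≤ p ^ j := by
  have hij : i + 1 ≤ j := (Nat.pow_lt_pow_iff_right hp).1 h
  calc 2 * p ^ i ≤ p * p ^ i := Nat.mul_le_mul_right _ hp
    _ = p ^ (i + 1) := (pow_succ' p i).symm
    _ ≤ p ^ j := Nat.pow_le_pow_right (by omega) hij

theorem mu_eq_one_iff (hF : Fintype.card F = q ^ 2) (l : Fˣ) :
    mu q l = 1 ↔ l ^ 3 = 1 ∧ l ^ (q + 1) = 1 := by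
  have hq := two_le_q hF
  have hl : l ^ (q ^ 2 - 1) = 1 := by
    classical
    rw [← hF, ← Fintype.card_units]
    exact pow_card_eq_one
  have e1 : (2 * q - 1) * (2 * q + 1) + 1 = 4 * q ^ 2 := by
    rw [Nat.sub_mul, one_mul]
    have : 2 * q + 1 ≤ 2 * q * (2 * q + 1) := Nat.le_mul_of_pos_left _ (by omega)
    zify [this]
    ring
  have hq2 : 1 ≤ q ^ 2 := Nat.one_le_pow _ _ (by omega)
  constructor
  · intro h
    rw [mu, powMonoidHom_apply] at h
    have h4 : l ^ ((2 * q - 1) * (2 * q + 1)) = l ^ (4 * (q ^ 2 - 1) + 3) := by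
      congr 1; omega
    rw [pow_mul, h, one_pow, pow_add, mul_comm 4, pow_mul, hl, one_pow, one_mul] at h4
    refine ⟨h4.symm, ?_⟩
    have h5 : l ^ (2 * (q + 1)) = l ^ ((2 * q - 1) + 3) := by congr 1; omega
    rw [pow_add, h, ← h4, one_mul] at h5
    -- `l ^ (2 (q + 1)) = 1` and `l ^ (3 (q + 1)) = 1`
    have h6 : l ^ (3 * (q + 1)) = 1 := by rw [pow_mul, ← h4, one_pow]
    rwa [show 3 * (q + 1) = 2 * (q + 1) + (q + 1) by ring, pow_add, h5, one_mul] at h6
  · rintro ⟨h3, h1⟩
    rw [mu, powMonoidHom_apply]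
    have : l ^ (2 * q - 1) * l ^ 3 = (l ^ (q + 1)) ^ 2 := by
      rw [← pow_add, ← pow_mul]; congr 1; omega
    rwa [h3, h1, one_pow, mul_one] at this

theorem card_mu_ker (hF : Fintype.card F = q ^ 2) :
    Nat.card (mu q : Fˣ →* Fˣ).ker = Nat.gcd 3 (q + 1) := by
  have e : (mu q : Fˣ →* Fˣ).ker = (powMonoidHom (Nat.gcd 3 (q + 1)) : Fˣ →* Fˣ).ker := by
    ext l
    rw [MonoidHom.mem_ker, MonoidHom.mem_ker, mu_eq_one_iff hF, powMonoidHom_apply, pow_gcd_eq_one]
  rw [e, IsCyclic.card_powMonoidHom_ker, card_units hF]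
  exact Nat.gcd_eq_right (dvd_mul_of_dvd_left (Nat.gcd_dvd_right _ _) _)

variable (hF : Fintype.card F = q ^ 2) (hfr : Frame q u w f) (H : Subgroup (SU 3 F q))

theorem ker_mu_le_lamSet (hc : Subgroup.center G ≤ H) :
    (mu q : Fˣ →* Fˣ).ker ≤ lamSet hF hfr H := by
  intro l hl
  obtain ⟨h3, h1⟩ := (mu_eq_one_iff hF l).1 hl
  refine (mem_lamSet hF hfr H).2 ⟨0, 0, Ok.zero hF, ?_⟩
  rw [E_zero hF hfr, one_mul]
  exact hc (T_central hF hfr h3 h1)

theorem card_lamSet (hc : Subgroup.center G ≤ H) :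
    Nat.card (lamSet hF hfr H) = Nat.gcd 3 (q + 1) * Nat.card ((lamSet hF hfr H).map (mu q)) := by
  have hle := ker_mu_le_lamSet hF hfr H hc
  set M := lamSet hF hfr H
  set φ := (mu q).comp M.subtype with hφ
  rw [← φ.ker.card_mul_index, Subgroup.index_ker, ← card_mu_ker hF]
  congr 1
  · exact Nat.card_congr
      { toFun := fun g => ⟨g.1.1, g.2⟩
        invFun := fun g => ⟨⟨g.1, hle g.2⟩, g.2⟩
        left_inv := fun _ => rfl
        right_inv := fun _ => rfl }
  · rw [hφ, MonoidHom.range_comp, M.range_subtype]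

theorem card_map_mu_dvd :
    Nat.card ((lamSet hF hfr H).map (mu q)) ∣ Nat.card (params hF hfr H) - 1 :=
  dvd_card_sub_one _ _ fun m hm b hb => by
    obtain ⟨l, hl, rfl⟩ := hm
    exact mu_mul_mem hF hfr H hl hb

theorem card_map_nu_dvd :
    Nat.card ((lamSet hF hfr H).map (nu q)) ∣ Nat.card (zset hF hfr H) - 1 :=
  dvd_card_sub_one _ _ fun m hm b hb => by
    obtain ⟨l, hl, rfl⟩ := hm
    exact nu_mul_mem hF hfr H hl hb

theorem sq_mem_zset [CharP F 2] {b : F} (hb : b ∈ params hF hfr H) :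
    b * b ^ q ∈ zset hF hfr H := by
  obtain ⟨β, h, hm⟩ := hb
  have h2 : (2 : F) = 0 := CharTwo.two_eq_zero
  have h0 : Ok q (0 : F) (b * b ^ q) := by
    rw [ok_zero_iff hF, norm_pow_q hF]
    linear_combination (b * b ^ q) * h2
  refine ⟨h0, ?_⟩
  have := mul_mem hm hm
  rw [E_mul hF hfr h h] at this
  rwa [E_congr hF hfr (h.add hF h) h0 (by linear_combination b * h2)
    (by linear_combination (β - b * b ^ q) * h2)] at this

theorem zset_card_lt (hq : 3 ≤ q) (hH : Good H) : Nat.card (zset hF hfr H) < q := by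
  let i : zset hF hfr H → {x : F // x + x ^ q = 0} := fun b => ⟨b.1, skew_of_mem_zset hF hfr H b.2⟩
  have hi : Function.Injective i := fun a b e =>
    Subtype.ext (congrArg (fun z : {x : F // x + x ^ q = 0} => z.1) e)
  by_contra hlt
  have hbij : Function.Bijective i := by
    refine (Nat.bijective_iff_injective_and_card i).2 ⟨hi, le_antisymm (Nat.card_le_card_of_injective i hi) ?_⟩
    rw [card_trace_zero hF]
    omega
  refine not_root_le hF hq hfr hH fun g hg => ?_
  obtain ⟨β, h, rfl⟩ := (mem_root_iff hF hfr).1 hg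
  obtain ⟨⟨β', h', hm⟩, e⟩ := hbij.2 ⟨β, (ok_zero_iff hF).1 h⟩
  obtain rfl : β' = β := congrArg Subtype.val e
  exact hm

/-- With no transvections the first parameters lie on a line over the fixed field. -/
theorem params_card_le (hz : Nat.card (zset hF hfr H) = 1) : Nat.card (params hF hfr H) ≤ q := by
  have hb := (AddSubgroup.eq_bot_iff_card _).2 hz
  by_cases h0 : ∀ b ∈ params hF hfr H, b = 0
  · rw [(AddSubgroup.eq_bot_iff_forall _).2 h0, AddSubgroup.card_bot]
    exact q_pos hF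
  push Not at h0
  obtain ⟨b, hbm, hb0⟩ := h0
  refine le_trans (Nat.card_le_card_of_injective (fun c : params hF hfr H =>
    (⟨(c : F) / b, ?_⟩ : {x : F // x ^ q = x})) ?_) (card_fixed hF).le
  · have h1 := comm_mem_zset hF hfr H hbm c.2
    rw [hb, AddSubgroup.mem_bot] at h1
    rw [div_pow, div_eq_div_iff ((pow_q_eq_zero_iff hF).not.2 hb0) hb0]
    linear_combination h1
  · intro c c' e
    have h1 := congrArg (fun z : {x : F // x ^ q = x} => z.1) e
    exact Subtype.ext ((div_left_inj' hb0).1 h1)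

/-- The three shapes. -/
theorem Good.shapes (hq : 3 ≤ q) (hH : Good H) :
    (Nat.card (params hF hfr H) = 1 ∧ Nat.card (zset hF hfr H) = 1 ∧
        Nat.card (lamSet hF hfr H) = q ^ 2 - 1) ∨
      (Nat.card (zset hF hfr H) = 1 ∧ Nat.card (params hF hfr H) = q ∧ q % 2 = 1 ∧ q % 3 = 2 ∧
        ∃ s, Nat.card (lamSet hF hfr H) = 3 * s ∧ (s = q - 1 ∨ 2 * s = q - 1)) ∨
      1 < Nat.card (zset hF hfr H) := by
  obtain ⟨p, e, hp, he, hchar, hqp⟩ := exists_char_pow hF
  have : Fact p.Prime := ⟨hp⟩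
  rcases Nat.lt_or_ge 1 (Nat.card (zset hF hfr H)) with hz | hz
  · exact Or.inr (Or.inr hz)
  have hz1 : Nat.card (zset hF hfr H) = 1 := le_antisymm hz Nat.card_pos
  have hlow := hH.le_card_st hF hfr
  rw [card_inf_st hF hfr H, hz1, mul_one] at hlow
  have hLle : Nat.card (lamSet hF hfr H) ≤ q ^ 2 - 1 := by
    refine (Subgroup.card_le_card_group _).trans ?_
    rw [Nat.card_units, Nat.card_eq_fintype_card, hF]
  have hK : 1 ≤ Nat.card (params hF hfr H) := Nat.card_pos
  rcases hK.eq_or_lt with hk | hk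
  · rw [← hk, one_mul] at hlow
    exact Or.inl ⟨hk.symm, hz1, le_antisymm hLle hlow⟩
  refine Or.inr (Or.inl ⟨hz1, ?_⟩)
  obtain ⟨s, hs⟩ : ∃ s, s = Nat.card ((lamSet hF hfr H).map (mu q)) := ⟨_, rfl⟩
  have hL := card_lamSet hF hfr H hH.center_le
  rw [← hs] at hL
  have hsd : s ∣ Nat.card (params hF hfr H) - 1 := hs ▸ card_map_mu_dvd hF hfr H
  have hsle : s ≤ Nat.card (params hF hfr H) - 1 := Nat.le_of_dvd (by omega) hsd
  have hkq := params_card_le hF hfr H hz1
  obtain ⟨i, hi⟩ := exists_eq_pow hF hqp (params hF hfr H)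
  set k := Nat.card (params hF hfr H) with hkdef
  have hd : Nat.gcd 3 (q + 1) ≤ 3 := Nat.le_of_dvd (by norm_num) (Nat.gcd_dvd_left _ _)
  have hq2 : 1 ≤ q ^ 2 := Nat.one_le_pow _ _ (by omega)
  have hkq' : k = q := by
    by_contra hne
    have h2k : 2 * k ≤ q := by
      rw [hi, hqp]
      exact two_mul_le_of_lt hp.two_le (by rw [← hi, ← hqp]; omega)
    have h1 : q ^ 2 - 1 ≤ k * (3 * k) := by
      refine hlow.trans (Nat.mul_le_mul_left _ ?_)
      rw [hL]
      exact Nat.mul_le_mul hd (by omega)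
    have h4 : 4 * (k * k) ≤ q ^ 2 := by nlinarith
    have h5 : 2 * 2 ≤ k * k := Nat.mul_le_mul hk hk
    have h6 : k * (3 * k) = 3 * (k * k) := by ring
    omega
  rw [hkq'] at hlow hsle hsd
  have hd3 : Nat.gcd 3 (q + 1) = 3 := by
    rcases (Nat.dvd_prime Nat.prime_three).1 (Nat.gcd_dvd_left 3 (q + 1)) with h | h
    · exfalso
      rw [h, one_mul] at hL
      have : q * Nat.card (lamSet hF hfr H) ≤ q * (q - 1) := Nat.mul_le_mul_left _ (hL ▸ hsle)
      have h2 : q * (q - 1) < q ^ 2 - 1 := by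
        rw [sq, Nat.mul_sub, mul_one]
        have : q ≤ q * q := Nat.le_mul_self q
        omega
      omega
    · exact h
  rw [hd3] at hL
  refine ⟨hkq', ?_, ?_, s, hL, ?_⟩
  · rw [hqp]
    rcases hp.eq_two_or_odd with rfl | hodd
    · exfalso
      obtain ⟨b, hb, hb0⟩ : ∃ b ∈ params hF hfr H, b ≠ 0 := by
        by_contra hcon
        push Not at hcon
        have := (AddSubgroup.eq_bot_iff_forall _).2 hcon
        rw [hkdef, this, AddSubgroup.card_bot] at hk
        exact lt_irrefl 1 hk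
      have h1 := sq_mem_zset hF hfr H hb
      rw [(AddSubgroup.eq_bot_iff_card _).2 hz1, AddSubgroup.mem_bot] at h1
      exact mul_ne_zero hb0 ((pow_q_eq_zero_iff hF).not.2 hb0) h1
    · rw [Nat.pow_mod, hodd, one_pow, Nat.one_mod]
  · have : 3 ∣ q + 1 := hd3 ▸ Nat.gcd_dvd_right 3 (q + 1)
    omega
  · obtain ⟨j, hj⟩ := hsd
    rw [hL, sq] at hlow
    have hj2 : j ≤ 2 := by
      by_contra hj3
      have h1 : q * (3 * s) ≤ q * (q - 1) := Nat.mul_le_mul_left _ (by rw [hj, mul_comm s]; exact Nat.mul_le_mul_right _ (by omega))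
      have h2 : q * (q - 1) < q * q - 1 := by
        rw [Nat.mul_sub, mul_one]
        have : q ≤ q * q := Nat.le_mul_self q
        omega
      omega
    interval_cases j
    · omega
    · left; omega
    · right; omega

end Cfsg.Agent.H72.PSUThree
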