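import Cfsg.Agent.H72.PSUThree.Line

/-!
The three shapes leave only small fields.
-/

set_option autoImplicit false
set_option linter.unusedSectionVars false

namespace Cfsg.Agent.H72.PSUThree

open Cfsg MulAction Cfsg.Agent.Unitary Cfsg.Agent.H52.SUThree Cfsg.Agent.Linear
open Matrix hiding vec

variable {F : Type*} [Field F] [Fintype F] {q : ℕ} {u w f : Fin 3 → F}

local notation "G" => SU 3 F q
local notation "Pts" => IsoPoint 3 F q

/-- Involutions fix points. -/
theorem exists_fixed_of_invol (hF : Fintype.card F = q ^ 2) (hodd : Odd q) {t : G} (ht : t ≠ 1)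
    (ht2 : t * t = 1) : ∃ x : Pts, t • x = x := by
  obtain ⟨v, hv, rfl⟩ := H53.exists_rinv_eq hodd hF ht ht2
  obtain ⟨u, w, f, hfr⟩ := exists_frame (F := F) hF
  obtain ⟨g, hg⟩ := H53.exists_ap_eq hF hfr.ww hv
  have hgu : hermForm 3 F q (ap g u) v = 0 := by rw [← hg, herm_ap, hfr.uw]
  have hg0 : ap g u ≠ 0 := fun h => ne_zero_u hfr (ap_injective g (by rw [h, ap_zero]))
  refine ⟨isoPt hg0 (by rw [herm_ap]; exact hfr.uu), smul_isoPt_eq hg0 _ hg0 _ (l := -1) (by norm_num) ?_⟩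
  rw [H53.ap_rinv hF hv, hgu]
  module

/-- An element fixing both points is in the torus. -/
theorem eq_T_of_fix (hF : Fintype.card F = q ^ 2) (hfr : Frame q u w f) {g : G}
    (hu : g • pu hfr = pu hfr) (hf : g • pf hfr = pf hfr) : ∃ l, g = tHom hF hfr l := by
  obtain ⟨l, b, β, h, e⟩ := exists_decomp hF hfr hu
  rw [e, mul_smul, T_smul_pf] at hf
  have e2 : eSU hF ((Ok.zero (F := F) hF).spec hfr) • pf hfr = pf hfr := by rw [E_zero hF hfr, one_smul]
  obtain ⟨rfl, rfl⟩ := E_pf_inj hF hfr h (Ok.zero hF) (hf.trans e2.symm)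
  exact ⟨l, by rw [e, E_zero hF hfr, one_mul]⟩

theorem T_injective (hF : Fintype.card F = q ^ 2) (hfr : Frame q u w f) :
    Function.Injective (tHom hF hfr) := fun a b e =>
  (decomp_unique hF hfr (Ok.zero hF) (Ok.zero hF) (by rw [e])).1

theorem fix_T_iff (hF : Fintype.card F = q ^ 2) (hfr : Frame q u w f) {l : Fˣ} (hμ : mu q l ≠ 1)
    (hν : l ^ (q + 1) = 1) {x : Pts} : tHom hF hfr l • x = x ↔ OnLine q w x := by
  by_cases hx : x = pu hfr
  · subst hx; exact ⟨fun _ => onLine_pu hfr, fun _ => T_smul_pu hF hfr l⟩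
  obtain ⟨b, β, h, rfl⟩ := exists_E_pf hF hfr hx
  rw [T_smul_E_pf hF hfr l h, onLine_E_pf_iff hF hfr h]
  constructor
  · intro e
    by_contra hb
    exact hμ (Units.ext (mul_right_cancel₀ hb
      ((E_pf_inj hF hfr (ok_scale hF l h) h e).1.trans (one_mul b).symm)))
  · rintro rfl
    congr 1
    exact E_congr hF hfr (ok_scale hF l h) h (mul_zero _) (by rw [nu, powMonoidHom_apply, hν, Units.val_one, one_mul])

/-- A second fixed point of an element of the point stabiliser. -/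
theorem exists_second_fixed (hF : Fintype.card F = q ^ 2) (hfr : Frame q u w f) {g : G} {l : Fˣ} {b β : F}
    {h : Ok q b β} (e : g = eSU hF (h.spec hfr) * tHom hF hfr l) (hμ : mu q l ≠ 1)
    (hν : nu q l ≠ 1 ∨ ((2 : F) ≠ 0 ∧ g * g = 1)) :
    ∃ (c γ : F) (hc : Ok q c γ), g • (eSU hF (hc.spec hfr) • pf hfr) = eSU hF (hc.spec hfr) • pf hfr := by
  have hμ' : (1 : F) - ((mu q l : Fˣ) : F) ≠ 0 :=
    sub_ne_zero.2 fun h => hμ (Units.ext h.symm)
  set c := b / (1 - ((mu q l : Fˣ) : F)) with hc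
  have hbc : b + ((mu q l : Fˣ) : F) * c = c := by rw [hc]; field_simp; ring
  obtain ⟨γ₀, h₀⟩ := exists_ok hF c
  set ν : F := ((nu q l : Fˣ) : F) with hνdef
  -- the action on the fibre over `c` is an affine map
  set D := β - ((mu q l : Fˣ) : F) * c * b ^ q + ν * γ₀ - γ₀ with hD
  have move : ∀ (τ : F) (hτ : Ok q c (γ₀ + τ)), ∃ hτ' : Ok q c (γ₀ + (D + ν * τ)),
      g • (eSU hF (hτ.spec hfr) • pf hfr) = eSU hF (hτ'.spec hfr) • pf hfr := by
    intro τ hτ
    have h2 := h.add hF (ok_scale hF l hτ)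
    have eb : γ₀ + (D + ν * τ) =
        β + ((nu q l : Fˣ) : F) * (γ₀ + τ) - ((mu q l : Fˣ) : F) * c * b ^ q := by
      rw [hD, hνdef]; ring
    have h3 : Ok q c (γ₀ + (D + ν * τ)) := by
      rw [eb]
      have := h2
      rwa [hbc] at this
    refine ⟨h3, ?_⟩
    rw [e, mul_smul, T_smul_E_pf hF hfr l hτ, smul_smul, E_mul hF hfr h (ok_scale hF l hτ)]
    congr 1
    exact E_congr hF hfr h2 h3 hbc eb.symm
  have hD0 : D + D ^ q = 0 := by
    obtain ⟨h3, -⟩ := move 0 (by rw [add_zero]; exact h₀)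
    rw [mul_zero, add_zero] at h3
    have a1 : γ₀ + D + (γ₀ + D) ^ q + c * c ^ q = 0 := h3
    have a2 : γ₀ + γ₀ ^ q + c * c ^ q = 0 := h₀
    rw [add_pow_q hF] at a1
    linear_combination a1 - a2
  have okOf : ∀ τ : F, τ + τ ^ q = 0 → Ok q c (γ₀ + τ) := fun τ hτ => by
    have a2 : γ₀ + γ₀ ^ q + c * c ^ q = 0 := h₀
    simp only [Ok, add_pow_q hF]
    linear_combination a2 + hτ
  rcases hν with hν | ⟨h2, hg2⟩
  · have hν' : (1 : F) - ν ≠ 0 := sub_ne_zero.2 fun h => hν (Units.ext h.symm)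
    set τ := D / (1 - ν) with hτdef
    have hνq : ν ^ q = ν := by rw [hνdef, nu_val, mul_pow, pow_q_q hF, mul_comm]
    have hτ : τ + τ ^ q = 0 := by
      rw [hτdef, div_pow, sub_pow_q hF 1 ν, one_pow, hνq, ← add_div, hD0, zero_div]
    obtain ⟨h3, h4⟩ := move τ (okOf τ hτ)
    refine ⟨c, _, okOf τ hτ, h4.trans ?_⟩
    congr 1
    exact E_congr hF hfr h3 (okOf τ hτ) rfl (by rw [hτdef]; field_simp; ring)
  · obtain ⟨h3, h4⟩ := move 0 (okOf 0 (by simp [q_ne_zero hF]))
    have hD1 : D = 0 := by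
      have h3' : Ok q c (γ₀ + D) := okOf D hD0
      obtain ⟨h5, h6⟩ := move D (okOf D hD0)
      have h7 : ∀ X : Pts, g • g • X = X := fun X => by rw [smul_smul, hg2, one_smul]
      have h8 := h7 (eSU hF ((okOf 0 (by simp [q_ne_zero hF])).spec hfr) • pf hfr)
      rw [h4, E_congr hF hfr h3 h3' rfl (by ring), h6] at h8
      have := (E_pf_inj hF hfr h5 (okOf 0 (by simp [q_ne_zero hF])) h8).2
      have hν1 : ν = 1 ∨ ν ≠ 1 := em _
      rcases hν1 with hν1 | hν1
      · rw [hν1] at this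
        exact (mul_eq_zero.1 (show (2 : F) * D = 0 by linear_combination this)).resolve_left h2
      · by_contra hne
        have h8 : (1 + ν) * D = 0 := by linear_combination this
        have h9 : ν = -1 := by linear_combination (mul_eq_zero.1 h8).resolve_right hne
        -- then the reflection still has a fixed point, but `ν` is a norm of a square root of one
        have hl2 : l * l = 1 := by
          obtain ⟨l', b', β', h', e'⟩ := exists_decomp hF hfr (g := g * g)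
            (by rw [hg2, one_smul])
          have hmem : g ∈ st hfr := by
            rw [e]; exact mem_stabilizer_iff.2 (by rw [mul_smul, T_smul_pu, E_smul_pu hF hfr h])
          have := map_mul (lamHom hF hfr) ⟨g, hmem⟩ ⟨g, hmem⟩
          rw [show (⟨g, hmem⟩ * ⟨g, hmem⟩ : st hfr) = 1 from Subtype.ext hg2, map_one,
            lamHom_eq hF hfr h (g := ⟨g, hmem⟩) e] at this
          exact this.symm
        have hl : (l : F) * (l : F) = 1 := by rw [← Units.val_mul, hl2, Units.val_one]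
        rcases mul_self_eq_one_iff.1 hl with hl1 | hl1
        · exact hν1 (by rw [hνdef, nu_val, hl1, one_pow, one_mul])
        · exact hν1 (by rw [hνdef, nu_val, hl1, neg_pow_q hF, one_pow, neg_mul_neg, one_mul])
    refine ⟨c, _, okOf 0 (by simp [q_ne_zero hF]), h4.trans ?_⟩
    congr 1
    exact E_congr hF hfr h3 (okOf 0 (by simp [q_ne_zero hF])) rfl (by rw [hD1]; ring)

variable (hF : Fintype.card F = q ^ 2) (hfr : Frame q u w f) (H : Subgroup (SU 3 F q))

include hF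

theorem coprime_q_card_units : Nat.Coprime q (Nat.card Fˣ) := by
  rw [Nat.card_units, Nat.card_eq_fintype_card, hF]
  have hq2 : 1 ≤ q ^ 2 := Nat.one_le_pow _ _ (q_pos hF)
  have : Nat.Coprime (q ^ 2) (q ^ 2 - 1) := (Nat.coprime_self_sub_right hq2).2 (Nat.coprime_one_right _)
  exact this.coprime_dvd_left (dvd_pow_self q two_ne_zero)

/-- With transvections: the line gives small fields. -/
theorem Good.transvection_cases (hq : 3 ≤ q) (hH : Good H)
    (hz : 1 < Nat.card (zset hF hfr H)) :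
    (q % 2 = 0 ∧ Nat.card (zset hF hfr H) = 2) ∨ (q = 9 ∧ Nat.card (zset hF hfr H) = 3) := by
  obtain ⟨p, e, hp, he, hchar, hqp⟩ := exists_char_pow hF
  have : Fact p.Prime := ⟨hp⟩
  obtain ⟨i, hi⟩ := exists_eq_pow hF hqp (zset hF hfr H)
  have hlt := zset_card_lt hF hfr H hq hH
  set A := H ⊓ lineSpecial hF hfr with hA
  have hAs : ∀ a ∈ A, a ∈ lineStab hfr := fun a ha => ((mem_lineSpecial hF hfr).1 ha.2).1
  obtain ⟨β, hβ, hβ0⟩ : ∃ β ∈ zset hF hfr H, β ≠ 0 := by
    by_contra hcon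
    push Not at hcon
    rw [(AddSubgroup.eq_bot_iff_forall _).2 hcon, AddSubgroup.card_bot] at hz
    exact lt_irrefl 1 hz
  obtain ⟨hok, hm⟩ := hβ
  set g₀ := eSU hF (hok.spec hfr) with hg₀
  have hg₀1 : g₀ ≠ 1 := fun h => hβ0 (E_inj hF hfr hok (Ok.zero hF) (h.trans (E_zero hF hfr).symm)).2
  have htrans : ∀ x y : Pts, OnLine q w x → OnLine q w y → ∃ a ∈ A, a • x = y := by
    refine transitive_of_unique_fix p A (OnLine q w) (fun a ha x hx => onLine_smul hF hfr (hAs a ha) hx) ?_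
    intro x hx
    obtain ⟨h, hh, rfl⟩ := hH.transitive hF (pu hfr) x
    have hr : g₀ ∈ rootSub (pu hfr) := (mem_root_iff hF hfr).2 ⟨_, hok, rfl⟩
    have hx' := conj_mem_rootSub hr h
    refine ⟨h * g₀ * h⁻¹, ⟨H.mul_mem (H.mul_mem hh hm) (H.inv_mem hh), root_le_lineSpecial hF hfr hx hx'⟩, ?_, ?_, ?_⟩
    · have hP := isPGroup_of_mem_uni hF hqp hfr (root_le_uni hF hfr hr)
      have := hP.map (MulAut.conj h).toMonoidHom
      rw [MonoidHom.map_zpowers] at this
      exact this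
    · rw [mul_smul, mul_smul, inv_smul_smul]
      exact congrArg _ (mem_stabilizer_iff.1 (uni_le_st hfr (root_le_uni hF hfr hr)))
    · intro y _ hy
      rw [mul_smul, mul_smul, smul_eq_iff_eq_inv_smul] at hy
      exact (inv_smul_eq_iff.1 (uni_unique_fix hF hfr (root_le_uni hF hfr hr) hg₀1 hy))
  have horb : Nat.card (orbit A (pu hfr)) = q + 1 := by
    rw [← card_onLine hF hfr]
    refine Nat.card_congr (Equiv.subtypeEquivRight fun x => ⟨?_, fun hx => ?_⟩)
    · rintro ⟨a, rfl⟩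
      exact onLine_smul hF hfr (hAs a a.2) (onLine_pu hfr)
    · obtain ⟨a, ha, e⟩ := htrans _ x (onLine_pu hfr) hx
      exact ⟨⟨a, ha⟩, e⟩
  have hk : Nat.card (params hF hfr A) = 1 := by
    refine (AddSubgroup.eq_bot_iff_card _).1 ((AddSubgroup.eq_bot_iff_forall _).2 fun b hb => ?_)
    obtain ⟨γ, h, hmA⟩ := hb
    exact (onLine_E_pf_iff hF hfr h).1 (onLine_smul hF hfr (hAs _ hmA) (onLine_pf hfr))
  have hzA : zset hF hfr A = zset hF hfr H := by
    ext γ
    exact ⟨fun ⟨h, hmA⟩ => ⟨h, hmA.1⟩, fun ⟨h, hmH⟩ => ⟨h, hmH, E_mem_lineSpecial hF hfr h⟩⟩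
  have hcard := card_eq_orbit_mul A (pu hfr)
  rw [horb, card_inf_st hF hfr A, hk, one_mul, hzA] at hcard
  obtain ⟨N, hN, -, hcard'⟩ := card_line_eq hF hfr A
  rw [show A ⊓ lineSpecial hF hfr = A from inf_eq_left.2 inf_le_right, hcard] at hcard'
  set J := lineImage hF hfr A
  obtain ⟨t, ht⟩ := Subgroup.card_dvd_of_le hN
  have hJ : Nat.card J = (q + 1) * Nat.card (zset hF hfr H) * t := by
    refine Nat.eq_of_mul_eq_mul_right (Nat.card_pos (α := N)) ?_
    rw [← hcard', ht]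
    ring
  have htq : Nat.Coprime q t :=
    (coprime_q_card_units hF).coprime_dvd_right ((ht ▸ dvd_mul_left t _).trans (Subgroup.card_subgroup_dvd_card _))
  have hnq : ¬ q ∣ Nat.card J := by
    rw [hJ, hi]
    intro h
    have h1 : q ∣ (q + 1) * p ^ i := htq.dvd_of_dvd_mul_right h
    have h2 : q ∣ p ^ i := (Nat.coprime_self_add_right.2 (Nat.coprime_one_right q)).dvd_of_dvd_mul_left h1
    have h3 := Nat.le_of_dvd (pow_pos hp.pos i) h2
    omega
  have hi1 : 1 ≤ i := by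
    by_contra h
    rw [hi, show i = 0 by omega, pow_zero] at hz
    exact lt_irrefl 1 hz
  have hie : i < e := (Nat.pow_lt_pow_iff_right hp.one_lt).1 (by rw [← hi, ← hqp]; exact hlt)
  have hcharK : CharP (fixK hF) p := ⟨fun n => by
    rw [← CharP.cast_eq_zero_iff F p n, ← Subtype.coe_injective.eq_iff]
    simp⟩
  rcases psl_line_card (fintype_card_fixK hF) hqp J hi1 hie (by rw [hJ, hi]; exact dvd_mul_right _ _) hnq
    with ⟨rfl, rfl⟩ | ⟨h9, rfl⟩
  · exact Or.inl ⟨by rw [hqp, Nat.pow_mod, Nat.mod_self, zero_pow (by omega), Nat.zero_mod], by rw [hi, pow_one]⟩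
  · refine Or.inr ⟨h9, ?_⟩
    have hp3 : p = 3 := by
      have h1 : p ∣ 3 ^ 2 := by
        rw [show (3 : ℕ) ^ 2 = p ^ e by rw [← hqp, h9]; norm_num]
        exact dvd_pow_self p (by omega)
      exact (Nat.prime_dvd_prime_iff_eq hp Nat.prime_three).1 (hp.dvd_of_dvd_pow h1)
    rw [hi, hp3, pow_one]

/-- The stabiliser in `H` of a point and the line through it. -/
theorem card_lineStab_inf_le :
    Nat.card (H ⊓ lineStab hfr : Subgroup G) ≤
      (q + 1) * Nat.card ((H ⊓ lineStab hfr) ⊓ st hfr : Subgroup G) := by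
  rw [card_eq_orbit_mul (H ⊓ lineStab hfr) (pu hfr), ← card_onLine hF hfr]
  refine Nat.mul_le_mul_right _ (Nat.card_le_card_of_injective
    (fun x : orbit (H ⊓ lineStab hfr : Subgroup G) (pu hfr) =>
      (⟨x.1, by obtain ⟨_, ⟨a, rfl⟩⟩ := x; exact onLine_smul hF hfr a.2.2 (onLine_pu hfr)⟩ :
        {x : Pts // OnLine q w x}))
    fun a b e => Subtype.ext (congrArg (fun z : {x : Pts // OnLine q w x} => z.1) e))

/-- A subgroup of the line stabiliser transitive on the line. -/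
theorem card_lineStab_inf_eq (htrans : ∀ x : Pts, OnLine q w x → ∃ h ∈ H, h ∈ lineStab hfr ∧ h • pu hfr = x) :
    Nat.card (H ⊓ lineStab hfr : Subgroup G) =
      (q + 1) * Nat.card ((H ⊓ lineStab hfr) ⊓ st hfr : Subgroup G) := by
  rw [card_eq_orbit_mul (H ⊓ lineStab hfr) (pu hfr), ← card_onLine hF hfr]
  congr 1
  refine Nat.card_congr (Equiv.subtypeEquivRight fun x => ⟨?_, fun hx => ?_⟩)
  · rintro ⟨a, rfl⟩
    exact onLine_smul hF hfr a.2.2 (onLine_pu hfr)
  · obtain ⟨h, hh, hl, e⟩ := htrans x hx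
    exact ⟨⟨h, hh, hl⟩, e⟩

/-- No unipotents: small fields. -/
theorem Good.regular_cases (hq : 3 ≤ q) (hH : Good H) (hk : Nat.card (params hF hfr H) = 1)
    (hz : Nat.card (zset hF hfr H) = 1) (hL : Nat.card (lamSet hF hfr H) = q ^ 2 - 1) :
    q = 3 ∨ q = 5 ∨ q = 7 ∨ q = 11 := by
  obtain ⟨p, e, hp, he, hchar, hqp⟩ := exists_char_pow hF
  have : Fact p.Prime := ⟨hp⟩
  have hcardst : Nat.card (H ⊓ st hfr : Subgroup G) = q ^ 2 - 1 := by
    rw [card_inf_st hF hfr H, hk, hz, hL, one_mul, one_mul]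
  have hLtop : lamSet hF hfr H = ⊤ := Subgroup.eq_top_of_card_eq _ (by
    rw [hL, Nat.card_units, Nat.card_eq_fintype_card, hF])
  obtain ⟨ζ, hζ⟩ := IsCyclic.exists_generator (α := Fˣ)
  obtain ⟨b, β, hok, hm⟩ := (mem_lamSet hF hfr H).1 (hLtop ▸ Subgroup.mem_top ζ)
  have hζo : orderOf ζ = q ^ 2 - 1 := by
    rw [orderOf_eq_card_of_forall_mem_zpowers hζ, Nat.card_units, Nat.card_eq_fintype_card, hF]
  have hq9 : 3 * 3 ≤ q ^ 2 := by rw [sq]; exact Nat.mul_le_mul hq hq
  have hμζ : mu q ζ ≠ 1 := by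
    rw [Ne, mu_eq_one_iff hF]
    rintro ⟨h3, -⟩
    have := Nat.le_of_dvd (by norm_num) (orderOf_dvd_of_pow_eq_one h3)
    omega
  have hνζ : nu q ζ ≠ 1 := by
    rw [nu, powMonoidHom_apply]
    intro h1
    have := Nat.le_of_dvd (by omega) (orderOf_dvd_of_pow_eq_one h1)
    have : q * 3 ≤ q * q := Nat.mul_le_mul_left _ hq
    rw [sq] at hζo
    omega
  set g := eSU hF (hok.spec hfr) * tHom hF hfr ζ with hg
  have hgst : g ∈ st hfr := mem_stabilizer_iff.2 (by rw [hg, mul_smul, T_smul_pu, E_smul_pu hF hfr hok])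
  obtain ⟨c, γ, hc, hfix⟩ := exists_second_fixed hF hfr (h := hok) hg hμζ (Or.inl hνζ)
  set hfr' := frame_map hfr (eSU hF (hc.spec hfr))
  have hpu : pu hfr' = pu hfr := by rw [pu_map hfr (eSU hF (hc.spec hfr)), E_smul_pu hF hfr hc]
  have hgf : g • pf hfr' = pf hfr' := by rw [pf_map hfr (eSU hF (hc.spec hfr))]; exact hfix
  have hker : ∀ x : G, x ∈ H → x ∈ uni u → x = 1 := by
    intro x hx hxu
    have h1 : Nat.card (H ⊓ uni u : Subgroup G) = 1 := by rw [card_inf_uni hF hfr H, hk, hz]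
    have h2 : x ∈ (H ⊓ uni u : Subgroup G) := ⟨hx, hxu⟩
    rwa [Subgroup.card_eq_one.1 h1, Subgroup.mem_bot] at h2
  have hallT : ∀ x ∈ H, x • pu hfr' = pu hfr' → ∃ l, x = tHom hF hfr' l := by
    intro x hx hxu
    refine eq_T_of_fix hF hfr' hxu ?_
    rw [hpu] at hxu
    obtain ⟨n, hn⟩ := hζ (lamHom hF hfr ⟨x, hxu⟩)
    have h1 : lamHom hF hfr ((⟨g, hgst⟩ : st hfr) ^ n) = lamHom hF hfr ⟨x, hxu⟩ := by
      rw [map_zpow, lamHom_eq hF hfr hok (g := ⟨g, hgst⟩) hg]; exact hn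
    have h2 : (g ^ n)⁻¹ * x = 1 := by
      refine hker _ (mul_mem (inv_mem (zpow_mem hm n)) hx) ?_
      refine (lamHom_eq_one_iff hF hfr
        (g := ((⟨g, hgst⟩ : st hfr) ^ n)⁻¹ * ⟨x, hxu⟩)).1 ?_
      rw [map_mul, map_inv, h1, inv_mul_cancel]
    have hmem : g ∈ stabilizer G (pf hfr') := mem_stabilizer_iff.2 hgf
    rw [← inv_mul_eq_one.1 h2]
    exact mem_stabilizer_iff.1 (zpow_mem hmem n)
  have hT : ∀ l, tHom hF hfr' l ∈ H := by
    intro l
    have hsub : ∀ x : (H ⊓ st hfr : Subgroup G), ∃ m, (x : G) = tHom hF hfr' m := fun x =>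
      hallT x x.2.1 (by rw [hpu]; exact x.2.2)
    choose m hm' using hsub
    have hinj : Function.Injective m := fun a b e => Subtype.ext (by rw [hm' a, hm' b, e])
    have hbij : Function.Bijective m := (Nat.bijective_iff_injective_and_card m).2
      ⟨hinj, by rw [hcardst, Nat.card_units, Nat.card_eq_fintype_card, hF]⟩
    obtain ⟨x, hx⟩ := hbij.2 l
    rw [← hx, ← hm']
    exact x.2.1
  -- the kernel of the line
  obtain ⟨l₀, hl₀o⟩ : ∃ l : Fˣ, orderOf l = q + 1 := by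
    refine ⟨ζ ^ (q - 1), ?_⟩
    have h1 : q ^ 2 - 1 = (q + 1) * (q - 1) := by simpa using Nat.sq_sub_sq q 1
    rw [orderOf_pow, hζo, h1, Nat.gcd_eq_right (Dvd.intro_left _ rfl), Nat.mul_div_cancel _ (by omega)]
  have hl₀1 : l₀ ^ (q + 1) = 1 := by rw [← hl₀o]; exact pow_orderOf_eq_one l₀
  have hμl₀ : mu q l₀ ≠ 1 := by
    rw [Ne, mu_eq_one_iff hF]
    rintro ⟨h3, -⟩
    have := Nat.le_of_dvd (by norm_num) (orderOf_dvd_of_pow_eq_one h3)
    omega
  have htrans : ∀ x : Pts, OnLine q (ap (eSU hF (hc.spec hfr)) w) x →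
      ∃ h ∈ H, h ∈ lineStab hfr' ∧ h • pu hfr' = x := by
    intro x hx
    obtain ⟨h, hh, he'⟩ := hH.transitive hF (pu hfr') x
    refine ⟨h, hh, mem_lineStab_of hF hfr' (he' ▸ hx) ?_, he'⟩
    set t := tHom hF hfr' l₀
    have htx : t • x = x := (fix_T_iff hF hfr' hμl₀ hl₀1).2 hx
    obtain ⟨m, hm''⟩ := hallT (h⁻¹ * t * h) (mul_mem (mul_mem (inv_mem hh) (hT l₀)) hh)
      (by rw [mul_smul, mul_smul, he', htx, ← he', inv_smul_smul])
    refine (fix_T_iff hF hfr' hμl₀ hl₀1).1 ?_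
    have h5 : (h⁻¹ * t * h) • pf hfr' = pf hfr' := by rw [hm'', T_smul_pf]
    rwa [mul_smul, mul_smul, inv_smul_eq_iff] at h5
  have hst' : Nat.card ((H ⊓ lineStab hfr') ⊓ st hfr' : Subgroup G) = q ^ 2 - 1 := by
    rw [← hcardst]
    refine congrArg (fun S : Subgroup G => Nat.card S) (le_antisymm ?_ ?_)
    · rintro x ⟨⟨hx, -⟩, hxs⟩
      exact ⟨hx, mem_stabilizer_iff.2 (hpu ▸ mem_stabilizer_iff.1 hxs)⟩
    · rintro x ⟨hx, hxs⟩
      have hxs' : x • pu hfr' = pu hfr' := by rw [hpu]; exact hxs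
      obtain ⟨l, rfl⟩ := hallT x hx hxs'
      exact ⟨⟨hx, tHom_mem_lineStab hF hfr' l⟩, mem_stabilizer_iff.2 hxs'⟩
  have hLS := card_lineStab_inf_eq hF hfr' H htrans
  rw [hst'] at hLS
  obtain ⟨N, -, hN, hcard'⟩ := card_line_eq hF hfr' H
  have h2 := card_le_two_mul hF hfr' H
  rw [hLS, hcard'] at h2
  set J := lineImage hF hfr' H
  have hNle : Nat.card N ≤ q + 1 := by
    refine le_trans (Subgroup.card_le_of_le (K := (powMonoidHom (q + 1) : Fˣ →* Fˣ).ker) fun l hl => hN l hl) ?_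
    rw [card_ker_pow hF]
  have hJ : q ^ 2 - 1 ≤ 2 * Nat.card J := by
    refine Nat.le_of_mul_le_mul_left ?_ (Nat.succ_pos q)
    refine h2.trans ?_
    rw [← mul_assoc, mul_comm _ (Nat.card N)]
    exact Nat.mul_le_mul_right _ hNle
  have hpJ : ¬ p ∣ Nat.card J := by
    intro h
    have h4 : p ∣ Nat.card (H ⊓ lineSpecial hF hfr' : Subgroup G) := hcard' ▸ dvd_mul_of_dvd_left h _
    have h5 := h4.trans (Subgroup.card_dvd_of_le (inf_le_left : H ⊓ lineSpecial hF hfr' ≤ H))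
    rw [hH.card_eq hF hfr, hcardst] at h5
    have hpq : p ∣ q := hqp ▸ dvd_pow_self p (by omega)
    rcases hp.dvd_mul.1 h5 with h6 | h6
    · exact hp.not_dvd_one ((Nat.dvd_add_right (dvd_pow hpq (by norm_num : 3 ≠ 0))).1 h6)
    · exact hp.not_dvd_one (Nat.dvd_one.2 (Nat.eq_one_of_dvd_coprimes
        ((coprime_q_card_units hF)) hpq (by rwa [Nat.card_units, Nat.card_eq_fintype_card, hF])))
  have hcharK : CharP (fixK hF) p := ⟨fun n => by
    rw [← CharP.cast_eq_zero_iff F p n, ← Subtype.coe_injective.eq_iff]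
    simp⟩
  have hdvdP : Nat.gcd 2 (q - 1) * Nat.card J ∣ q * (q ^ 2 - 1) := by
    have h1 := Cfsg.Agent.Linear.card_PSL_two_mul (F := fixK hF)
    rw [fintype_card_fixK hF] at h1
    exact h1 ▸ Nat.mul_dvd_mul_left _ J.card_subgroup_dvd_card
  have key := psl_coprime_card (fintype_card_fixK hF) hqp J hpJ
  rcases hp.eq_two_or_odd with rfl | hodd
  · exfalso
    have hg1 : Nat.gcd 2 (q - 1) = 1 := by
      refine Nat.coprime_iff_gcd_eq_one.1 ((Nat.prime_two.coprime_iff_not_dvd).2 ?_)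
      have : 2 ∣ q := hqp ▸ dvd_pow_self 2 (by omega)
      omega
    rw [hg1, one_mul] at key hdvdP
    rcases key with hk1 | hk1 | hk1 | hk1
    · have h3 : (q + 1) * (q - 1) ≤ (q + 1) * 4 := by
        rw [show (q + 1) * (q - 1) = q ^ 2 - 1 by simpa using (Nat.sq_sub_sq q 1).symm]
        omega
      have h4 := Nat.le_of_mul_le_mul_left h3 (by omega)
      have hq4 : q = 4 := by
        have : 2 ∣ q := hqp ▸ dvd_pow_self 2 (by omega)
        omega
      generalize Nat.card J = n at hdvdP hJ hk1 hpJ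
      subst hq4
      norm_num at hdvdP hJ hk1
      interval_cases n <;> omega
    all_goals exact hpJ (by rw [hk1]; norm_num)
  · have hg2 : Nat.gcd 2 (q - 1) = 2 := by
      refine Nat.gcd_eq_left ?_
      have : q % 2 = 1 := by rw [hqp, Nat.pow_mod, hodd, one_pow, Nat.one_mod]
      omega
    rw [hg2] at key
    rcases key with hk1 | hk1 | hk1 | hk1
    · left
      have h3 : (q + 1) * (q - 1) ≤ (q + 1) * 2 := by
        rw [show (q + 1) * (q - 1) = q ^ 2 - 1 by simpa using (Nat.sq_sub_sq q 1).symm]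
        omega
      have := Nat.le_of_mul_le_mul_left h3 (by omega)
      omega
    all_goals
      have hqsmall : q * q ≤ 121 := by rw [hk1, sq] at hJ; omega
      have hq11 : q ≤ 11 := by
        by_contra h
        have : 12 * 12 ≤ q * q := Nat.mul_le_mul (by omega) (by omega)
        omega
      have hqodd : q % 2 = 1 := by rw [hqp, Nat.pow_mod, hodd, one_pow, Nat.one_mod]
      have hq9' : q ≠ 9 := fun h9 => by
        have h1 : p ∣ 3 ^ 2 := by
          rw [show (3 : ℕ) ^ 2 = p ^ e by rw [← hqp, h9]; norm_num]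
          exact dvd_pow_self p (by omega)
        rw [hk1, (Nat.prime_dvd_prime_iff_eq hp Nat.prime_three).1 (hp.dvd_of_dvd_pow h1)] at hpJ
        norm_num at hpJ
      omega

/-- No transvections and unipotents: small fields. -/
theorem Good.abelian_cases (hq : 3 ≤ q) (hH : Good H) (hz : Nat.card (zset hF hfr H) = 1)
    (hk : Nat.card (params hF hfr H) = q) (hq2 : q % 2 = 1) (hq3 : q % 3 = 2) {s : ℕ}
    (hL : Nat.card (lamSet hF hfr H) = 3 * s) (hs : s = q - 1 ∨ 2 * s = q - 1) :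
    q = 5 ∨ (q = 11 ∧ s = 10) := by
  obtain ⟨p, e, hp, he, hchar, hqp⟩ := exists_char_pow hF
  have : Fact p.Prime := ⟨hp⟩
  have hodd : Odd q := Nat.odd_iff.2 hq2
  have h2F : (2 : F) ≠ 0 := H53.two_ne_zero_of_odd hodd hF
  have hcardst : Nat.card (H ⊓ st hfr : Subgroup G) = q * (3 * s) := by
    rw [card_inf_st hF hfr H, hk, hz, hL, mul_one]
  -- an involution fixing the point
  have : Fact (Nat.Prime 2) := ⟨Nat.prime_two⟩
  obtain ⟨t, ht⟩ : ∃ t : H, orderOf t = 2 := by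
    refine exists_prime_orderOf_dvd_card' 2 ?_
    rw [hH.card_eq hF hfr]
    refine dvd_mul_of_dvd_left ?_ _
    have : q ^ 3 % 2 = 1 := by rw [Nat.pow_mod, hq2]
    omega
  have ht1 : (t : G) ≠ 1 := fun h => by
    rw [show t = 1 from Subtype.ext h, orderOf_one] at ht
    omega
  have ht2 : (t : G) * t = 1 := by
    have := pow_orderOf_eq_one t
    rw [ht, sq] at this
    exact congrArg Subtype.val this
  obtain ⟨x, hx⟩ := exists_fixed_of_invol hF hodd ht1 ht2
  obtain ⟨h₀, hh₀, he₀⟩ := hH.transitive hF x (pu hfr)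
  set t₁ := h₀ * t * h₀⁻¹ with ht₁
  have ht₁H : t₁ ∈ H := mul_mem (mul_mem hh₀ t.2) (inv_mem hh₀)
  have ht₁1 : t₁ ≠ 1 := fun h => ht1 (by
    rw [ht₁, mul_inv_eq_one, mul_eq_left] at h; exact h)
  have ht₁2 : t₁ * t₁ = 1 := by
    rw [ht₁, show h₀ * t * h₀⁻¹ * (h₀ * t * h₀⁻¹) = h₀ * (t * t) * h₀⁻¹ by group, ht2]
    group
  have ht₁st : t₁ ∈ st hfr := mem_stabilizer_iff.2 (by
    rw [ht₁, mul_smul, mul_smul, ← he₀, inv_smul_smul, hx])
  obtain ⟨l, b, β, hok, et⟩ := exists_decomp hF hfr (mem_stabilizer_iff.1 ht₁st)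
  have hll : l * l = 1 := by
    have := map_mul (lamHom hF hfr) ⟨t₁, ht₁st⟩ ⟨t₁, ht₁st⟩
    rw [show (⟨t₁, ht₁st⟩ * ⟨t₁, ht₁st⟩ : st hfr) = 1 from Subtype.ext ht₁2, map_one,
      lamHom_eq hF hfr hok (g := ⟨t₁, ht₁st⟩) et] at this
    exact this.symm
  have hl1 : l ≠ 1 := by
    intro h
    have hu : t₁ ∈ uni u := (lamHom_eq_one_iff hF hfr (g := ⟨t₁, ht₁st⟩)).1
      ((lamHom_eq hF hfr hok (g := ⟨t₁, ht₁st⟩) et).trans h)
    have h1 := Subgroup.orderOf_dvd_natCard (uni u : Subgroup G) hu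
    rw [card_uni hF hfr, orderOf_eq_prime (by rw [sq, ht₁2]) ht₁1] at h1
    have := (Nat.prime_two.dvd_of_dvd_pow h1)
    omega
  have hlm : (l : F) = -1 := by
    have h1 : (l : F) * (l : F) = 1 := by rw [← Units.val_mul, hll, Units.val_one]
    exact (mul_self_eq_one_iff.1 h1).resolve_left fun h => hl1 (Units.ext h)
  have hν : l ^ (q + 1) = 1 := by
    rw [show q + 1 = 2 * ((q + 1) / 2) by omega, pow_mul, sq, hll, one_pow]
  have hμ : mu q l ≠ 1 := by
    rw [Ne, mu_eq_one_iff hF]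
    rintro ⟨h3, -⟩
    rw [show (3 : ℕ) = 2 + 1 by norm_num, pow_succ, sq, hll, one_mul] at h3
    exact hl1 h3
  -- `s` is even
  have hs2 : s % 2 = 0 := by
    by_contra hs2
    have h1 := Subgroup.orderOf_dvd_natCard (H ⊓ st hfr : Subgroup G) ⟨ht₁H, ht₁st⟩
    rw [orderOf_eq_prime (by rw [sq, ht₁2]) ht₁1, hcardst] at h1
    rcases Nat.prime_two.dvd_mul.1 h1 with h | h <;> omega
  obtain ⟨c, γ, hc, hfix⟩ := exists_second_fixed hF hfr (h := hok) et hμ (Or.inr ⟨h2F, ht₁2⟩)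
  set g' := eSU hF (hc.spec hfr)
  set hfr' := frame_map hfr g'
  have hpu : pu hfr' = pu hfr := by rw [pu_map hfr g', E_smul_pu hF hfr hc]
  have hst : st hfr' = st hfr := by rw [st, st, hpu]
  obtain ⟨l', etT⟩ := eq_T_of_fix hF hfr' (g := t₁) (by rw [hpu]; exact ht₁st)
    (by rw [pf_map hfr g']; exact hfix)
  have hll' : l' * l' = 1 := T_injective hF hfr' (by rw [map_mul, ← etT, ht₁2, map_one])
  have hν' : l' ^ (q + 1) = 1 := by
    rw [show q + 1 = 2 * ((q + 1) / 2) by omega, pow_mul, sq, hll', one_pow]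
  have hμ' : mu q l' ≠ 1 := by
    rw [Ne, mu_eq_one_iff hF]
    rintro ⟨h3, -⟩
    rw [show (3 : ℕ) = 2 + 1 by norm_num, pow_succ, sq, hll', one_mul] at h3
    exact ht₁1 (by rw [etT, h3, map_one])
  have hl' : (l' : F) = -1 := by
    have h1 : (l' : F) * (l' : F) = 1 := by rw [← Units.val_mul, hll', Units.val_one]
    exact (mul_self_eq_one_iff.1 h1).resolve_left fun h => ht₁1 (by
      rw [etT, show l' = 1 from Units.ext h, map_one])
  have hμl : ((mu q l' : Fˣ) : F) = -1 := by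
    rw [mu_val hF, hl', neg_pow_q hF, one_pow]; norm_num
  have hνl : ((nu q l' : Fˣ) : F) = 1 := by
    rw [nu, powMonoidHom_apply, hν', Units.val_one]
  -- the parameters in the new frame
  have hWcard : Nat.card (H ⊓ uni (ap g' u) : Subgroup G) = q := by
    rw [ap_E_u hF hfr hc, card_inf_uni hF hfr H, hk, hz, mul_one]
  have hz' : zset hF hfr' H = ⊥ := by
    rw [eq_bot_iff]
    rintro δ ⟨hδ, hmδ⟩
    have hr : eSU hF (hδ.spec hfr') ∈ rootSub (pu hfr) := hpu ▸ (mem_root_iff hF hfr').2 ⟨δ, hδ, rfl⟩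
    obtain ⟨δ', hδ', eδ⟩ := (mem_root_iff hF hfr).1 hr
    have h1 : δ' ∈ zset hF hfr H := ⟨hδ', eδ ▸ hmδ⟩
    rw [(AddSubgroup.eq_bot_iff_card _).2 hz, AddSubgroup.mem_bot] at h1
    subst h1
    rw [E_congr hF hfr hδ' (Ok.zero hF) rfl rfl, E_zero hF hfr] at eδ
    rw [AddSubgroup.mem_bot]
    exact (E_inj hF hfr' hδ (Ok.zero hF) (eδ.trans (E_zero hF hfr').symm)).2
  have hconj : ∀ t' ∈ H, t' ∈ st hfr' → t' ≠ 1 → t' * t' = 1 →
      ∃ w₀ ∈ H, w₀ ∈ uni (ap g' u) ∧ t' = w₀ * t₁ * w₀⁻¹ := by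
    intro t' ht'H ht'st ht'1 ht'2
    obtain ⟨m, a, α, ha, e'⟩ := exists_decomp hF hfr' (mem_stabilizer_iff.1 ht'st)
    have hmm : m * m = 1 := by
      have := map_mul (lamHom hF hfr') ⟨t', ht'st⟩ ⟨t', ht'st⟩
      rw [show (⟨t', ht'st⟩ * ⟨t', ht'st⟩ : st hfr') = 1 from Subtype.ext ht'2, map_one,
        lamHom_eq hF hfr' ha (g := ⟨t', ht'st⟩) e'] at this
      exact this.symm
    have hml : m = l' := by
      have h1 : (m : F) * (m : F) = 1 := by rw [← Units.val_mul, hmm, Units.val_one]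
      rcases mul_self_eq_one_iff.1 h1 with h | h
      · exfalso
        have hu : t' ∈ uni (ap g' u) := (lamHom_eq_one_iff hF hfr' (g := ⟨t', ht'st⟩)).1
          ((lamHom_eq hF hfr' ha (g := ⟨t', ht'st⟩) e').trans (Units.ext h))
        have h2 := Subgroup.orderOf_dvd_natCard (uni (ap g' u) : Subgroup G) hu
        rw [card_uni hF hfr', orderOf_eq_prime (by rw [sq, ht'2]) ht'1] at h2
        have := (Nat.prime_two.dvd_of_dvd_pow h2)
        omega
      · exact Units.ext (h.trans hl'.symm)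
    subst hml
    have haK : a ∈ params hF hfr' H := ⟨α, ha, by
      have := mul_mem ht'H ht₁H
      rwa [e', etT, mul_assoc, ← map_mul, hll', map_one, mul_one] at this⟩
    -- halve the parameter
    have hpodd : p % 2 = 1 := by
      rcases hp.eq_two_or_odd with rfl | h
      · rw [hqp, Nat.pow_mod, Nat.mod_self, zero_pow he.ne'] at hq2; simp at hq2
      · exact h
    have haa : a / 2 ∈ params hF hfr' H := by
      have h1 := AddSubgroup.nsmul_mem _ haK ((p + 1) / 2)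
      rw [nsmul_eq_mul] at h1
      have h2 : (((p + 1) / 2 : ℕ) : F) * 2 = 1 := by
        rw [show (2 : F) = ((2 : ℕ) : F) by norm_num, ← Nat.cast_mul,
          show (p + 1) / 2 * 2 = p + 1 by omega, Nat.cast_add, CharP.cast_eq_zero F p, zero_add, Nat.cast_one]
      convert h1 using 1
      field_simp
      linear_combination (-a) * h2
    obtain ⟨ε, hε, hmε⟩ := haa
    refine ⟨_, hmε, E_mem_uni hF hfr' hε, ?_⟩
    have hR : eSU hF (hε.spec hfr') * tHom hF hfr' m * (eSU hF (hε.spec hfr'))⁻¹ =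
        eSU hF ((hε.add hF (ok_scale hF m (hε.neg hF))).spec hfr') * tHom hF hfr' m := by
      rw [E_inv hF hfr' hε, mul_assoc, T_conj_E hF hfr' m (hε.neg hF), ← mul_assoc,
        E_mul hF hfr' hε (ok_scale hF m (hε.neg hF))]
    rw [etT, hR, e']
    congr 1
    have hb : a = a / 2 + ((mu q m : Fˣ) : F) * -(a / 2) := by rw [hμl]; field_simp; ring
    refine E_congr hF hfr' ha (hε.add hF (ok_scale hF m (hε.neg hF))) hb ?_
    -- equal up to a central element of `H`
    have hd : α - (ε + ((nu q m : Fˣ) : F) * ε ^ q - ((mu q m : Fˣ) : F) * -(a / 2) * (a / 2) ^ q) ∈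
        zset hF hfr' H := by
      have h1 : eSU hF ((hε.add hF (ok_scale hF m (hε.neg hF))).spec hfr') ∈ H := by
        have := mul_mem (mul_mem (mul_mem hmε (etT ▸ ht₁H)) (inv_mem hmε)) (etT ▸ ht₁H)
        rwa [hR, mul_assoc, ← map_mul, hll', map_one, mul_one] at this
      have h0 : Ok q (0 : F) (α - (ε + ((nu q m : Fˣ) : F) * ε ^ q -
          ((mu q m : Fˣ) : F) * -(a / 2) * (a / 2) ^ q)) := by
        have a1 : α + α ^ q + a * a ^ q = 0 := ha
        have a2 := hε.add hF (ok_scale hF m (hε.neg hF))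
        simp only [Ok] at a2
        rw [← hb] at a2
        rw [ok_zero_iff hF, sub_pow_q hF]
        linear_combination a1 - a2
      refine ⟨h0, ?_⟩
      have h2 := mul_mem (inv_mem h1) (show eSU hF (ha.spec hfr') ∈ H by
        have := mul_mem ht'H ht₁H
        rwa [e', etT, mul_assoc, ← map_mul, hll', map_one, mul_one] at this)
      have h3 : eSU hF ((hε.add hF (ok_scale hF m (hε.neg hF))).spec hfr') * eSU hF (h0.spec hfr') =
          eSU hF (ha.spec hfr') := by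
        rw [E_mul hF hfr' (hε.add hF (ok_scale hF m (hε.neg hF))) h0]
        exact E_congr hF hfr' ((hε.add hF (ok_scale hF m (hε.neg hF))).add hF h0) ha (by rw [add_zero, ← hb])
          (by ring)
      rwa [← h3, inv_mul_cancel_left] at h2
    rw [hz', AddSubgroup.mem_bot, sub_eq_zero] at hd
    exact hd
  -- the centraliser of the involution stabilises the line
  have hfix' : ∀ {y : Pts}, t₁ • y = y ↔ OnLine q (ap g' w) y := fun {y} => by
    rw [etT]; exact fix_T_iff hF hfr' hμ' hν'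
  have hCline : ∀ h : G, h * t₁ = t₁ * h → h ∈ lineStab hfr' := by
    intro h hcm
    refine mem_lineStab_of hF hfr' (hfix'.1 ?_) (hfix'.1 ?_)
    · rw [smul_smul, ← hcm, mul_smul, hfix'.2 (onLine_pu hfr')]
    · rw [smul_smul, ← hcm, mul_smul, hfix'.2 (onLine_pf hfr')]
  have htrans : ∀ x : Pts, OnLine q (ap g' w) x → ∃ h ∈ H, h ∈ lineStab hfr' ∧ h • pu hfr' = x := by
    intro x hx
    obtain ⟨h, hh, he'⟩ := hH.transitive hF (pu hfr') x
    obtain ⟨w₀, hw₀, hw₀u, e₀⟩ := hconj (h⁻¹ * t₁ * h) (mul_mem (mul_mem (inv_mem hh) ht₁H) hh)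
      (mem_stabilizer_iff.2 (by rw [mul_smul, mul_smul, he', hfix'.2 hx, ← he', inv_smul_smul]))
      (fun h1 => ht₁1 (by
        rw [show t₁ = h * (h⁻¹ * t₁ * h) * h⁻¹ by group, h1]; group))
      (by rw [show h⁻¹ * t₁ * h * (h⁻¹ * t₁ * h) = h⁻¹ * (t₁ * t₁) * h by group, ht₁2]; group)
    refine ⟨h * w₀, mul_mem hh hw₀, hCline _ ?_, by
      rw [mul_smul, mem_stabilizer_iff.1 (uni_le_st hfr' hw₀u), he']⟩
    calc h * w₀ * t₁ = h * (w₀ * t₁ * w₀⁻¹) * w₀ := by group
      _ = h * (h⁻¹ * t₁ * h) * w₀ := by rw [e₀]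
      _ = t₁ * (h * w₀) := by group
  set S := (H ⊓ lineStab hfr') ⊓ st hfr' with hS
  have hSle : 3 * s ≤ Nat.card S := by
    have hlift : ∀ l₁ : lamSet hF hfr H, ∃ x ∈ S, ∃ hx : x ∈ st hfr, lamHom hF hfr ⟨x, hx⟩ = l₁ := by
      rintro ⟨l₁, hl₁⟩
      obtain ⟨y, hyH, rfl⟩ := hl₁
      have hy' : (y : G) ∈ st hfr' := by rw [hst]; exact y.2
      have ht' : t₁ ∈ st hfr' := by rw [hst]; exact ht₁st
      obtain ⟨w₀, hw₀, hw₀u, e₀⟩ := hconj ((y : G) * t₁ * (y : G)⁻¹)
        (mul_mem (mul_mem hyH ht₁H) (inv_mem hyH))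
        ((st hfr').mul_mem ((st hfr').mul_mem hy' ht') ((st hfr').inv_mem hy'))
        (fun h1 => ht₁1 (by rwa [mul_inv_eq_one, mul_eq_left] at h1))
        (by rw [show (y : G) * t₁ * (y : G)⁻¹ * ((y : G) * t₁ * (y : G)⁻¹) = y * (t₁ * t₁) * (y : G)⁻¹ by group,
          ht₁2]; group)
      have hw₀u' : w₀ ∈ uni u := by rwa [ap_E_u hF hfr hc] at hw₀u
      have hmem : w₀⁻¹ * (y : G) ∈ st hfr := mul_mem (inv_mem (uni_le_st hfr hw₀u')) y.2
      refine ⟨w₀⁻¹ * y, ⟨⟨H.mul_mem (H.inv_mem hw₀) hyH, hCline _ ?_⟩, by rw [hst]; exact hmem⟩, hmem, ?_⟩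
      · calc w₀⁻¹ * (y : G) * t₁ = w₀⁻¹ * ((y : G) * t₁ * (y : G)⁻¹) * y := by group
          _ = w₀⁻¹ * (w₀ * t₁ * w₀⁻¹) * y := by rw [e₀]
          _ = t₁ * (w₀⁻¹ * y) := by group
      · rw [show (⟨w₀⁻¹ * y, hmem⟩ : st hfr) = ⟨w₀, uni_le_st hfr hw₀u'⟩⁻¹ * y from rfl, map_mul, map_inv,
          (lamHom_eq_one_iff hF hfr (g := ⟨w₀, uni_le_st hfr hw₀u'⟩)).2 hw₀u', inv_one, one_mul]
    choose X hXS hXst hX using hlift
    rw [← hL]
    refine Nat.card_le_card_of_injective (fun l₁ => (⟨X l₁, hXS l₁⟩ : S)) fun a b h => ?_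
    refine Subtype.ext ?_
    rw [← hX a, ← hX b]
    congr 1
    exact Subtype.ext (congrArg (fun z : S => (z : G)) h)
  have hScop : ¬ p ∣ Nat.card S := by
    have hS' : (H ⊓ lineStab hfr') ⊓ st hfr' ≤ H ⊓ st hfr' := inf_le_inf_right _ inf_le_left
    rw [hS, card_inf_st hF hfr' (H ⊓ lineStab hfr')]
    have hk' : Nat.card (params hF hfr' (H ⊓ lineStab hfr')) = 1 := by
      refine (AddSubgroup.eq_bot_iff_card _).1 ((AddSubgroup.eq_bot_iff_forall _).2 fun a ha => ?_)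
      obtain ⟨α, h, hmA⟩ := ha
      exact (onLine_E_pf_iff hF hfr' h).1 (onLine_smul hF hfr' hmA.2 (onLine_pf hfr'))
    have hz'' : Nat.card (zset hF hfr' (H ⊓ lineStab hfr')) = 1 := by
      refine (AddSubgroup.eq_bot_iff_card _).1 ((AddSubgroup.eq_bot_iff_forall _).2 fun a ha => ?_)
      obtain ⟨h, hmA⟩ := ha
      have : a ∈ zset hF hfr' H := ⟨h, hmA.1⟩
      rwa [hz', AddSubgroup.mem_bot] at this
    rw [hk', hz'', one_mul, one_mul]
    intro h
    exact hp.not_dvd_one (Nat.dvd_one.2 (Nat.eq_one_of_dvd_coprimes (coprime_q_card_units hF)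
      (hqp ▸ dvd_pow_self p he.ne') (h.trans (Subgroup.card_subgroup_dvd_card _))))
  have hLS := card_lineStab_inf_eq hF hfr' H htrans
  obtain ⟨N, hN, hN1, hcard'⟩ := card_line_eq hF hfr' H
  have h2 := card_le_two_mul hF hfr' H
  rw [hLS, hcard'] at h2
  set J := lineImage hF hfr' H
  have hpJ : ¬ p ∣ Nat.card J := by
    intro h
    have h4 : p ∣ Nat.card (H ⊓ lineSpecial hF hfr' : Subgroup G) := hcard' ▸ dvd_mul_of_dvd_left h _
    have h5 := h4.trans (Subgroup.card_dvd_of_le (show H ⊓ lineSpecial hF hfr' ≤ H ⊓ lineStab hfr' from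
      fun a ha => ⟨ha.1, ((mem_lineSpecial hF hfr').1 ha.2).1⟩))
    rw [hLS] at h5
    rcases hp.dvd_mul.1 h5 with h6 | h6
    · exact hp.not_dvd_one ((Nat.dvd_add_right (hqp ▸ dvd_pow_self p he.ne')).1 h6)
    · exact hScop h6
  have hlam : lamSet hF hfr' H = lamSet hF hfr H := by
    have hu' : ap g' u = u := ap_E_u hF hfr hc
    ext m
    constructor
    · intro hm
      obtain ⟨a, α, ha, hmH⟩ := (mem_lamSet hF hfr' H).1 hm
      set x := eSU hF (ha.spec hfr') * tHom hF hfr' m with hxdef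
      have hx' : x • pu hfr = pu hfr := by
        rw [← hpu, hxdef, mul_smul, T_smul_pu, E_smul_pu hF hfr' ha]
      obtain ⟨m', a', α', ha', e'⟩ := exists_decomp hF hfr hx'
      have h1 : (m' : F) • u = (m : F) • u := by
        have e1 : ap x u = (m' : F) • u := by rw [e', ap_mul, ap_T_u, ap_smul, ap_E_u hF hfr ha']
        have e2 : ap x (ap g' u) = (m : F) • ap g' u := by
          rw [hxdef, ap_mul, ap_T_u, ap_smul, ap_E_u hF hfr' ha]
        rw [hu'] at e2
        exact e1.symm.trans e2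
      obtain rfl : m' = m := Units.ext (smul_left_injective F (ne_zero_u hfr) h1)
      exact (mem_lamSet hF hfr H).2 ⟨a', α', ha', e' ▸ hmH⟩
    · intro hm
      obtain ⟨a, α, ha, hmH⟩ := (mem_lamSet hF hfr H).1 hm
      set x := eSU hF (ha.spec hfr) * tHom hF hfr m with hxdef
      have hx' : x • pu hfr' = pu hfr' := by
        rw [hpu, hxdef, mul_smul, T_smul_pu, E_smul_pu hF hfr ha]
      obtain ⟨m', a', α', ha', e'⟩ := exists_decomp hF hfr' hx'
      have h1 : (m' : F) • u = (m : F) • u := by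
        have e1 : ap x (ap g' u) = (m' : F) • ap g' u := by
          rw [e', ap_mul, ap_T_u, ap_smul, ap_E_u hF hfr' ha']
        have e2 : ap x u = (m : F) • u := by rw [hxdef, ap_mul, ap_T_u, ap_smul, ap_E_u hF hfr ha]
        rw [hu'] at e1
        exact e1.symm.trans e2
      obtain rfl : m' = m := Units.ext (smul_left_injective F (ne_zero_u hfr) h1)
      exact (mem_lamSet hF hfr' H).2 ⟨a', α', ha', e' ▸ hmH⟩
  have hNle : Nat.card N ≤ 6 := by
    set φ := (mu q).comp N.subtype with hφ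
    rw [← φ.ker.card_mul_index, Subgroup.index_ker]
    have hd3 : Nat.card (mu q : Fˣ →* Fˣ).ker = 3 := by
      rw [card_mu_ker hF]
      exact Nat.gcd_eq_left (by omega)
    show Nat.card φ.ker * Nat.card φ.range ≤ 3 * 2
    refine Nat.mul_le_mul ?_ ?_
    · rw [← hd3]
      exact Nat.card_le_card_of_injective (fun g => (⟨(g.1 : Fˣ), g.2⟩ : (mu q : Fˣ →* Fˣ).ker))
        fun a b h => Subtype.ext (Subtype.ext (congrArg (fun z : (mu q : Fˣ →* Fˣ).ker => (z : Fˣ)) h))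
    · refine le_trans (Subgroup.card_le_of_le (K := (powMonoidHom 2 : Fˣ →* Fˣ).ker) ?_) ?_
      · rintro _ ⟨⟨m, hm⟩, rfl⟩
        have h1 : (mu q m) ^ (q + 1) = 1 := by rw [← map_pow, hN1 m hm, map_one]
        have h3 : (mu q m) ^ (q - 1) = 1 := by
          have hmem : mu q m ∈ (lamSet hF hfr H).map (mu q) := ⟨m, hlam ▸ hN hm, rfl⟩
          have h4 := card_lamSet hF hfr H hH.center_le
          rw [show Nat.gcd 3 (q + 1) = 3 from Nat.gcd_eq_left (by omega), hL] at h4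
          have h5 : orderOf (mu q m) ∣ s := by
            rw [show s = Nat.card ((lamSet hF hfr H).map (mu q)) by omega]
            exact Subgroup.orderOf_dvd_natCard _ hmem
          refine orderOf_dvd_iff_pow_eq_one.1 (h5.trans ?_)
          rcases hs with h | h
          · rw [h]
          · rw [← h]; exact dvd_mul_left _ _
        show (mu q m) ^ 2 = 1
        rw [show q + 1 = (q - 1) + 2 by omega, pow_add, h3, one_mul] at h1
        exact h1
      · rw [IsCyclic.card_powMonoidHom_ker]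
        exact Nat.le_of_dvd two_pos (Nat.gcd_dvd_right _ _)
  have hJ : (q + 1) * s ≤ 4 * Nat.card J := by
    have h3 : (q + 1) * (3 * s) ≤ 2 * (Nat.card J * 6) :=
      ((Nat.mul_le_mul_left _ hSle).trans h2).trans (Nat.mul_le_mul_left _ (Nat.mul_le_mul_left _ hNle))
    rw [show (q + 1) * (3 * s) = 3 * ((q + 1) * s) by ring] at h3
    omega
  have hJ' : q ^ 2 - 1 ≤ 8 * Nat.card J := by
    rw [show q ^ 2 - 1 = (q + 1) * (q - 1) by simpa using Nat.sq_sub_sq q 1]
    calc (q + 1) * (q - 1) ≤ (q + 1) * (2 * s) := Nat.mul_le_mul_left _ (by omega)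
      _ = 2 * ((q + 1) * s) := by ring
      _ ≤ 8 * Nat.card J := by omega
  have hcharK : CharP (fixK hF) p := ⟨fun n => by
    rw [← CharP.cast_eq_zero_iff F p n, ← Subtype.coe_injective.eq_iff]
    simp⟩
  have hg2 : Nat.gcd 2 (q - 1) = 2 := Nat.gcd_eq_left (by omega)
  have hdvdP : 2 * Nat.card J ∣ q * (q ^ 2 - 1) := by
    have h1 := Cfsg.Agent.Linear.card_PSL_two_mul (F := fixK hF)
    rw [fintype_card_fixK hF, hg2] at h1
    exact h1 ▸ Nat.mul_dvd_mul_left _ J.card_subgroup_dvd_card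
  have key := psl_coprime_card (fintype_card_fixK hF) hqp J hpJ
  rw [hg2] at key
  rcases key with hk1 | hk1 | hk1 | hk1
  · left
    have h3 : (q + 1) * (q - 1) ≤ (q + 1) * 8 := by
      rw [show (q + 1) * (q - 1) = q ^ 2 - 1 by simpa using (Nat.sq_sub_sq q 1).symm]
      omega
    have := Nat.le_of_mul_le_mul_left h3 (by omega)
    omega
  all_goals
    rw [hk1] at hJ' hdvdP
    have hqsmall : q * q ≤ 481 := by rw [sq] at hJ'; omega
    have hq21 : q ≤ 21 := by
      by_contra h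
      have : 22 * 22 ≤ q * q := Nat.mul_le_mul (by omega) (by omega)
      omega
    have hq' : q = 5 ∨ q = 11 ∨ q = 17 := by omega
    rcases hq' with hq' | hq' | hq'
    · exact Or.inl hq'
    · exact Or.inr ⟨hq', by omega⟩
    · rw [hq'] at hJ' hdvdP
      omega

end Cfsg.Agent.H72.PSUThree
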