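import Cfsg.Agent.Linear.Dickson.Orders

/-!
Consequences of Dickson's list for orders of subgroups of `PSL₂`.
-/

set_option autoImplicit false

namespace Cfsg.Agent.H72.PSUThree

open Cfsg.Agent.Linear

variable {K : Type*} [Field K] [Fintype K] {p e q : ℕ} [Fact p.Prime] [CharP K p]

local notation "P2" => Matrix.ProjectiveSpecialLinearGroup (Fin 2) K

/-- Orders coprime to the characteristic. -/
theorem psl_coprime_card (hK : Fintype.card K = q) (he : q = p ^ e) (J : Subgroup P2)
    (hp : ¬ p ∣ Nat.card J) :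
    Nat.gcd 2 (q - 1) * Nat.card J ≤ 2 * (q + 1) ∨ Nat.card J = 12 ∨ Nat.card J = 24 ∨
      Nat.card J = 60 := by
  subst hK
  set g := Nat.gcd 2 (Fintype.card K - 1)
  have hco : Nat.Coprime (Nat.card J) (Fintype.card K) := by
    rw [he]
    exact Nat.Coprime.pow_right _ ((Nat.Prime.coprime_iff_not_dvd Fact.out).2 hp).symm
  rcases Dickson.shape p J with h | h | ⟨⟨f⟩⟩ | ⟨⟨f⟩⟩ | ⟨⟨f⟩⟩ | h
  · left
    have h1 : g * Nat.card J ∣ g * Nat.card (Dickson.borel K) := Nat.mul_dvd_mul_left _ h.card_dvd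
    rw [Dickson.card_borel] at h1
    have h2 : Nat.card J ∣ Fintype.card K - 1 := hco.dvd_of_dvd_mul_left (dvd_trans (dvd_mul_left _ _) h1)
    have hg : g ≤ 2 := Nat.le_of_dvd two_pos (Nat.gcd_dvd_left _ _)
    have h1K : 1 < Fintype.card K := Fintype.one_lt_card
    exact Nat.mul_le_mul hg ((Nat.le_of_dvd (by omega) h2).trans (by omega))
  · left
    obtain ⟨a, ha, -, hdvd⟩ := h.card_dvd
    have hle := Nat.le_of_dvd (Nat.mul_pos two_pos Nat.card_pos) hdvd
    have hc := Dickson.card_cen_torus ha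
    rw [Dickson.card_center_two_dvd] at hc
    calc g * Nat.card J ≤ g * (2 * Nat.card (Dickson.cen a)) := Nat.mul_le_mul_left _ hle
      _ = 2 * (g * Nat.card (Dickson.cen a)) := by ring
      _ ≤ 2 * (Fintype.card K + 1) := Nat.mul_le_mul_left _ (by
        rcases hc with hc | hc <;> rw [show g * Nat.card (Dickson.cen a) = _ from hc]
        omega)
  · exact Or.inr (Or.inl ((Nat.card_congr f.toEquiv).trans Dickson.card_alt_four))
  · exact Or.inr (Or.inr (Or.inl ((Nat.card_congr f.toEquiv).trans Dickson.card_sym_four)))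
  · exact Or.inr (Or.inr (Or.inr ((Nat.card_congr f.toEquiv).trans Dickson.card_alt_five)))
  · exfalso
    obtain ⟨v, m, hv, hm1, hm, hcard⟩ := h.exists_card
    have hpv : p ∣ v := by
      obtain ⟨r, j, hr, hj, rfl⟩ := (isPrimePow_nat_iff v).1 hv
      rw [he, ← pow_mul] at hm
      have : r ∣ p ^ e := hm ▸ dvd_pow_self r (by positivity)
      have hrp : r = p := (Nat.prime_dvd_prime_iff_eq hr Fact.out).1 (hr.dvd_of_dvd_pow this)
      exact hrp ▸ dvd_pow_self r hj.ne'
    refine hp ?_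
    rcases hcard with hcard | ⟨hcard, -⟩
    · have h1 : p ∣ Nat.gcd 2 (v - 1) * Nat.card J := hcard ▸ dvd_mul_of_dvd_left hpv _
      refine ((Fact.out : p.Prime).dvd_mul.1 h1).resolve_left fun h2 => ?_
      have h3 : p ∣ v - 1 := h2.trans (Nat.gcd_dvd_right _ _)
      have h4 := Nat.dvd_sub hpv h3
      rw [show v - (v - 1) = 1 by have := hv.two_le; omega, Nat.dvd_one] at h4
      exact (Fact.out : p.Prime).one_lt.ne' h4
    · exact hcard ▸ dvd_mul_of_dvd_left hpv _

/-- A proper subgroup with `q + 1` conjugates of a nontrivial `p`-subgroup. -/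
theorem psl_line_card (hK : Fintype.card K = q) (he : q = p ^ e) (J : Subgroup P2) {i : ℕ}
    (hi : 1 ≤ i) (hiq : i < e) (hdvd : (q + 1) * p ^ i ∣ Nat.card J) (hnq : ¬ q ∣ Nat.card J) :
    (p = 2 ∧ i = 1) ∨ (q = 9 ∧ i = 1) := by
  subst hK
  have hp := (Fact.out : p.Prime)
  have hqco : ∀ {N : ℕ}, (Fintype.card K + 1) ∣ N * Fintype.card K → (Fintype.card K + 1) ∣ N :=
    fun {N} h => (Nat.coprime_self_add_left.2 (Nat.coprime_one_left _)).dvd_of_dvd_mul_right h
  have hp2 : 2 ≤ p := hp.two_le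
  have hpi : p ≤ p ^ i := Nat.le_self_pow (by omega) p
  have hpos : 0 < Nat.card J := Nat.card_pos
  have hle : (Fintype.card K + 1) * p ^ i ≤ Nat.card J := Nat.le_of_dvd hpos hdvd
  have small : ∀ {N : ℕ}, Nat.card J = N → N ≤ 60 → N = 12 ∨ N = 24 ∨ N = 60 →
      (p = 2 ∧ i = 1) ∨ (Fintype.card K = 9 ∧ i = 1) := by
    intro N hN h60 hN'
    have h2 : p * p ≤ Fintype.card K := by
      rw [he, ← sq]; exact Nat.pow_le_pow_right (by omega) (by omega)
    have hq30 : Fintype.card K + 1 ≤ 30 := by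
      have : (Fintype.card K + 1) * 2 ≤ (Fintype.card K + 1) * p ^ i := Nat.mul_le_mul_left _ (by omega)
      omega
    have hp5 : p ≤ 5 := by
      by_contra h
      have : 6 * 6 ≤ p * p := Nat.mul_le_mul (by omega) (by omega)
      omega
    have he5 : e ≤ 4 := by
      by_contra h
      have : 2 ^ 5 ≤ p ^ e := le_trans (Nat.pow_le_pow_left hp2 5) (Nat.pow_le_pow_right (by omega) (by omega))
      omega
    rw [he, hN] at hdvd
    have hle' : (p ^ e + 1) * p ^ i ≤ 60 := by rw [← he]; omega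
    interval_cases p <;> interval_cases e <;> interval_cases i <;>
      omega
  rcases Dickson.shape p J with h | h | ⟨⟨f⟩⟩ | ⟨⟨f⟩⟩ | ⟨⟨f⟩⟩ | h
  · exfalso
    have h1 : Nat.gcd 2 (Fintype.card K - 1) * Nat.card J ∣
        Nat.gcd 2 (Fintype.card K - 1) * Nat.card (Dickson.borel K) := Nat.mul_dvd_mul_left _ h.card_dvd
    rw [Dickson.card_borel] at h1
    have h2 : Fintype.card K + 1 ∣ (Fintype.card K - 1) * Fintype.card K := by
      rw [mul_comm (Fintype.card K - 1)]
      exact ((dvd_mul_right _ _).trans hdvd).trans ((dvd_mul_left _ _).trans h1)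
    have h1K : 1 < Fintype.card K := Fintype.one_lt_card
    have := Nat.le_of_dvd (by omega) (hqco h2)
    omega
  · obtain ⟨a, ha, -, hdvd'⟩ := h.card_dvd
    have h1 : p ^ i ∣ 2 * Nat.card (Dickson.cen a) :=
      (dvd_mul_left _ _).trans (hdvd.trans hdvd')
    have hpc := Dickson.coprime_card_cen p ha
    have h2 : p ^ i ∣ 2 :=
      (Nat.Coprime.pow_left _ ((Nat.Prime.coprime_iff_not_dvd hp).2 hpc)).dvd_of_dvd_mul_right h1
    have h3 := Nat.le_of_dvd two_pos h2
    left
    refine ⟨by omega, ?_⟩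
    by_contra hne
    have : p ^ 2 ≤ p ^ i := Nat.pow_le_pow_right (by omega) (by omega)
    have : 2 * 2 ≤ p ^ 2 := by rw [sq]; exact Nat.mul_le_mul hp2 hp2
    omega
  · exact small ((Nat.card_congr f.toEquiv).trans Dickson.card_alt_four) (by norm_num) (by norm_num)
  · exact small ((Nat.card_congr f.toEquiv).trans Dickson.card_sym_four) (by norm_num) (by norm_num)
  · exact small ((Nat.card_congr f.toEquiv).trans Dickson.card_alt_five) (by norm_num) (by norm_num)
  · exfalso
    obtain ⟨v, m, hv, hm1, hm, hcard⟩ := h.exists_card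
    have hv2 := hv.two_le
    have hdd : (Fintype.card K + 1) ∣ v * (v ^ 2 - 1) := by
      rcases hcard with hcard | ⟨hcard, -⟩
      · exact hcard ▸ dvd_mul_of_dvd_right ((dvd_mul_right _ _).trans hdvd) _
      · exact hcard ▸ ((dvd_mul_right _ _).trans hdvd)
    have h2 : Fintype.card K + 1 ∣ v ^ 2 - 1 := by
      refine hqco ?_
      rw [mul_comm]
      exact hdd.trans (Nat.mul_dvd_mul_right (hm ▸ dvd_pow_self v (by omega)) _)
    have hv4 : 2 * 2 ≤ v ^ 2 := by rw [sq]; exact Nat.mul_le_mul hv2 hv2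
    have h3 := Nat.le_of_dvd (by omega) h2
    rcases Nat.lt_or_ge m 2 with hm2 | hm2
    · obtain rfl : m = 1 := by omega
      rw [pow_one] at hm
      refine hnq ?_
      rcases hcard with hcard | ⟨hcard, -⟩
      · have h4 : v ∣ Nat.gcd 2 (v - 1) * Nat.card J := hcard ▸ dvd_mul_right _ _
        have hco : Nat.Coprime v (Nat.gcd 2 (v - 1)) := by
          refine Nat.Coprime.coprime_dvd_right (Nat.gcd_dvd_right _ _) ?_
          exact ((Nat.coprime_self_sub_right (by omega)).2 (Nat.coprime_one_right _))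
        exact hm ▸ hco.dvd_of_dvd_mul_left h4
      · exact hm ▸ hcard ▸ dvd_mul_right _ _
    · have : v ^ 2 ≤ v ^ m := Nat.pow_le_pow_right (by omega) hm2
      omega

end Cfsg.Agent.H72.PSUThree
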