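import Cfsg.Agent.H72.PSUThree.Bounds
import Cfsg.Agent.H72.PSUThree.DicksonArith
import Mathlib.NumberTheory.LegendreSymbol.QuadraticChar.Basic

/-!
The stabiliser of a secant line acts on it through `PSL₂(q)` up to index two.
-/

set_option autoImplicit false
set_option linter.unusedSectionVars false

namespace Cfsg.Agent.H72.PSUThree

open Cfsg MulAction Cfsg.Agent.Unitary Cfsg.Agent.H52.SUThree Cfsg.Agent.Linear
open Matrix hiding vec

variable {F : Type*} [Field F] [Fintype F] {q : ℕ} {u w f : Fin 3 → F}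

local notation "G" => SU 3 F q
local notation "Pts" => IsoPoint 3 F q

/-- The stabiliser of the line orthogonal to `w`. -/
def lineStab (hfr : Frame q u w f) : Subgroup G where
  carrier := {g | ∃ c : F, c ≠ 0 ∧ ap g w = c • w}
  mul_mem' := by
    rintro a b ⟨c, hc0, hc⟩ ⟨d, hd0, hd⟩
    exact ⟨d * c, mul_ne_zero hd0 hc0, by rw [ap_mul, hd, ap_smul, hc, smul_smul]⟩
  one_mem' := ⟨1, one_ne_zero, by rw [ap_one, one_smul]⟩
  inv_mem' := by
    rintro a ⟨c, hc0, hc⟩
    refine ⟨c⁻¹, inv_ne_zero hc0, ?_⟩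
    conv_rhs => rw [← ap_inv_ap a w, hc, ap_smul, smul_smul, inv_mul_cancel₀ hc0, one_smul]

theorem mem_lineStab (hfr : Frame q u w f) {g : G} :
    g ∈ lineStab hfr ↔ ∃ c : F, c ≠ 0 ∧ ap g w = c • w := Iff.rfl

theorem onLine_smul (hF : Fintype.card F = q ^ 2) (hfr : Frame q u w f) {g : G} (hg : g ∈ lineStab hfr)
    {x : Pts} (hx : OnLine q w x) : OnLine q w (g • x) := by
  obtain ⟨c, hc0, hc⟩ := (mem_lineStab hfr).1 hg
  intro v hv
  rw [coe_smul_isoPoint] at hv
  obtain ⟨y, hy, rfl⟩ := hv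
  show hermForm 3 F q (ap g y) w = 0
  have h1 := herm_ap g y w
  rw [hc, herm_smul_right, hx y hy] at h1
  exact (mul_eq_zero.1 h1).resolve_left ((pow_q_eq_zero_iff hF).not.2 hc0)

/-- Membership from the images of the two points. -/
theorem mem_lineStab_of (hF : Fintype.card F = q ^ 2) (hfr : Frame q u w f) {g : G}
    (hu : OnLine q w (g • pu hfr)) (hf : OnLine q w (g • pf hfr)) : g ∈ lineStab hfr := by
  have hgi : g⁻¹ ∈ lineStab hfr := by
    have f1 : hermForm 3 F q (ap g u) w = 0 := hu _ (by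
      rw [coe_smul_isoPoint]; exact Submodule.mem_map_of_mem (Submodule.mem_span_singleton_self u))
    have f2 : hermForm 3 F q (ap g f) w = 0 := hf _ (by
      rw [coe_smul_isoPoint]; exact Submodule.mem_map_of_mem (Submodule.mem_span_singleton_self f))
    have g1 : hermForm 3 F q (ap g⁻¹ w) f = 0 := by
      rw [← herm_ap g, ap_ap_inv]; exact (herm_eq_zero_symm hF).1 f2
    have g2 : hermForm 3 F q (ap g⁻¹ w) u = 0 := by
      rw [← herm_ap g, ap_ap_inv]; exact (herm_eq_zero_symm hF).1 f1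
    have e : ap g⁻¹ w = hermForm 3 F q (ap g⁻¹ w) w • w := by
      conv_lhs => rw [hfr.expand (ap g⁻¹ w), g1, g2]
      simp [vec]
    refine ⟨_, fun h0 => ?_, e⟩
    rw [h0, zero_smul] at e
    have h2 := herm_ap g⁻¹ w w
    rw [e, herm_zero_left, hfr.ww] at h2
    exact zero_ne_one h2
  simpa using inv_mem hgi

theorem tHom_mem_lineStab (hF : Fintype.card F = q ^ 2) (hfr : Frame q u w f) (l : Fˣ) :
    tHom hF hfr l ∈ lineStab hfr :=
  mem_lineStab_of hF hfr (by rw [T_smul_pu]; exact onLine_pu hfr) (by rw [T_smul_pf]; exact onLine_pf hfr)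

theorem frame_symm (hfr : Frame q u w f) : Frame q f w u :=
  ⟨hfr.ff, hfr.uu, hfr.ww, hfr.fu, hfr.uf, hfr.wf, hfr.fw, hfr.wu, hfr.uw⟩

variable (hF : Fintype.card F = q ^ 2)

local notation "KK" => fixK hF

noncomputable instance fintype_fixK : Fintype (fixK hF) := Fintype.ofFinite _

theorem fintype_card_fixK : Fintype.card (fixK hF) = q := by
  rw [← Nat.card_eq_fintype_card, card_fixK hF]

/-- A fixed skew element. -/
noncomputable def skew : F := Classical.choose (exists_skew hF)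

theorem skew_ne : skew hF ≠ 0 := (Classical.choose_spec (exists_skew hF)).1

theorem skew_pow : skew hF ^ q = -skew hF := (Classical.choose_spec (exists_skew hF)).2

/-- The action on the line is given by the matrix `A` up to a scalar. -/
def Rep (u w f : Fin 3 → F) (g : G) (A : Matrix (Fin 2) (Fin 2) (fixK hF)) : Prop :=
  ∃ c : F, c ≠ 0 ∧
    ap g (skew hF • u) = vec u w f (c * (A 0 0 : F) * skew hF) 0 (c * (A 1 0 : F)) ∧
    ap g f = vec u w f (c * (A 0 1 : F) * skew hF) 0 (c * (A 1 1 : F))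

theorem Rep.mul {g h : G} {A B : Matrix (Fin 2) (Fin 2) (fixK hF)} (hA : Rep hF u w f g A)
    (hB : Rep hF u w f h B) : Rep hF u w f (g * h) (A * B) := by
  obtain ⟨c, hc, h1, h2⟩ := hA
  obtain ⟨d, hd, h3, h4⟩ := hB
  have hv : ∀ p s : F, ap g (vec u w f (p * skew hF) 0 s) =
      vec u w f ((p * (c * (A 0 0 : F)) + s * (c * (A 0 1 : F))) * skew hF) 0
        (p * (c * (A 1 0 : F)) + s * (c * (A 1 1 : F))) := fun p s => by
    rw [show vec u w f (p * skew hF) 0 s = p • (skew hF • u) + s • f by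
      simp only [vec]; module, ap_add, ap_smul, ap_smul g s, h1, h2]
    simp only [vec]
    module
  refine ⟨c * d, mul_ne_zero hc hd, ?_, ?_⟩
  · rw [ap_mul, h3, hv, Matrix.mul_apply, Matrix.mul_apply, Fin.sum_univ_two, Fin.sum_univ_two]
    push_cast
    congr 1 <;> ring
  · rw [ap_mul, h4, hv, Matrix.mul_apply, Matrix.mul_apply, Fin.sum_univ_two, Fin.sum_univ_two]
    push_cast
    congr 1 <;> ring

theorem Rep.one : Rep hF u w f (1 : G) 1 := by
  refine ⟨1, one_ne_zero, ?_, ?_⟩ <;> rw [ap_one] <;> simp [vec]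

variable (hfr : Frame q u w f)

theorem exists_rep {g : G} (hg : g ∈ lineStab hfr) :
    ∃ A : Matrix (Fin 2) (Fin 2) (fixK hF), A.det ≠ 0 ∧ Rep hF u w f g A := by
  obtain ⟨ν, hν0, hν⟩ := (mem_lineStab hfr).1 hg
  set δ := skew hF with hδ
  have hδ0 := skew_ne hF
  have hδq := skew_pow hF
  have hperp : ∀ v, hermForm 3 F q v w = 0 → hermForm 3 F q (ap g v) w = 0 := fun v hv => by
    have h1 := herm_ap g v w
    rw [hν, herm_smul_right, hv] at h1
    exact (mul_eq_zero.1 h1).resolve_left ((pow_q_eq_zero_iff hF).not.2 hν0)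
  obtain ⟨a, c, e1⟩ : ∃ a c, ap g (δ • u) = vec u w f (a * δ) 0 c := by
    refine ⟨hermForm 3 F q (ap g (δ • u)) f / δ, hermForm 3 F q (ap g (δ • u)) u, ?_⟩
    rw [div_mul_cancel₀ _ hδ0, ← hperp (δ • u) (by rw [herm_smul_left, hfr.uw, mul_zero])]
    exact hfr.expand _
  obtain ⟨b, d, e2⟩ : ∃ b d, ap g f = vec u w f (b * δ) 0 d := by
    refine ⟨hermForm 3 F q (ap g f) f / δ, hermForm 3 F q (ap g f) u, ?_⟩
    rw [div_mul_cancel₀ _ hδ0, ← hperp f hfr.fw]
    exact hfr.expand _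
  have r1 : a * c ^ q = c * a ^ q := by
    have h := herm_ap g (δ • u) (δ • u)
    rw [e1, hfr.herm_vec hF, herm_smul_left, herm_smul_right, hfr.uu, mul_pow, hδq] at h
    exact mul_left_cancel₀ hδ0 (by linear_combination h)
  have r2 : a * d ^ q - c * b ^ q = 1 := by
    have h := herm_ap g (δ • u) f
    rw [e1, e2, hfr.herm_vec hF, herm_smul_left, hfr.uf, mul_pow, hδq, zero_pow (q_ne_zero hF)] at h
    exact mul_left_cancel₀ hδ0 (by linear_combination h)
  have r3 : b * d ^ q = d * b ^ q := by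
    have h := herm_ap g f f
    rw [e2, hfr.herm_vec hF, hfr.ff, mul_pow, hδq] at h
    exact mul_left_cancel₀ hδ0 (by linear_combination h)
  have r2' : a ^ q * d - c ^ q * b = 1 := by
    have := congrArg (· ^ q) r2
    simpa only [sub_pow_q hF, mul_pow, pow_q_q hF, one_pow] using this
  set Δ := a * d - b * c with hΔ
  have ea : a ^ q * Δ = a := by linear_combination a * r2' + b * r1
  have ec : c ^ q * Δ = c := by linear_combination c * r2' + d * r1
  have eb : b ^ q * Δ = b := by linear_combination b * r2 - a * r3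
  have ed : d ^ q * Δ = d := by linear_combination d * r2 - c * r3
  have hΔ1 : Δ ^ (q + 1) = 1 := by
    obtain ⟨x, hx0, hx⟩ : ∃ x : F, x ≠ 0 ∧ x ^ q * Δ = x := by
      by_cases ha : a = 0
      · refine ⟨c, fun hc => ?_, ec⟩
        rw [ha, hc, zero_mul, zero_mul, sub_zero] at r2
        exact zero_ne_one r2
      · exact ⟨a, ha, ea⟩
    have h1 := congrArg (· ^ q) hx
    simp only [mul_pow, pow_q_q hF] at h1
    rw [← h1, mul_assoc, ← pow_succ] at hx
    exact mul_left_cancel₀ hx0 (hx.trans (mul_one x).symm)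
  have hΔ0 : Δ ≠ 0 := fun h => by simp [h] at hΔ1
  obtain ⟨k, hk⟩ : ∃ k : Fˣ, k ^ (q - 1) = Units.mk0 Δ hΔ0 := by
    have : Units.mk0 Δ hΔ0 ∈ (powMonoidHom (q - 1) : Fˣ →* Fˣ).range := by
      rw [range_pow_sub_eq_ker hF, MonoidHom.mem_ker, powMonoidHom_apply]
      exact Units.ext (by simpa using hΔ1)
    exact this
  have hkq : (k : F) ^ q = Δ * k := by
    have := congrArg Units.val hk
    simp only [Units.val_pow_eq_pow_val, Units.val_mk0] at this
    rw [← this, ← pow_succ, Nat.sub_add_cancel (q_pos hF)]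
  have hfix : ∀ x : F, x ^ q * Δ = x → (k : F) * x ∈ fixK hF := fun x hx => by
    rw [mem_fixK hF, mul_pow, hkq]
    linear_combination (k : F) * hx
  refine ⟨!![⟨_, hfix a ea⟩, ⟨_, hfix b eb⟩; ⟨_, hfix c ec⟩, ⟨_, hfix d ed⟩], ?_,
    (k : F)⁻¹, inv_ne_zero k.ne_zero, ?_, ?_⟩
  · intro h
    have h1 := congrArg (fun x : fixK hF => (x : F)) h
    simp [Matrix.det_fin_two_of] at h1
    exact hΔ0 (mul_left_cancel₀ (mul_ne_zero k.ne_zero k.ne_zero)
      (by rw [mul_zero]; linear_combination h1))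
  · rw [e1, hδ]
    simp
  · rw [e2, hδ]
    simp

theorem Rep.unique {g : G} {A B : Matrix.SpecialLinearGroup (Fin 2) (fixK hF)}
    (hA : Rep hF u w f g (A : Matrix (Fin 2) (Fin 2) (fixK hF)))
    (hB : Rep hF u w f g (B : Matrix (Fin 2) (Fin 2) (fixK hF))) (hfr : Frame q u w f) :
    Dickson.proj A = Dickson.proj B := by
  obtain ⟨c, hc, h1, h2⟩ := hA
  obtain ⟨d, hd, h3, h4⟩ := hB
  obtain ⟨e00, -, e10⟩ := vec_inj hfr (h1.symm.trans h3)
  obtain ⟨e01, -, e11⟩ := vec_inj hfr (h2.symm.trans h4)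
  have hδ := skew_ne hF
  replace e00 := mul_right_cancel₀ hδ e00
  replace e01 := mul_right_cancel₀ hδ e01
  set a := (A : Matrix (Fin 2) (Fin 2) (fixK hF))
  set b := (B : Matrix (Fin 2) (Fin 2) (fixK hF))
  have hdA : (a 0 0 : F) * a 1 1 - a 0 1 * a 1 0 = 1 := by
    exact_mod_cast (Matrix.det_fin_two a).symm.trans A.2
  have hdB : (b 0 0 : F) * b 1 1 - b 0 1 * b 1 0 = 1 := by
    exact_mod_cast (Matrix.det_fin_two b).symm.trans B.2
  have hcd : c ^ 2 = d ^ 2 := by
    linear_combination (-(c ^ 2)) * hdA + d ^ 2 * hdB + (c * (a 1 1 : F)) * e00 +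
      (d * (b 0 0 : F)) * e11 - (c * (a 1 0 : F)) * e01 - (d * (b 0 1 : F)) * e10
  rw [Dickson.proj_eq_iff]
  rcases eq_or_eq_neg_of_sq_eq_sq c d hcd with h | h
  · left
    subst h
    ext i j
    fin_cases i <;> fin_cases j
    · exact (mul_left_cancel₀ hc e00).symm
    · exact (mul_left_cancel₀ hc e01).symm
    · exact (mul_left_cancel₀ hc e10).symm
    · exact (mul_left_cancel₀ hc e11).symm
  · right
    subst h
    have hn : ∀ x y : F, -d * x = d * y → y = -x := fun x y h =>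
      mul_left_cancel₀ hd (by linear_combination -h)
    ext i j
    rw [Matrix.SpecialLinearGroup.coe_neg, Matrix.neg_apply]
    push_cast
    fin_cases i <;> fin_cases j
    · exact hn _ _ e00
    · exact hn _ _ e01
    · exact hn _ _ e10
    · exact hn _ _ e11

/-- The elements of the line stabiliser acting as elements of `SL₂(q)`. -/
noncomputable def lineSpecial : Subgroup G where
  carrier := {g | g ∈ lineStab hfr ∧ ∃ A : Matrix.SpecialLinearGroup (Fin 2) (fixK hF),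
    Rep hF u w f g (A : Matrix (Fin 2) (Fin 2) (fixK hF))}
  mul_mem' := by
    rintro a b ⟨ha, A, hA⟩ ⟨hb, B, hB⟩
    exact ⟨mul_mem ha hb, A * B, by rw [Matrix.SpecialLinearGroup.coe_mul]; exact hA.mul hF hB⟩
  one_mem' := ⟨one_mem _, 1, by rw [Matrix.SpecialLinearGroup.coe_one]; exact Rep.one hF⟩
  inv_mem' := by
    rintro a ⟨ha, A, hA⟩
    have key : ∀ n : ℕ, Rep hF u w f (a ^ n)
        ((A ^ n : Matrix.SpecialLinearGroup (Fin 2) (fixK hF)) : Matrix (Fin 2) (Fin 2) (fixK hF)) := by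
      intro n
      induction n with
      | zero => rw [pow_zero, pow_zero, Matrix.SpecialLinearGroup.coe_one]; exact Rep.one hF
      | succ n ih =>
        rw [pow_succ, pow_succ, Matrix.SpecialLinearGroup.coe_mul]
        exact ih.mul hF hA
    refine ⟨inv_mem ha, A ^ (orderOf a - 1), ?_⟩
    have : a⁻¹ = a ^ (orderOf a - 1) := by
      refine inv_eq_of_mul_eq_one_left ?_
      rw [← pow_succ, Nat.sub_add_cancel (orderOf_pos a), pow_orderOf_eq_one]
    rw [this]
    exact key _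

theorem mem_lineSpecial {g : G} : g ∈ lineSpecial hF hfr ↔ g ∈ lineStab hfr ∧
    ∃ A : Matrix.SpecialLinearGroup (Fin 2) (fixK hF),
      Rep hF u w f g (A : Matrix (Fin 2) (Fin 2) (fixK hF)) := Iff.rfl

/-- The action on the line. -/
noncomputable def lineHom :
    lineSpecial hF hfr →* Matrix.ProjectiveSpecialLinearGroup (Fin 2) (fixK hF) :=
  MonoidHom.mk' (fun g => Dickson.proj (Classical.choose g.2.2)) fun a b => by
    rw [← map_mul]
    refine Rep.unique hF (Classical.choose_spec (a * b).2.2) ?_ hfr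
    rw [Matrix.SpecialLinearGroup.coe_mul]
    exact (Classical.choose_spec a.2.2).mul hF (Classical.choose_spec b.2.2)

theorem mul_mem_lineSpecial {a b : G} (ha : a ∈ lineStab hfr) (hb : b ∈ lineStab hfr)
    (ha' : a ∉ lineSpecial hF hfr) (hb' : b ∉ lineSpecial hF hfr) : a * b ∈ lineSpecial hF hfr := by
  classical
  have scale : ∀ {g : G} {A : Matrix (Fin 2) (Fin 2) (fixK hF)}, g ∈ lineStab hfr → Rep hF u w f g A →
      A.det ≠ 0 → IsSquare A.det → g ∈ lineSpecial hF hfr := by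
    rintro g A hg ⟨c, hc, h1, h2⟩ h0 ⟨t, ht⟩
    have ht0 : t ≠ 0 := fun h => h0 (by rw [ht, h, mul_zero])
    have htF : (t : F) ≠ 0 := fun h => ht0 (Subtype.ext h)
    refine (mem_lineSpecial hF hfr).2 ⟨hg, ⟨t⁻¹ • A, ?_⟩, c * (t : F), mul_ne_zero hc htF, ?_, ?_⟩
    · rw [Matrix.det_smul, Fintype.card_fin, ht]
      field_simp
    · rw [h1]
      simp only [Matrix.smul_apply, smul_eq_mul]
      push_cast
      congr 1 <;> field_simp
    · rw [h2]
      simp only [Matrix.smul_apply, smul_eq_mul]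
      push_cast
      congr 1 <;> field_simp
  obtain ⟨A, hA0, hA⟩ := exists_rep hF hfr ha
  obtain ⟨B, hB0, hB⟩ := exists_rep hF hfr hb
  have h1 := quadraticChar_neg_one_iff_not_isSquare.2 fun h => ha' (scale ha hA hA0 h)
  have h2 := quadraticChar_neg_one_iff_not_isSquare.2 fun h => hb' (scale hb hB hB0 h)
  refine scale (mul_mem ha hb) (hA.mul hF hB) (by rw [Matrix.det_mul]; exact mul_ne_zero hA0 hB0) ?_
  rw [Matrix.det_mul, ← quadraticChar_one_iff_isSquare (mul_ne_zero hA0 hB0), map_mul, h1, h2]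
  rfl

theorem card_le_two_mul (H : Subgroup G) :
    Nat.card (H ⊓ lineStab hfr : Subgroup G) ≤ 2 * Nat.card (H ⊓ lineSpecial hF hfr : Subgroup G) := by
  classical
  by_cases hall : ∀ a ∈ (H ⊓ lineStab hfr : Subgroup G), a ∈ lineSpecial hF hfr
  · refine le_trans ?_ (Nat.le_mul_of_pos_left _ two_pos)
    exact Subgroup.card_le_of_le fun a ha => ⟨ha.1, hall a ha⟩
  push Not at hall
  obtain ⟨a, ⟨haH, haL⟩, ha⟩ := hall
  rw [show 2 * Nat.card (H ⊓ lineSpecial hF hfr : Subgroup G) =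
    Nat.card (Bool × (H ⊓ lineSpecial hF hfr : Subgroup G)) by rw [Nat.card_prod]; simp]
  refine Nat.card_le_card_of_injective (fun b : (H ⊓ lineStab hfr : Subgroup G) =>
    if hb : (b : G) ∈ lineSpecial hF hfr then (true, ⟨b, b.2.1, hb⟩)
    else (false, ⟨a * b, mul_mem haH b.2.1, mul_mem_lineSpecial hF hfr haL b.2.2 ha hb⟩)) fun x y h => ?_
  by_cases hx : (x : G) ∈ lineSpecial hF hfr <;> by_cases hy : (y : G) ∈ lineSpecial hF hfr <;>
    simp [hx, hy] at h
  · exact Subtype.ext (congrArg Subtype.val h :)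
  · exact Subtype.ext (mul_left_cancel (congrArg Subtype.val h :))

theorem E_mem_lineSpecial {β : F} (h : Ok q (0 : F) β) :
    eSU hF (h.spec hfr) ∈ lineSpecial hF hfr := by
  have hδ := skew_ne hF
  have hx : β / skew hF ∈ fixK hF := by
    rw [mem_fixK hF, div_pow, skew_pow hF, eq_neg_of_add_eq_zero_right ((ok_zero_iff hF).1 h), neg_div_neg_eq]
  refine (mem_lineSpecial hF hfr).2 ⟨mem_lineStab_of hF hfr
    (by rw [E_smul_pu hF hfr h]; exact onLine_pu hfr)
    ((onLine_E_pf_iff hF hfr h).2 rfl), ⟨!![1, ⟨_, hx⟩; 0, 1], by simp [Matrix.det_fin_two_of]⟩,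
    1, one_ne_zero, ?_, ?_⟩
  · rw [ap_smul, ap_E_u hF hfr h]
    simp [vec]
  · rw [ap_E_f hF hfr h]
    simp [div_mul_cancel₀ _ hδ]

theorem E'_mem_lineSpecial {γ : F} (h : Ok q (0 : F) γ) :
    eSU hF (h.spec' hfr) ∈ lineSpecial hF hfr := by
  have hδ := skew_ne hF
  have hx : skew hF * γ ∈ fixK hF := by
    rw [mem_fixK hF, mul_pow, skew_pow hF, eq_neg_of_add_eq_zero_right ((ok_zero_iff hF).1 h), neg_mul_neg]
  have e1 : ap (eSU hF (h.spec' hfr)) f = f := by
    simpa [vec] using ap_E' hF hfr h 0 0 1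
  have e2 : ap (eSU hF (h.spec' hfr)) u = vec u w f 1 0 γ := by
    simpa [vec] using ap_E' hF hfr h 1 0 0
  refine (mem_lineSpecial hF hfr).2 ⟨?_, ⟨!![1, 0; ⟨_, hx⟩, 1], by simp [Matrix.det_fin_two_of]⟩,
    1, one_ne_zero, ?_, ?_⟩
  · refine ⟨1, one_ne_zero, ?_⟩
    simpa [vec, q_ne_zero hF] using ap_E' hF hfr h 0 1 0
  · rw [ap_smul, e2, vec_smul]
    simp
  · rw [e1]
    simp [vec]

/-- Transvections centred on the line act as elements of `SL₂(q)`. -/
theorem root_le_lineSpecial {x : Pts} (hx : OnLine q w x) : rootSub x ≤ lineSpecial hF hfr := by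
  have hu : rootSub (pu hfr) ≤ lineSpecial hF hfr := fun g hg => by
    obtain ⟨β, h, rfl⟩ := (mem_root_iff hF hfr).1 hg
    exact E_mem_lineSpecial hF hfr h
  by_cases hxu : x = pu hfr
  · rw [hxu]; exact hu
  obtain ⟨b, β, h, rfl⟩ := exists_E_pf hF hfr hxu
  obtain rfl := (onLine_E_pf_iff hF hfr h).1 hx
  refine root_conj_le (E_mem_lineSpecial hF hfr h) fun g hg => ?_
  obtain ⟨γ, h', rfl⟩ := (mem_root_iff hF (frame_symm hfr)).1 hg
  exact E'_mem_lineSpecial hF hfr h'

theorem exists_T_of_lineHom_eq_one {g : lineSpecial hF hfr} (h : lineHom hF hfr g = 1) :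
    ∃ l : Fˣ, (g : G) = tHom hF hfr l ∧ l ^ (q + 1) = 1 := by
  set A := Classical.choose g.2.2 with hA
  obtain ⟨c, hc, e1, e2⟩ := Classical.choose_spec g.2.2
  rw [← hA] at e1 e2
  obtain ⟨r, hr⟩ : ∃ r : F, ((A : Matrix (Fin 2) (Fin 2) (fixK hF)) 0 0 : F) = r ∧
      ((A : Matrix (Fin 2) (Fin 2) (fixK hF)) 1 1 : F) = r ∧
      ((A : Matrix (Fin 2) (Fin 2) (fixK hF)) 0 1 : F) = 0 ∧
      ((A : Matrix (Fin 2) (Fin 2) (fixK hF)) 1 0 : F) = 0 := by
    have h1 : Dickson.proj A = Dickson.proj 1 := by rw [map_one]; exact h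
    rcases (Dickson.proj_eq_iff.1 h1) with e | e
    · exact ⟨1, by rw [← e]; simp⟩
    · refine ⟨-1, ?_⟩
      rw [show A = -(1 : Matrix.SpecialLinearGroup (Fin 2) (fixK hF)) by rw [e, neg_neg]]
      simp
  obtain ⟨r00, r11, r01, r10⟩ := hr
  rw [r00, r10, mul_zero] at e1
  rw [r01, r11, mul_zero, zero_mul] at e2
  have hu : ap (g : G) u = (c * r) • u := by
    refine smul_right_injective _ (skew_ne hF) ?_
    show skew hF • ap (g : G) u = skew hF • ((c * r) • u)
    rw [← ap_smul, e1]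
    simp only [vec]
    module
  have hf : ap (g : G) f = (c * r) • f := by rw [e2]; simp [vec]
  have hcr : c * r ≠ 0 := fun h0 => ne_zero_u hfr (ap_injective (g : G) (by rw [hu, h0, zero_smul, ap_zero]))
  obtain ⟨l, b, β, hok, eg⟩ := exists_decomp hF hfr ((smul_pu_iff hfr).2 ⟨_, hcr, hu⟩)
  have h3 := hf
  rw [eg, ap_mul, ap_T_f, ap_smul, ap_E_f hF hfr hok, vec_smul] at h3
  have h4 := hu
  rw [eg, ap_mul, ap_T_u, ap_smul, ap_E_u hF hfr hok] at h4
  have hl : (l : F) = c * r := smul_left_injective F (ne_zero_u hfr) h4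
  rw [show (c * r) • f = vec u w f 0 0 (c * r) by simp [vec]] at h3
  have hlq := inv_ne_zero ((pow_q_eq_zero_iff hF).not.2 l.ne_zero)
  obtain ⟨g1, g2, g3⟩ := vec_inj hfr h3
  obtain rfl : β = 0 := (mul_eq_zero.1 g1).resolve_left hlq
  obtain rfl : b = 0 := (mul_eq_zero.1 g2).resolve_left hlq
  refine ⟨l, by rw [eg, E_zero hF hfr, one_mul], Units.ext ?_⟩
  simp only [mul_one, ← hl] at g3
  rw [Units.val_pow_eq_pow_val, Units.val_one, pow_succ]
  nth_rw 2 [← g3]
  exact mul_inv_cancel₀ ((pow_q_eq_zero_iff hF).not.2 l.ne_zero)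

/-- The image of `H` on the line. -/
noncomputable def lineImage (H : Subgroup G) :
    Subgroup (Matrix.ProjectiveSpecialLinearGroup (Fin 2) (fixK hF)) :=
  (H.subgroupOf (lineSpecial hF hfr)).map (lineHom hF hfr)

/-- The kernel on the line inside `H`, as a group of eigenvalues. -/
theorem card_line_eq (H : Subgroup G) :
    ∃ N : Subgroup Fˣ, N ≤ lamSet hF hfr H ∧ (∀ l ∈ N, l ^ (q + 1) = 1) ∧
      Nat.card (H ⊓ lineSpecial hF hfr : Subgroup G) =
        Nat.card (lineImage hF hfr H) * Nat.card N := by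
  set φ := (lineHom hF hfr).comp
    (Subgroup.inclusion (inf_le_right : H ⊓ lineSpecial hF hfr ≤ lineSpecial hF hfr)) with hφ
  have hst : ∀ g : φ.ker, ((g.1 : G)) ∈ st hfr := fun g => by
    obtain ⟨l, e, -⟩ := exists_T_of_lineHom_eq_one hF hfr (g := ⟨g.1.1, g.1.2.2⟩) g.2
    rw [show (g.1 : G) = tHom hF hfr l from e]
    exact mem_stabilizer_iff.2 (T_smul_pu hF hfr l)
  let ψ : φ.ker →* Fˣ := MonoidHom.mk' (fun g => lamHom hF hfr ⟨(g.1 : G), hst g⟩) fun a b => by
    rw [← map_mul]; rfl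
  have hψ : ∀ g, ∃ l, ψ g = l ∧ (g.1 : G) = tHom hF hfr l ∧ l ^ (q + 1) = 1 := fun g => by
    obtain ⟨l, e, hl⟩ := exists_T_of_lineHom_eq_one hF hfr (g := ⟨g.1.1, g.1.2.2⟩) g.2
    refine ⟨l, lamHom_eq hF hfr (Ok.zero hF) ?_, e, hl⟩
    rw [E_zero hF hfr, one_mul]
    exact e
  refine ⟨ψ.range, ?_, ?_, ?_⟩
  · rintro _ ⟨g, rfl⟩
    exact ⟨⟨_, hst g⟩, g.1.2.1, rfl⟩
  · rintro _ ⟨g, rfl⟩
    obtain ⟨l, e, -, hl⟩ := hψ g
    rwa [e]
  · have hrange : φ.range = lineImage hF hfr H := by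
      ext x
      constructor
      · rintro ⟨g, rfl⟩
        exact ⟨_, g.2.1, rfl⟩
      · rintro ⟨g, hg, rfl⟩
        exact ⟨⟨g.1, hg, g.2⟩, rfl⟩
    have hinj : Function.Injective ψ := fun a b e => by
      obtain ⟨l, ea, ha, -⟩ := hψ a
      obtain ⟨l', eb, hb, -⟩ := hψ b
      obtain rfl : l = l' := ea.symm.trans (e.trans eb)
      exact Subtype.ext (Subtype.ext (ha.trans hb.symm))
    rw [← φ.ker.card_mul_index, Subgroup.index_ker, hrange, mul_comm,
      Nat.card_congr (MonoidHom.ofInjective hinj).toEquiv]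

end Cfsg.Agent.H72.PSUThree
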