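import Mathlib

/-!
A model of the field with 25 elements, and certificates for the orbits of a subgroup of `SU₃(5)`
of index 50 on isotropic and on anisotropic points.
-/

set_option autoImplicit false

namespace Cfsg.Agent.H72.PSUThree.Seven

/-- `a + b ω` with `ω² = 2`. -/
abbrev M : Type := ℕ × ℕ

/-- Coordinate vectors. -/
abbrev V : Type := M × M × M

/-- Addition of the model. -/
def madd (x y : M) : M := ((x.1 + y.1) % 5, (x.2 + y.2) % 5)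

/-- Multiplication of the model. -/
def mmul (x y : M) : M := ((x.1 * y.1 + 2 * (x.2 * y.2)) % 5, (x.1 * y.2 + x.2 * y.1) % 5)

/-- The scalar multiples of a vector. -/
def msmul (c : M) (v : V) : V := (mmul c v.1, mmul c v.2.1, mmul c v.2.2)

/-- The action of the three generators. -/
def act : ℕ → V → V
  | 0, (p, r, s) => (madd (madd p (mmul (4, 0) r)) (mmul (2, 0) s), madd r s, madd s (0, 0))
  | 1, (p, r, s) => (mmul (4, 4) p, mmul (2, 2) r, mmul (1, 1) s)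
  | _, (p, r, s) => (madd (mmul (4, 0) p) (mmul (0, 2) s), madd r (0, 0), madd (mmul (0, 2) p) s)

/-- Reduced elements. -/
def red (x : M) : Bool := x.1 < 5 && x.2 < 5

/-- Reduced vectors with first nonzero coordinate `1`. -/
def norm1 (v : V) : Bool :=
  red v.1 && red v.2.1 && red v.2.2 &&
    (v.1 == (1, 0) || (v.1 == (0, 0) && (v.2.1 == (1, 0) || (v.2.1 == (0, 0) && v.2.2 == (1, 0)))))

/-- A code for reduced vectors. -/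
def code (v : V) : ℕ :=
  ((((v.1.1 * 5 + v.1.2) * 5 + v.2.1.1) * 5 + v.2.1.2) * 5 + v.2.2.1) * 5 + v.2.2.2

/-- The isotropic points, in the order of a search from the first. -/
def isoPts : List V := [
  ((1, 0), (0, 0), (0, 0)), ((1, 0), (0, 0), (0, 3)), ((1, 0), (1, 2), (1, 2)),
  ((1, 0), (0, 0), (0, 2)), ((1, 0), (3, 4), (4, 2)), ((1, 0), (3, 1), (4, 3)),
  ((1, 0), (4, 2), (1, 1)), ((1, 0), (1, 3), (1, 3)), ((1, 0), (2, 1), (4, 2)),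
  ((1, 0), (4, 2), (1, 3)), ((1, 0), (2, 4), (4, 1)), ((1, 0), (2, 4), (4, 3)),
  ((1, 0), (4, 3), (1, 2)), ((1, 0), (4, 4), (3, 1)), ((1, 0), (0, 2), (4, 4)),
  ((1, 0), (2, 1), (4, 4)), ((1, 0), (3, 2), (2, 1)), ((1, 0), (3, 1), (4, 1)),
  ((1, 0), (2, 3), (2, 1)), ((1, 0), (2, 2), (2, 0)), ((1, 0), (1, 2), (1, 4)),
  ((1, 0), (1, 1), (3, 1)), ((1, 0), (1, 3), (1, 1)), ((1, 0), (1, 4), (3, 4)),
  ((1, 0), (2, 2), (2, 4)), ((1, 0), (1, 0), (2, 3)), ((1, 0), (0, 1), (1, 1)),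
  ((1, 0), (4, 0), (2, 4)), ((1, 0), (2, 3), (2, 0)), ((1, 0), (0, 4), (1, 3)),
  ((1, 0), (4, 1), (3, 4)), ((1, 0), (2, 0), (3, 3)), ((1, 0), (4, 3), (1, 4)),
  ((1, 0), (0, 3), (4, 0)), ((1, 0), (0, 4), (1, 4)), ((1, 0), (1, 1), (3, 0)),
  ((1, 0), (3, 0), (3, 0)), ((1, 0), (1, 0), (2, 1)), ((1, 0), (0, 2), (4, 2)),
  ((1, 0), (3, 3), (2, 4)), ((1, 0), (1, 0), (2, 4)), ((1, 0), (3, 4), (4, 4)),
  ((1, 0), (0, 3), (4, 3)), ((1, 0), (0, 2), (4, 0)), ((1, 0), (4, 1), (3, 0)),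
  ((1, 0), (3, 0), (3, 2)), ((1, 0), (4, 4), (3, 3)), ((1, 0), (2, 0), (3, 1)),
  ((1, 0), (0, 3), (4, 4)), ((1, 0), (1, 3), (1, 2)), ((1, 0), (1, 4), (3, 0)),
  ((1, 0), (0, 4), (1, 2)), ((1, 0), (3, 3), (2, 1)), ((1, 0), (3, 0), (3, 4)),
  ((1, 0), (1, 0), (2, 2)), ((1, 0), (3, 2), (2, 3)), ((1, 0), (0, 3), (4, 1)),
  ((1, 0), (0, 4), (1, 0)), ((1, 0), (4, 4), (3, 2)), ((1, 0), (2, 0), (3, 4)),
  ((1, 0), (0, 2), (4, 1)), ((1, 0), (4, 0), (2, 2)), ((1, 0), (3, 3), (2, 0)),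
  ((1, 0), (3, 2), (2, 0)), ((1, 0), (4, 0), (2, 0)), ((1, 0), (4, 3), (1, 3)),
  ((1, 0), (0, 1), (1, 0)), ((1, 0), (0, 1), (1, 3)), ((1, 0), (3, 4), (4, 1)),
  ((1, 0), (0, 1), (1, 2)), ((1, 0), (3, 0), (3, 1)), ((1, 0), (2, 0), (3, 2)),
  ((1, 0), (4, 1), (3, 1)), ((1, 0), (1, 1), (3, 2)), ((1, 0), (1, 0), (2, 0)),
  ((1, 0), (4, 0), (2, 3)), ((1, 0), (3, 1), (4, 0)), ((1, 0), (2, 2), (2, 2)),
  ((1, 0), (3, 4), (4, 3)), ((1, 0), (0, 4), (1, 1)), ((1, 0), (2, 4), (4, 4)),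
  ((1, 0), (0, 2), (4, 3)), ((1, 0), (4, 3), (1, 1)), ((1, 0), (4, 4), (3, 4)),
  ((1, 0), (0, 1), (1, 4)), ((1, 0), (4, 0), (2, 1)), ((1, 0), (4, 4), (3, 0)),
  ((1, 0), (3, 0), (3, 3)), ((1, 0), (1, 3), (1, 0)), ((1, 0), (0, 0), (0, 4)),
  ((1, 0), (4, 1), (3, 2)), ((1, 0), (2, 4), (4, 2)), ((1, 0), (0, 3), (4, 2)),
  ((1, 0), (3, 2), (2, 2)), ((1, 0), (4, 2), (1, 4)), ((1, 0), (2, 2), (2, 3)),
  ((1, 0), (3, 1), (4, 2)), ((1, 0), (4, 2), (1, 0)), ((1, 0), (2, 0), (3, 0)),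
  ((1, 0), (3, 3), (2, 3)), ((1, 0), (2, 3), (2, 2)), ((1, 0), (2, 2), (2, 1)),
  ((1, 0), (1, 2), (1, 1)), ((1, 0), (2, 1), (4, 3)), ((1, 0), (2, 4), (4, 0)),
  ((1, 0), (1, 2), (1, 0)), ((1, 0), (2, 3), (2, 4)), ((1, 0), (1, 1), (3, 3)),
  ((1, 0), (4, 3), (1, 0)), ((1, 0), (1, 4), (3, 2)), ((1, 0), (4, 2), (1, 2)),
  ((1, 0), (3, 2), (2, 4)), ((1, 0), (1, 4), (3, 1)), ((1, 0), (1, 2), (1, 3)),
  ((1, 0), (2, 3), (2, 3)), ((1, 0), (3, 4), (4, 0)), ((1, 0), (0, 0), (0, 1)),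
  ((0, 0), (0, 0), (1, 0)), ((1, 0), (3, 3), (2, 2)), ((1, 0), (2, 1), (4, 1)),
  ((1, 0), (4, 1), (3, 3)), ((1, 0), (2, 1), (4, 0)), ((1, 0), (1, 1), (3, 4)),
  ((1, 0), (1, 4), (3, 3)), ((1, 0), (3, 1), (4, 4)), ((1, 0), (1, 3), (1, 4))]

/-- A parent, a generator and a scalar for every point after the first. -/
def isoPar : List (ℕ × ℕ × M) := [
  (0, 2, (4, 0)), (1, 0, (1, 1)), (1, 1, (4, 4)), (2, 0, (2, 2)), (2, 1, (4, 4)), (2, 2, (2, 2)),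
  (3, 0, (1, 4)), (4, 0, (1, 0)), (4, 1, (4, 4)), (4, 2, (2, 3)), (5, 0, (1, 0)), (5, 1, (4, 4)),
  (5, 2, (1, 3)), (6, 0, (4, 0)), (6, 1, (4, 4)), (7, 2, (1, 2)), (8, 2, (2, 3)), (9, 2, (1, 2)),
  (10, 0, (2, 3)), (10, 1, (4, 4)), (11, 2, (1, 3)), (12, 2, (2, 2)), (13, 0, (3, 3)),
  (13, 1, (4, 4)), (14, 0, (4, 1)), (14, 1, (4, 4)), (14, 2, (0, 3)), (15, 0, (2, 2)),
  (16, 0, (2, 0)), (16, 1, (4, 4)), (17, 0, (1, 1)), (17, 1, (4, 4)), (18, 0, (3, 4)),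
  (19, 0, (3, 3)), (19, 1, (4, 4)), (19, 2, (4, 4)), (20, 0, (2, 1)), (21, 0, (1, 1)),
  (21, 1, (4, 4)), (22, 0, (2, 4)), (22, 1, (4, 4)), (23, 0, (1, 4)), (24, 0, (3, 1)),
  (25, 0, (4, 1)), (25, 1, (4, 4)), (25, 2, (1, 4)), (26, 0, (3, 1)), (26, 1, (4, 4)),
  (26, 2, (3, 2)), (28, 1, (4, 4)), (29, 0, (3, 2)), (29, 2, (1, 2)), (31, 0, (0, 1)),
  (31, 1, (4, 4)), (31, 2, (1, 1)), (32, 0, (4, 0)), (33, 1, (4, 4)), (33, 2, (4, 3)),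
  (34, 0, (3, 4)), (34, 1, (4, 4)), (35, 0, (1, 4)), (35, 1, (4, 4)), (35, 2, (4, 1)),
  (36, 0, (4, 0)), (37, 2, (3, 4)), (38, 0, (4, 2)), (38, 1, (4, 4)), (38, 2, (2, 3)),
  (39, 0, (2, 0)), (40, 1, (4, 4)), (41, 0, (1, 4)), (42, 2, (1, 3)), (43, 2, (4, 3)),
  (44, 2, (4, 1)), (45, 1, (4, 4)), (45, 2, (2, 1)), (46, 1, (4, 4)), (47, 2, (3, 1)),
  (48, 1, (4, 4)), (49, 0, (2, 1)), (51, 1, (4, 4)), (51, 2, (2, 2)), (52, 1, (4, 4)),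
  (53, 0, (4, 3)), (53, 1, (4, 4)), (54, 0, (4, 4)), (54, 1, (4, 4)), (54, 2, (2, 4)),
  (55, 0, (2, 4)), (55, 1, (4, 4)), (56, 2, (3, 3)), (57, 0, (3, 1)), (57, 2, (4, 2)),
  (58, 0, (3, 0)), (58, 1, (4, 4)), (60, 2, (3, 3)), (61, 2, (2, 4)), (62, 2, (4, 4)),
  (65, 0, (4, 3)), (66, 2, (4, 2)), (67, 2, (1, 2)), (69, 2, (2, 2)), (70, 2, (3, 1)),
  (71, 2, (2, 1)), (72, 0, (3, 1)), (72, 1, (4, 4)), (75, 2, (1, 4)), (76, 1, (4, 4)),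
  (77, 0, (3, 2)), (78, 1, (4, 4)), (80, 2, (0, 3)), (81, 2, (1, 3)), (85, 2, (3, 4)),
  (87, 2, (1, 1)), (88, 1, (4, 4)), (89, 1, (4, 4)), (89, 2, (0, 1)), (90, 0, (3, 3)),
  (92, 2, (2, 3)), (93, 1, (4, 4)), (94, 0, (4, 1)), (94, 2, (0, 2)), (99, 2, (1, 4)),
  (102, 1, (4, 4)), (115, 0, (1, 1))]

/-- An orbit on anisotropic points. -/
def anPts : List V := [
  ((0, 0), (1, 0), (0, 0)), ((1, 0), (4, 0), (0, 0)), ((1, 0), (2, 0), (0, 0)),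
  ((1, 0), (1, 0), (0, 3)), ((1, 0), (3, 0), (0, 0)), ((1, 0), (1, 0), (0, 0)),
  ((1, 0), (3, 0), (0, 3)), ((1, 0), (3, 3), (3, 0)), ((1, 0), (3, 0), (0, 2)),
  ((1, 0), (2, 0), (0, 3)), ((1, 0), (4, 0), (0, 3)), ((1, 0), (4, 3), (2, 2)),
  ((1, 0), (4, 0), (0, 2)), ((1, 0), (4, 0), (4, 3)), ((1, 0), (4, 4), (2, 0)),
  ((1, 0), (4, 1), (2, 0)), ((1, 0), (4, 2), (2, 3)), ((1, 0), (3, 0), (1, 3)),
  ((1, 0), (1, 0), (0, 2)), ((1, 0), (1, 1), (2, 3)), ((1, 0), (2, 0), (0, 2)),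
  ((1, 0), (2, 4), (3, 3)), ((1, 0), (2, 0), (1, 0)), ((1, 0), (1, 4), (2, 2)),
  ((1, 0), (3, 4), (3, 2)), ((1, 0), (2, 0), (1, 2)), ((1, 0), (3, 1), (3, 1)),
  ((1, 0), (2, 2), (3, 2)), ((1, 0), (2, 2), (3, 0)), ((1, 0), (1, 0), (3, 0)),
  ((1, 0), (2, 3), (3, 3)), ((1, 0), (2, 3), (3, 0)), ((1, 0), (2, 1), (3, 2)),
  ((1, 0), (3, 2), (3, 3)), ((1, 0), (4, 0), (4, 2)), ((1, 0), (1, 3), (2, 1)),
  ((1, 0), (3, 2), (3, 0)), ((1, 0), (3, 3), (3, 2)), ((1, 0), (3, 0), (1, 2)),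
  ((1, 0), (1, 0), (4, 2)), ((1, 0), (1, 2), (2, 2)), ((1, 0), (1, 3), (2, 3)),
  ((1, 0), (3, 0), (1, 0)), ((1, 0), (1, 0), (4, 0)), ((1, 0), (0, 2), (1, 0)),
  ((1, 0), (4, 4), (2, 3)), ((1, 0), (4, 0), (4, 0)), ((1, 0), (1, 0), (4, 3)),
  ((1, 0), (4, 1), (1, 1)), ((1, 0), (0, 3), (0, 4)), ((1, 0), (4, 3), (2, 4)),
  ((1, 0), (0, 1), (4, 0)), ((1, 0), (1, 1), (2, 0)), ((1, 0), (1, 4), (2, 0)),
  ((1, 0), (4, 0), (3, 0)), ((1, 0), (3, 0), (2, 0)), ((1, 0), (2, 0), (1, 3)),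
  ((1, 0), (4, 1), (2, 2)), ((1, 0), (3, 1), (3, 3)), ((1, 0), (3, 3), (4, 1)),
  ((1, 0), (0, 1), (0, 4)), ((1, 0), (3, 4), (3, 4)), ((1, 0), (2, 0), (2, 0)),
  ((1, 0), (0, 4), (4, 0)), ((1, 0), (1, 4), (1, 1)), ((1, 0), (2, 2), (4, 1)),
  ((0, 0), (1, 0), (4, 0)), ((1, 0), (0, 0), (3, 0)), ((1, 0), (1, 3), (3, 2)),
  ((0, 0), (1, 0), (3, 0)), ((1, 0), (2, 4), (3, 1)), ((1, 0), (4, 2), (3, 2)),
  ((1, 0), (2, 3), (4, 4)), ((1, 0), (0, 2), (0, 4)), ((1, 0), (0, 4), (0, 1)),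
  ((0, 0), (1, 0), (2, 0)), ((1, 0), (1, 2), (2, 4)), ((1, 0), (0, 3), (1, 0)),
  ((1, 0), (4, 0), (1, 0)), ((1, 0), (0, 0), (1, 0)), ((1, 0), (4, 2), (2, 1)),
  ((1, 0), (4, 4), (1, 4)), ((1, 0), (0, 0), (3, 3)), ((1, 0), (0, 3), (0, 1)),
  ((0, 0), (1, 0), (1, 0)), ((1, 0), (0, 2), (0, 1)), ((1, 0), (3, 0), (4, 0)),
  ((1, 0), (3, 2), (4, 4)), ((1, 0), (3, 4), (2, 3)), ((1, 0), (1, 1), (1, 4)),
  ((1, 0), (0, 0), (2, 0)), ((1, 0), (0, 0), (2, 3)), ((1, 0), (2, 1), (2, 3)),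
  ((1, 0), (2, 0), (4, 0)), ((1, 0), (3, 1), (2, 2)), ((1, 0), (0, 1), (0, 1)),
  ((1, 0), (0, 0), (3, 2)), ((1, 0), (1, 2), (3, 3)), ((1, 0), (0, 0), (4, 0)),
  ((1, 0), (2, 4), (2, 2)), ((1, 0), (0, 0), (2, 2)), ((1, 0), (2, 1), (3, 4)),
  ((1, 0), (4, 3), (3, 3)), ((1, 0), (0, 4), (0, 4)), ((1, 0), (1, 0), (1, 0))]

/-- The action of the generators on the orbit. -/
def anAct : List ((ℕ × M) × (ℕ × M) × (ℕ × M)) := [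
  ((1, 4, 0), (0, 2, 2), (0, 1, 0)), ((2, 2, 0), (2, 4, 4), (3, 4, 0)),
  ((4, 4, 0), (5, 4, 4), (6, 4, 0)), ((7, 0, 1), (8, 4, 4), (5, 1, 0)),
  ((5, 3, 0), (1, 4, 4), (9, 4, 0)), ((0, 1, 0), (4, 4, 4), (10, 4, 0)),
  ((11, 3, 1), (12, 4, 4), (4, 1, 0)), ((13, 4, 2), (14, 4, 4), (15, 4, 1)),
  ((16, 3, 4), (10, 4, 4), (12, 2, 0)), ((17, 4, 1), (18, 4, 4), (2, 1, 0)),
  ((19, 2, 1), (20, 4, 4), (1, 1, 0)), ((15, 1, 1), (21, 4, 4), (22, 2, 4)),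
  ((23, 2, 4), (9, 4, 4), (20, 2, 0)), ((24, 0, 1), (25, 4, 4), (26, 1, 3)),
  ((27, 1, 1), (28, 4, 4), (29, 4, 4)), ((30, 1, 4), (31, 4, 4), (28, 4, 4)),
  ((14, 1, 4), (32, 4, 4), (21, 1, 4)), ((33, 0, 1), (34, 4, 4), (35, 1, 2)),
  ((36, 0, 4), (6, 4, 4), (8, 2, 0)), ((32, 4, 0), (37, 4, 4), (30, 1, 4)),
  ((38, 4, 4), (3, 4, 4), (18, 2, 0)), ((39, 0, 2), (40, 4, 4), (41, 1, 1)),
  ((42, 1, 0), (43, 4, 4), (40, 4, 2)), ((21, 4, 0), (33, 4, 4), (44, 2, 4)),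
  ((45, 4, 0), (16, 4, 4), (46, 2, 1)), ((8, 1, 4), (47, 4, 4), (48, 2, 2)),
  ((49, 4, 1), (50, 4, 4), (47, 3, 1)), ((25, 0, 2), (19, 4, 4), (51, 2, 1)),
  ((10, 0, 3), (52, 4, 4), (53, 4, 1)), ((54, 1, 0), (55, 4, 4), (52, 4, 1)),
  ((56, 0, 3), (23, 4, 4), (45, 1, 1)), ((12, 0, 2), (53, 4, 4), (55, 4, 1)),
  ((47, 0, 3), (41, 4, 4), (43, 2, 1)), ((53, 4, 4), (57, 4, 4), (19, 1, 1)),
  ((58, 0, 4), (56, 4, 4), (59, 2, 3)), ((60, 4, 4), (61, 4, 4), (56, 3, 4)),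
  ((34, 4, 3), (15, 4, 4), (62, 4, 1)), ((52, 4, 1), (45, 4, 4), (63, 2, 1)),
  ((37, 0, 4), (13, 4, 4), (64, 2, 2)), ((31, 3, 4), (17, 4, 4), (65, 2, 3)),
  ((9, 4, 2), (58, 4, 4), (42, 2, 4)), ((20, 4, 3), (24, 4, 4), (58, 1, 4)),
  ((66, 4, 0), (46, 4, 4), (11, 4, 2)), ((67, 3, 0), (42, 4, 4), (24, 4, 3)),
  ((68, 3, 3), (51, 4, 4), (57, 4, 2)), ((3, 1, 2), (27, 4, 4), (33, 1, 4)),
  ((69, 3, 0), (22, 4, 4), (32, 4, 3)), ((28, 3, 1), (38, 4, 4), (70, 1, 3)),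
  ((71, 4, 1), (72, 4, 4), (38, 3, 2)), ((73, 1, 0), (74, 4, 4), (75, 0, 3)),
  ((76, 1, 0), (70, 4, 4), (72, 0, 4)), ((65, 4, 4), (77, 4, 4), (37, 4, 3)),
  ((41, 4, 4), (7, 4, 4), (54, 4, 4)), ((40, 4, 1), (36, 4, 4), (7, 4, 4)),
  ((78, 3, 0), (62, 4, 4), (14, 4, 1)), ((79, 2, 0), (54, 4, 4), (36, 4, 4)),
  ((6, 1, 1), (39, 4, 4), (80, 1, 2)), ((18, 1, 3), (30, 4, 4), (77, 2, 4)),
  ((57, 4, 0), (11, 4, 4), (16, 1, 1)), ((63, 1, 4), (81, 4, 4), (39, 3, 3)),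
  ((82, 1, 2), (83, 4, 4), (84, 0, 1)), ((85, 4, 4), (80, 4, 4), (81, 0, 1)),
  ((86, 3, 0), (29, 4, 4), (31, 4, 4)), ((72, 4, 1), (44, 4, 4), (27, 4, 3)),
  ((81, 2, 3), (87, 4, 4), (25, 3, 2)), ((88, 2, 0), (89, 4, 4), (34, 3, 3)),
  ((90, 2, 0), (75, 2, 2), (60, 0, 3)), ((46, 2, 0), (90, 4, 4), (90, 4, 1)),
  ((64, 1, 1), (88, 4, 4), (86, 2, 1)), ((75, 4, 0), (66, 2, 2), (49, 0, 1)),
  ((91, 0, 3), (76, 4, 4), (13, 3, 1)), ((77, 3, 2), (92, 4, 4), (93, 2, 1)),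
  ((94, 2, 0), (64, 4, 4), (76, 0, 3)), ((70, 1, 1), (95, 4, 4), (69, 0, 2)),
  ((96, 1, 3), (73, 4, 4), (83, 3, 0)), ((43, 3, 0), (84, 2, 2), (73, 0, 4)),
  ((74, 4, 1), (26, 4, 4), (87, 0, 4)), ((97, 3, 2), (63, 4, 4), (23, 4, 2)),
  ((98, 4, 0), (93, 4, 4), (99, 4, 2)), ((62, 3, 0), (98, 4, 4), (100, 4, 2)),
  ((35, 1, 0), (101, 4, 4), (17, 3, 4)), ((102, 4, 4), (65, 4, 4), (101, 0, 2)),
  ((103, 2, 1), (100, 4, 4), (91, 1, 1)), ((101, 1, 4), (103, 4, 4), (95, 3, 0)),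
  ((22, 1, 0), (69, 2, 2), (103, 0, 2)), ((83, 1, 0), (60, 4, 4), (74, 3, 0)),
  ((93, 1, 0), (78, 4, 4), (71, 4, 3)), ((51, 1, 1), (48, 4, 4), (50, 0, 3)),
  ((99, 2, 2), (71, 4, 4), (102, 1, 4)), ((48, 2, 2), (59, 4, 4), (61, 0, 2)),
  ((84, 2, 0), (67, 4, 4), (67, 4, 4)), ((26, 0, 1), (96, 4, 4), (82, 1, 4)),
  ((59, 3, 0), (68, 4, 4), (97, 1, 4)), ((55, 2, 0), (104, 4, 4), (68, 4, 3)),
  ((92, 2, 3), (102, 4, 4), (78, 2, 4)), ((50, 1, 1), (49, 4, 4), (85, 3, 0)),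
  ((95, 2, 4), (91, 4, 4), (98, 2, 1)), ((89, 1, 4), (94, 4, 4), (88, 1, 1)),
  ((104, 4, 0), (79, 4, 4), (96, 4, 3)), ((87, 3, 0), (97, 4, 4), (104, 2, 4)),
  ((61, 0, 4), (82, 4, 4), (79, 2, 4)), ((100, 0, 2), (35, 4, 4), (89, 0, 1)),
  ((44, 3, 3), (99, 4, 4), (92, 1, 1)), ((80, 1, 4), (85, 4, 4), (66, 0, 4)),
  ((29, 2, 0), (86, 4, 4), (94, 4, 2))]

/-- The checks on the isotropic points. -/
def isoOk : Bool :=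
  isoPts.length == 126 && isoPts.all norm1 &&
    (List.range 125).all fun i =>
      match isoPar[i]?, isoPts[i + 1]? with
      | some (j, k, c), some v =>
        decide (j ≤ i) && decide (k < 3) && red c && c != (0, 0) &&
          (match isoPts[j]? with
           | some w => act k w == msmul c v
           | none => false)
      | _, _ => false

/-- One step of the action on the anisotropic orbit. -/
def stepOk (k : ℕ) (v : V) (e : ℕ × M) : Bool :=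
  match anPts[e.1]? with
  | some w => act k v == msmul e.2 w
  | none => false

/-- The checks on the anisotropic points. -/
def anOk : Bool :=
  anPts[0]? == some (((0, 0), (1, 0), (0, 0)) : V) &&
    (anPts.zip anAct).all (fun x =>
      stepOk 0 x.1 x.2.1 && stepOk 1 x.1 x.2.2.1 && stepOk 2 x.1 x.2.2.2) &&
    anPts.length == anAct.length &&
    anPts.all fun v => red v.1 && red v.2.1 && red v.2.2 &&
      !(v.1 == mmul v.2.1 (0, 1) && v.2.2 == (0, 0))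

theorem isoOk_eq : isoOk = true := by decide +kernel

theorem anOk_eq : anOk = true := by decide +kernel

theorem isoCodes_nodup : (isoPts.map code).Nodup := by decide +kernel

end Cfsg.Agent.H72.PSUThree.Seven
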