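import Cfsg.Agent.H72.PSUThree.Final
import Cfsg.Agent.H72.PSUThree.SevenModel

/-!
A subgroup of index 50 of `SU₃(5)`.
-/

set_option autoImplicit false
set_option linter.unusedSectionVars false

namespace Cfsg.Agent.H72.PSUThree.Seven

open Cfsg MulAction Cfsg.Agent.Unitary Cfsg.Agent.H52.SUThree
open Matrix hiding vec

variable {F : Type*} [Field F] [Fintype F] [CharP F 5] {u w f : Fin 3 → F}

local notation "G" => SU 3 F 5

/-- The value of an element of the model. -/
def val (o : F) (x : M) : F := (x.1 : F) + (x.2 : F) * o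

theorem cast_mod (n : ℕ) : ((n % 5 : ℕ) : F) = (n : F) := CharP.cast_eq_mod F 5 n |>.symm

theorem five_eq : (5 : F) = 0 := CharP.cast_eq_zero F 5

theorem val_add (o : F) (x y : M) : val o (madd x y) = val o x + val o y := by
  simp only [val, madd, cast_mod, Nat.cast_add]; ring

theorem val_mul {o : F} (ho : o * o = 2) (x y : M) : val o (mmul x y) = val o x * val o y := by
  simp only [val, mmul, cast_mod, Nat.cast_add, Nat.cast_mul, Nat.cast_ofNat]
  linear_combination -((x.2 : F) * y.2) * ho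

theorem not_sq_two (z : ZMod 5) : z * z ≠ 2 := by revert z; decide

theorem val_inj {o : F} (ho : o * o = 2) {x y : M} (hx : red x = true) (hy : red y = true)
    (h : val o x = val o y) : x = y := by
  simp only [red, Bool.and_eq_true, decide_eq_true_eq] at hx hy
  have key : ∀ a b : ℕ, a < 5 → b < 5 → (a : F) = b → a = b := fun a b ha hb e =>
    CharP.natCast_injOn_Iio F 5 ha hb e
  simp only [val] at h
  by_cases h2 : x.2 = y.2
  · rw [h2] at h
    exact Prod.ext (key _ _ hx.1 hy.1 (add_right_cancel h)) h2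
  · exfalso
    have hd : (x.2 : F) - y.2 ≠ 0 := sub_ne_zero.2 fun e => h2 (key _ _ hx.2 hy.2 e)
    have : Fact (Nat.Prime 5) := ⟨by norm_num⟩
    let ι := ZMod.castHom (dvd_refl 5) F
    set z : ZMod 5 := ((y.1 : ZMod 5) - x.1) * ((x.2 : ZMod 5) - y.2)⁻¹ with hz
    have e : o = ι z := by
      rw [hz, map_mul, map_inv₀, map_sub, map_sub, map_natCast, map_natCast, map_natCast, map_natCast,
        ← div_eq_mul_inv, eq_div_iff hd]
      linear_combination h
    refine not_sq_two z (ι.injective ?_)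
    rw [map_mul, ← e, ho, map_ofNat]

theorem val_ne_zero {o : F} (ho : o * o = 2) {x : M} (hx : red x = true) (h : x ≠ (0, 0)) :
    val o x ≠ 0 := fun e =>
  h (val_inj ho hx (by decide) (e.trans (by simp [val])))

theorem o_pow {o : F} (ho : o * o = 2) : o ^ 5 = -o := by
  linear_combination (o ^ 3 + 2 * o) * ho + o * (five_eq (F := F))

/-- The vector with model coordinates. -/
def vecM (u w f : Fin 3 → F) (o : F) (v : V) : Fin 3 → F :=
  vec u w f (val o v.1) (val o v.2.1) (val o v.2.2)

theorem vecM_msmul {o : F} (ho : o * o = 2) (c : M) (v : V) :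
    vecM u w f o (msmul c v) = val o c • vecM u w f o v := by
  simp only [vecM, msmul, val_mul ho, vec_smul]

variable (hF : Fintype.card F = 5 ^ 2) (hfr : Frame 5 u w f) {o : F} (ho : o * o = 2)

include hF hfr ho

theorem ok_one_two : Ok 5 (1 : F) 2 := by
  simp only [Ok]; linear_combination 7 * (five_eq (F := F))

theorem exists_gens : ∃ g : Fin 3 → G, (g 0 = eSU hF ((ok_one_two hF hfr ho).spec hfr)) ∧
    (∃ l : Fˣ, (l : F) = val o (4, 4) ∧ g 1 = tHom hF hfr l) ∧
    ∀ (k : Fin 3) (v : V), ap (g k) (vecM u w f o v) = vecM u w f o (act k v) := by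
  have h5 := five_eq (F := F)
  have hl : val o (4, 4) ≠ 0 := val_ne_zero ho (by decide) (by decide)
  set c : F := 2 * o with hc
  have hc2 : c * c = -2 := by rw [hc]; linear_combination 4 * ho + 2 * h5
  have hcq : c ^ 5 = -c := by
    rw [hc, mul_pow, o_pow ho]; linear_combination -(6 * o) * h5
  obtain ⟨g, hg⟩ := exists_map hF hfr !![-1, 0, c; 0, 1, 0; c, 0, 1]
    (by simp [det_fin_three]; linear_combination -hc2)
    (fun y z => by
      simp [Matrix.mulVec, dotProduct, Fin.sum_univ_three, add_pow_q hF, mul_pow, hcq, Odd.neg_pow (by decide : Odd 5)]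
      linear_combination (-(y 0 * z 2 ^ 5) - y 2 * z 0 ^ 5) * hc2 - 0 * h5)
  refine ⟨![eSU hF ((ok_one_two hF hfr ho).spec hfr), tHom hF hfr (Units.mk0 _ hl), g], rfl,
    ⟨Units.mk0 _ hl, rfl, rfl⟩, fun k v => ?_⟩
  obtain ⟨p, r, s⟩ := v
  match k with
  | 0 =>
    show ap (eSU hF ((ok_one_two hF hfr ho).spec hfr)) _ = _
    rw [vecM, ap_E hF hfr (ok_one_two hF hfr ho)]
    simp only [vecM, act, Fin.val_zero, val_add, val_mul ho]
    congr 1
    · simp only [val, one_pow, Nat.cast_zero, Nat.cast_ofNat]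
      linear_combination -((r.1 : F) + (r.2 : F) * o) * h5
    · simp only [val]; ring
    · simp only [val, Nat.cast_zero]; ring
  | 1 =>
    show ap (tHom hF hfr _) _ = _
    rw [vecM, ap_tHom]
    have e1 : (val o (4, 4)) ^ 5 = val o (4, 1) := by
      simp only [val, add_pow_q hF, mul_pow, o_pow ho, Nat.cast_ofNat, Nat.cast_one]
      linear_combination (204 - 205 * o) * h5
    have e2 : val o (4, 1) / val o (4, 4) = val o (2, 2) := by
      rw [div_eq_iff hl, ← val_mul ho]; rfl
    have e3 : (val o (4, 1))⁻¹ = val o (1, 1) := by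
      refine inv_eq_of_mul_eq_one_right ?_
      rw [← val_mul ho]; simp [val, mmul]
    simp only [vecM, act, Fin.val_one, val_mul ho, Units.val_mk0, e1, e2, e3]
  | 2 =>
    show ap g _ = _
    rw [vecM, hg]
    simp only [vecM, act, Fin.val_two, val_add, val_mul ho]
    congr 1 <;> simp [Matrix.mulVec, dotProduct, Fin.sum_univ_three, val, hc]
    linear_combination -((p.1 : F) + (p.2 : F) * o) * h5

theorem vecM_u : vecM u w f o (((1, 0), (0, 0), (0, 0)) : V) = u := by simp [vecM, val, vec]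

theorem vecM_w : vecM u w f o (((0, 0), (1, 0), (0, 0)) : V) = w := by simp [vecM, val, vec]

theorem vecM_inj {v v' : V} (hv : red v.1 = true ∧ red v.2.1 = true ∧ red v.2.2 = true)
    (hv' : red v'.1 = true ∧ red v'.2.1 = true ∧ red v'.2.2 = true)
    (h : vecM u w f o v = vecM u w f o v') : v = v' := by
  obtain ⟨h1, h2, h3⟩ := vec_inj hfr h
  exact Prod.ext (val_inj ho hv.1 hv'.1 h1)
    (Prod.ext (val_inj ho hv.2.1 hv'.2.1 h2) (val_inj ho hv.2.2 hv'.2.2 h3))

/-- Normalised vectors on the same line are equal. -/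
theorem eq_of_line {v v' : V} (hv : norm1 v = true) (hv' : norm1 v' = true) {c : F} (hc : c ≠ 0)
    (h : vecM u w f o v = c • vecM u w f o v') : v = v' := by
  simp only [norm1, Bool.and_eq_true, Bool.or_eq_true, beq_iff_eq] at hv hv'
  obtain ⟨⟨⟨a1, a2⟩, a3⟩, hv⟩ := hv
  obtain ⟨⟨⟨b1, b2⟩, b3⟩, hv'⟩ := hv'
  refine vecM_inj hF hfr ho ⟨a1, a2, a3⟩ ⟨b1, b2, b3⟩ ?_
  obtain ⟨e1, e2, e3⟩ := vec_inj hfr (h.trans (vec_smul c _ _ _))
  suffices c = 1 by rw [h, this, one_smul]
  have z0 : val o (0, 0) = 0 := by simp [val]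
  have z1 : val o (1, 0) = 1 := by simp [val]
  rcases hv with hv | ⟨hx, hv | ⟨hy, hv⟩⟩ <;> rcases hv' with hv' | ⟨hx', hv' | ⟨hy', hv'⟩⟩
  · rw [hv, hv', z1, mul_one] at e1; exact e1.symm
  · rw [hv, hx', z1, z0, mul_zero] at e1; exact absurd e1 one_ne_zero
  · rw [hv, hx', z1, z0, mul_zero] at e1; exact absurd e1 one_ne_zero
  · rw [hx, hv', z1, z0, mul_one] at e1; exact absurd e1.symm hc
  · rw [hv, hv', z1, mul_one] at e2; exact e2.symm
  · rw [hv, hy', z1, z0, mul_zero] at e2; exact absurd e2 one_ne_zero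
  · rw [hx, hv', z1, z0, mul_one] at e1; exact absurd e1.symm hc
  · rw [hy, hv', z1, z0, mul_one] at e2; exact absurd e2.symm hc
  · rw [hv, hv', z1, mul_one] at e3; exact e3.symm

theorem iso_reach {g : Fin 3 → G} (hg : ∀ (k : Fin 3) (v : V), ap (g k) (vecM u w f o v) = vecM u w f o (act k v))
    (i : ℕ) : ∀ v, isoPts[i]? = some v →
      ∃ h ∈ Subgroup.closure (Set.range g), ∃ c : F, c ≠ 0 ∧ ap h u = c • vecM u w f o v := by
  induction i using Nat.strong_induction_on with
  | _ i ih =>
    intro v hv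
    have ok := isoOk_eq
    simp only [isoOk, Bool.and_eq_true, List.all_eq_true, List.mem_range, beq_iff_eq] at ok
    cases i with
    | zero =>
      have : v = (((1, 0), (0, 0), (0, 0)) : V) := by
        have h00 : isoPts[0]? = some (((1, 0), (0, 0), (0, 0)) : V) := by decide +kernel
        exact Option.some.inj (hv.symm.trans h00)
      exact ⟨1, one_mem _, 1, one_ne_zero, by rw [this, ap_one, one_smul, vecM_u hF hfr ho]⟩
    | succ i =>
      have hi : i < 125 := by
        have := (List.getElem?_eq_some_iff.1 hv).1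
        omega
      have h := ok.2 i hi
      rw [hv] at h
      split at h
      · rename_i j k c v' e1 e2
        simp only [Bool.and_eq_true, decide_eq_true_eq, bne_iff_ne, ne_eq] at h
        obtain ⟨⟨⟨⟨hj, hk⟩, hc⟩, hc0⟩, h⟩ := h
        split at h
        · rename_i x e3
          obtain ⟨h', hh', d, hd0, hd⟩ := ih j (by omega) x e3
          cases e2
          rw [beq_iff_eq] at h
          refine ⟨g ⟨k, hk⟩ * h', mul_mem (Subgroup.subset_closure ⟨_, rfl⟩) hh', d * val o c,
            mul_ne_zero hd0 (val_ne_zero ho hc hc0), ?_⟩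
          rw [ap_mul, hd, ap_smul, hg, h, vecM_msmul ho, smul_smul]
        · exact absurd h (by simp)
      · exact absurd h (by simp)

theorem orbit_card_ge {g : Fin 3 → G}
    (hg : ∀ (k : Fin 3) (v : V), ap (g k) (vecM u w f o v) = vecM u w f o (act k v)) :
    126 ≤ Nat.card (orbit (Subgroup.closure (Set.range g)) (pu hfr)) := by
  have ok := isoOk_eq
  simp only [isoOk, Bool.and_eq_true, List.all_eq_true, List.mem_range, beq_iff_eq] at ok
  have hget : ∀ i : Fin isoPts.length, isoPts[(i : ℕ)]? = some isoPts[(i : ℕ)] := fun i => List.getElem?_eq_getElem i.2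
  choose h hh c hc0 hc using fun i : Fin isoPts.length => iso_reach hF hfr ho hg i _ (hget i)
  have e : Nat.card (Fin isoPts.length) = 126 := by rw [Nat.card_fin, ok.1.1]
  rw [← e]
  refine Nat.card_le_card_of_injective (fun i => ⟨h i • pu hfr, ⟨⟨h i, hh i⟩, rfl⟩⟩) fun i j hij => ?_
  have h1 : h i • pu hfr = h j • pu hfr := congrArg Subtype.val hij
  have h2 : ((h j)⁻¹ * h i) • pu hfr = pu hfr := by rw [mul_smul, h1, inv_smul_smul]
  obtain ⟨l, hl0, hl⟩ := (smul_pu_iff hfr).1 h2
  have h3 : ap (h i) u = l • ap (h j) u := by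
    rw [← ap_smul, ← hl, ← ap_mul, mul_inv_cancel_left]
  rw [hc i, hc j, smul_smul] at h3
  have h4 := eq_of_line hF hfr ho (ok.1.2 _ (List.getElem_mem i.2)) (ok.1.2 _ (List.getElem_mem j.2))
    (c := (c i)⁻¹ * (l * c j)) (mul_ne_zero (inv_ne_zero (hc0 i)) (mul_ne_zero hl0 (hc0 j)))
    (by rw [← smul_smul, ← h3, smul_smul, inv_mul_cancel₀ (hc0 i), one_smul])
  have nd := List.Nodup.of_map code isoCodes_nodup
  exact Fin.ext ((List.Nodup.getElem_inj_iff nd).1 h4)

theorem closure_ne_top {g : Fin 3 → G}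
    (hg : ∀ (k : Fin 3) (v : V), ap (g k) (vecM u w f o v) = vecM u w f o (act k v)) :
    Subgroup.closure (Set.range g) ≠ ⊤ := by
  have ok := anOk_eq
  simp only [anOk, Bool.and_eq_true, List.all_eq_true, beq_iff_eq, Bool.not_eq_true',
    Bool.and_eq_false_iff, beq_eq_false_iff_ne] at ok
  obtain ⟨⟨⟨h0, hact⟩, hlen⟩, hred⟩ := ok
  let P : (Fin 3 → F) → Prop := fun x => ∃ v ∈ anPts, ∃ c : F, x = c • vecM u w f o v
  have hgen : ∀ k x, P x → P (ap (g k) x) := by
    rintro k x ⟨v, hv, c, rfl⟩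
    obtain ⟨i, hi, rfl⟩ := List.getElem_of_mem hv
    have hm : (anPts[i], anAct[i]'(hlen ▸ hi)) ∈ anPts.zip anAct := by
      rw [List.mem_iff_getElem]
      exact ⟨i, by rw [List.length_zip, ← hlen, min_self]; exact hi, List.getElem_zip⟩
    obtain ⟨⟨s0, s1⟩, s2⟩ := hact _ hm
    have step : ∀ e, stepOk (k : ℕ) anPts[i] e = true → P (ap (g k) (c • vecM u w f o anPts[i])) := by
      intro e he
      unfold stepOk at he
      split at he
      · rename_i x ex
        rw [beq_iff_eq] at he
        exact ⟨x, List.mem_of_getElem? ex, c * val o e.2, by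
          rw [ap_smul, hg, he, vecM_msmul ho, smul_smul]⟩
      · exact absurd he (by simp)
    match k with
    | 0 => exact step _ s0
    | 1 => exact step _ s1
    | 2 => exact step _ s2
  intro htop
  have hP : ∀ a ∈ Subgroup.closure (Set.range g), ∀ x, P x → P (ap a x) := by
    intro a ha
    rw [← Subgroup.mem_toSubmonoid, Subgroup.closure_toSubmonoid_of_finite] at ha
    induction ha using Submonoid.closure_induction with
    | mem y hy => obtain ⟨k, rfl⟩ := hy; exact hgen k
    | one => intro x hx; rwa [ap_one]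
    | mul y z _ _ hy hz => intro x hx; rw [ap_mul]; exact hy _ (hz _ hx)
  have hok : Ok 5 o 1 := by
    simp only [Ok]
    linear_combination o * o_pow ho - ho
  obtain ⟨v, hv, c, hc⟩ := hP (eSU hF (hok.spec hfr)) (htop ▸ Subgroup.mem_top _) w
    ⟨_, List.mem_of_getElem? h0, 1, by rw [one_smul, vecM_w hF hfr ho]⟩
  rw [show ap (eSU hF (hok.spec hfr)) w = ap (eSU hF (hok.spec hfr)) (vec u w f 0 1 0) by rw [vec_w],
    ap_E hF hfr hok, o_pow ho, vecM, vec_smul] at hc
  obtain ⟨e1, e2, e3⟩ := vec_inj hfr hc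
  obtain ⟨⟨⟨r1, r2⟩, r3⟩, hne⟩ := hred v hv
  have hc0 : c ≠ 0 := by
    rintro rfl
    simp at e2
  rcases hne with hne | hne
  · refine hne (val_inj ho r1 ?_ ?_)
    · simp [red, mmul, Nat.mod_lt]
    · rw [val_mul ho]
      refine mul_left_cancel₀ hc0 ?_
      rw [← e1, ← mul_assoc, ← e2]
      simp [val]
  · refine hne (val_inj ho r3 (by decide) (mul_left_cancel₀ hc0 ?_))
    rw [← e3]
    simp [val]

theorem twelve_dvd {g : Fin 3 → G} (hE : g 0 = eSU hF ((ok_one_two hF hfr ho).spec hfr))
    (hT : ∃ l : Fˣ, (l : F) = val o (4, 4) ∧ g 1 = tHom hF hfr l) :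
    Subgroup.center G ≤ Subgroup.closure (Set.range g) ∧
      60 ∣ Nat.card (Subgroup.closure (Set.range g) ⊓ st hfr : Subgroup G) := by
  obtain ⟨l, hl, h1⟩ := hT
  set H := Subgroup.closure (Set.range g)
  have z1 : val o (1, 0) = 1 := by simp [val]
  have e2 : (l : F) ^ 2 = val o (3, 2) := by rw [sq, hl, ← val_mul ho]; rfl
  have e4 : (l : F) ^ 4 = val o (2, 2) := by
    rw [show 4 = 2 * 2 from rfl, pow_mul, e2, sq, ← val_mul ho]; rfl
  have e6 : (l : F) ^ 6 = val o (4, 0) := by
    rw [show 6 = 4 + 2 from rfl, pow_add, e4, e2, ← val_mul ho]; rfl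
  have e12 : (l : F) ^ 12 = 1 := by
    rw [show 12 = 6 + 6 from rfl, pow_add, e6, ← val_mul ho, ← z1]; rfl
  have n4 : (l : F) ^ 4 ≠ 1 := fun h =>
    absurd (val_inj ho (by decide) (by decide) (e4.symm.trans (h.trans z1.symm))) (by decide)
  have n6 : (l : F) ^ 6 ≠ 1 := fun h =>
    absurd (val_inj ho (by decide) (by decide) (e6.symm.trans (h.trans z1.symm))) (by decide)
  have ol : orderOf l = 12 := by
    refine (orderOf_eq_iff (by norm_num)).2 ⟨Units.ext (by rw [Units.val_pow_eq_pow_val, e12, Units.val_one]), ?_⟩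
    intro m hm hm0 h
    have h' : (l : F) ^ m = 1 := by rw [← Units.val_pow_eq_pow_val, h, Units.val_one]
    interval_cases m
    · exact n6 (by rw [pow_one] at h'; rw [h', one_pow])
    · exact n6 (by rw [show 6 = 2 * 3 from rfl, pow_mul, h', one_pow])
    · exact n6 (by rw [show 6 = 3 * 2 from rfl, pow_mul, h', one_pow])
    · exact n4 h'
    · exact n4 (by
        have : (l : F) = 1 := by
          have h10 : (l : F) ^ 10 = 1 := by rw [show 10 = 5 * 2 from rfl, pow_mul, h', one_pow]
          have h2 : (l : F) ^ 2 = 1 := by rw [show 12 = 10 + 2 from rfl, pow_add, h10, one_mul] at e12; exact e12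
          calc (l : F) = (l : F) ^ 5 := by
                rw [show 5 = 2 * 2 + 1 from rfl, pow_succ, pow_mul, h2, one_pow, one_mul]
            _ = 1 := h'
        rw [this, one_pow])
    · exact n6 h'
    · exact n4 (by
        have h35 : (l : F) ^ 35 = 1 := by rw [show 35 = 7 * 5 from rfl, pow_mul, h', one_pow]
        have : (l : F) = 1 := by
          calc (l : F) = (l : F) ^ 35 * l := by rw [h35, one_mul]
            _ = ((l : F) ^ 12) ^ 3 := by rw [← pow_succ, ← pow_mul]
            _ = 1 := by rw [e12, one_pow]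
        rw [this, one_pow])
    · exact n4 (by
        have : (l : F) ^ 4 = (l : F) ^ 12 := by
          rw [show 12 = 8 + 4 from rfl, pow_add, h', one_mul]
        rw [this, e12])
    · exact n6 (by
        have : (l : F) ^ 3 = 1 := by rw [show 12 = 9 + 3 from rfl, pow_add, h', one_mul] at e12; exact e12
        rw [show 6 = 3 * 2 from rfl, pow_mul, this, one_pow])
    · exact n6 (by
        have : (l : F) ^ 2 = 1 := by rw [show 12 = 10 + 2 from rfl, pow_add, h', one_mul] at e12; exact e12
        rw [show 6 = 2 * 3 from rfl, pow_mul, this, one_pow])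
    · exact n6 (by
        have : (l : F) = 1 := by rw [show 12 = 11 + 1 from rfl, pow_succ, h', one_mul] at e12; exact e12
        rw [this, one_pow])
  have m0 : eSU hF ((ok_one_two hF hfr ho).spec hfr) ∈ H := hE ▸ Subgroup.subset_closure ⟨0, rfl⟩
  have m1 : tHom hF hfr l ∈ H := h1 ▸ Subgroup.subset_closure ⟨1, rfl⟩
  constructor
  · have hc : Nat.card (Subgroup.center G) = 3 := by
      rw [card_center_SU hF (by norm_num)]; rfl
    have ho4 : orderOf (tHom hF hfr (l ^ 4)) = 3 := by
      rw [orderOf_injective _ (T_injective hF hfr), orderOf_pow, ol]; rfl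
    have hz : Subgroup.zpowers (tHom hF hfr (l ^ 4)) = Subgroup.center G := by
      refine Subgroup.eq_of_le_of_card_ge (Subgroup.zpowers_le.2 (T_central hF hfr ?_ ?_)) ?_
      · rw [← pow_mul, show 4 * 3 = orderOf l by rw [ol]]; exact pow_orderOf_eq_one l
      · rw [← pow_mul, show 4 * (5 + 1) = orderOf l * 2 by rw [ol], pow_mul, pow_orderOf_eq_one, one_pow]
      · rw [hc, Nat.card_zpowers, ho4]
    rw [← hz, Subgroup.zpowers_le, map_pow]
    exact pow_mem m1 4
  · have hm0 : eSU hF ((ok_one_two hF hfr ho).spec hfr) ∈ H ⊓ st hfr :=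
      ⟨m0, mem_stabilizer_iff.2 (E_smul_pu hF hfr (ok_one_two hF hfr ho))⟩
    have hm1 : tHom hF hfr l ∈ H ⊓ st hfr := ⟨m1, mem_stabilizer_iff.2 (T_smul_pu hF hfr l)⟩
    have d5 := Subgroup.orderOf_dvd_natCard _ hm0
    have d12 := Subgroup.orderOf_dvd_natCard _ hm1
    rw [orderOf_injective _ (T_injective hF hfr), ol] at d12
    have hne : eSU hF ((ok_one_two hF hfr ho).spec hfr) ≠ 1 := by
      intro h
      have := decomp_unique hF hfr (ok_one_two hF hfr ho) (Ok.zero hF) (l := 1) (l' := 1)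
        (by rw [h, E_zero hF hfr])
      exact one_ne_zero this.2.1
    have h5 : eSU hF ((ok_one_two hF hfr ho).spec hfr) ^ 5 = 1 := by
      refine eq_of_ap hfr fun p r s => ?_
      simp only [pow_succ, pow_zero, one_mul, ap_mul, ap_E hF hfr (ok_one_two hF hfr ho), ap_one]
      congr 1
      · linear_combination (-r) * five_eq (F := F)
      · linear_combination s * five_eq (F := F)
    have : Fact (Nat.Prime 5) := ⟨by norm_num⟩
    rw [orderOf_eq_prime h5 hne] at d5
    exact Nat.Coprime.mul_dvd_of_dvd_of_dvd (by norm_num) d5 d12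

omit hfr ho in
/-- `SU₃(5)` has a good subgroup of index at most 50. -/
theorem exists_good : ∃ H : Subgroup G, Good H ∧ H.index ≤ 50 := by
  obtain ⟨u, w, f, hfr⟩ := exists_frame (F := F) hF
  have h2 : (2 : F) ≠ 0 := fun h => by
    have := (CharP.cast_eq_zero_iff F 5 2).1 h
    norm_num at this
  obtain ⟨o, ho⟩ : IsSquare (2 : F) := by
    rw [FiniteField.isSquare_iff (by rw [ringChar.eq F 5]; norm_num) h2, hF]
    linear_combination 819 * five_eq (F := F)
  obtain ⟨g, hE, hT, hg⟩ := exists_gens hF hfr ho.symm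
  obtain ⟨hcen, h60⟩ := twelve_dvd hF hfr ho.symm hE hT
  have h1 := (Subgroup.closure (Set.range g)).card_mul_index
  have h2' : 126 * 60 ≤ Nat.card (Subgroup.closure (Set.range g)) := by
    rw [card_eq_orbit_mul _ (pu hfr)]
    exact Nat.mul_le_mul (orbit_card_ge hF hfr ho.symm hg) (Nat.le_of_dvd Nat.card_pos h60)
  rw [H53.card_SU_three hF] at h1
  have h3 := Nat.mul_le_mul_right (Subgroup.closure (Set.range g)).index h2'
  rw [h1] at h3
  norm_num at h3
  exact ⟨Subgroup.closure (Set.range g),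
    ⟨closure_ne_top hF hfr ho.symm hg, hcen, by norm_num; omega⟩, by omega⟩

end Cfsg.Agent.H72.PSUThree.Seven
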