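import Cfsg.Agent.H72.PSUThree.Cases

/-!
The small fields: elements of large prime order act without fixed points.
-/

set_option autoImplicit false
set_option linter.unusedSectionVars false

namespace Cfsg.Agent.H72.PSUThree

open Cfsg MulAction Cfsg.Agent.Unitary Cfsg.Agent.H52.SUThree
open Matrix hiding vec

variable {F : Type*} [Field F] [Fintype F] {q r : ℕ} {u w f : Fin 3 → F}

local notation "G" => SU 3 F q
local notation "Pts" => IsoPoint 3 F q

theorem fixed_card_le (hF : Fintype.card F = q ^ 2) {g : G} (hg : g ∉ Subgroup.center G) {x : Pts}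
    (hx : g • x = x) : Nat.card {y : Pts // g • y = y} ≤ q + 1 := by
  obtain ⟨u, w, f, hfr, rfl⟩ := exists_frame_at hF x
  by_cases h1 : ∀ y : Pts, g • y = y → y = pu hfr
  · have : Subsingleton {y : Pts // g • y = y} :=
      ⟨fun a b => Subtype.ext ((h1 _ a.2).trans (h1 _ b.2).symm)⟩
    have := Finite.card_le_one_iff_subsingleton.2 this
    omega
  push Not at h1
  obtain ⟨y, hy, hne⟩ := h1
  obtain ⟨c, γ, hc, rfl⟩ := exists_E_pf hF hfr hne
  set hfr' := frame_map hfr (eSU hF (hc.spec hfr))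
  obtain ⟨l, rfl⟩ := eq_T_of_fix hF hfr' (g := g)
    (by rw [pu_map hfr (eSU hF (hc.spec hfr)), E_smul_pu hF hfr hc]; exact hx)
    (by rw [pf_map hfr (eSU hF (hc.spec hfr))]; exact hy)
  have hμ : mu q l ≠ 1 := fun h => by
    obtain ⟨h3, h1⟩ := (mu_eq_one_iff hF l).1 h
    exact hg (T_central hF hfr' h3 h1)
  rw [← card_onLine hF hfr']
  refine Nat.card_le_card_of_injective (fun y => (⟨y.1, ?_⟩ : {y : Pts // OnLine q _ y}))
    fun a b e => Subtype.ext (congrArg (fun z : {y : Pts // OnLine q _ y} => z.1) e)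
  obtain ⟨z, hz⟩ := y
  show OnLine q _ z
  by_cases hzu : z = pu hfr'
  · rw [hzu]; exact onLine_pu hfr'
  obtain ⟨b, β, h, rfl⟩ := exists_E_pf hF hfr' hzu
  rw [T_smul_E_pf hF hfr' l h] at hz
  refine (onLine_E_pf_iff hF hfr' h).2 ?_
  by_contra hb
  exact hμ (Units.ext (mul_right_cancel₀ hb
    ((E_pf_inj hF hfr' (ok_scale hF l h) h hz).1.trans (one_mul b).symm)))

theorem fixed_free (hF : Fintype.card F = q ^ 2) [Fact r.Prime] (hr : ¬ r ∣ q ^ 3 * (q ^ 2 - 1))
    {h : G} (hh : orderOf h = r) (x : Pts) : h • x ≠ x := by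
  intro e
  obtain ⟨u, w, f, hfr, rfl⟩ := exists_frame_at hF x
  have h1 := Subgroup.orderOf_dvd_natCard (st hfr) (mem_stabilizer_iff.2 e)
  rw [hh, card_st hF hfr] at h1
  exact hr h1

/-- A nonempty invariant set of points has at least `r` elements. -/
theorem le_card_of_invariant (hF : Fintype.card F = q ^ 2) [Fact r.Prime]
    (hr : ¬ r ∣ q ^ 3 * (q ^ 2 - 1)) {h : G} (hh : orderOf h = r) (S : Pts → Prop)
    (hS : ∀ x, S x → S (h • x)) (hne : ∃ x, S x) : r ≤ Nat.card {x : Pts // S x} := by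
  have hpow : ∀ (n : ℕ) (x : Pts), S x → S (h ^ n • x) := by
    intro n
    induction n with
    | zero => intro x hx; rwa [pow_zero, one_smul]
    | succ n ih => intro x hx; rw [pow_succ, mul_smul]; exact ih _ (hS x hx)
  have hS' : ∀ g ∈ Subgroup.zpowers h, ∀ x, S x → S (g • x) := by
    intro g hg
    obtain ⟨n, rfl⟩ := mem_powers_iff_mem_zpowers.2 hg
    exact hpow n
  let act : MulAction (Subgroup.zpowers h) {x : Pts // S x} :=
    { smul := fun g z => ⟨(g : G) • (z : Pts), hS' g g.2 z z.2⟩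
      one_smul := fun z => Subtype.ext (one_smul G (z : Pts))
      mul_smul := fun g k z => Subtype.ext (mul_smul (g : G) (k : G) (z : Pts)) }
  have hP : IsPGroup r (Subgroup.zpowers h) :=
    IsPGroup.of_card (n := 1) (by rw [Nat.card_zpowers, hh, pow_one])
  have e : Nat.card (fixedPoints (Subgroup.zpowers h) {x : Pts // S x}) = 0 := by
    have : IsEmpty (fixedPoints (Subgroup.zpowers h) {x : Pts // S x}) := ⟨fun z =>
      fixed_free hF hr hh (z.1 : Pts) (congrArg Subtype.val (z.2 ⟨h, Subgroup.mem_zpowers h⟩))⟩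
    exact Nat.card_of_isEmpty
  have hmod := hP.card_modEq_card_fixedPoints {x : Pts // S x}
  rw [e, Nat.modEq_zero_iff_dvd] at hmod
  obtain ⟨x, hx⟩ := hne
  have : Nonempty {x : Pts // S x} := ⟨⟨x, hx⟩⟩
  exact Nat.le_of_dvd Nat.card_pos hmod

/-- An element with a fixed point does not commute with `h`. -/
theorem false_of_commute (hF : Fintype.card F = q ^ 2) [Fact r.Prime]
    (hr : ¬ r ∣ q ^ 3 * (q ^ 2 - 1)) (hrq : q + 1 < r) {h : G} (hh : orderOf h = r) {g : G}
    (hg : g ∉ Subgroup.center G) {x : Pts} (hx : g • x = x) (hc : g * h = h * g) : False := by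
  have h1 := le_card_of_invariant hF hr hh (fun y => g • y = y)
    (fun y hy => by rw [smul_smul, hc, mul_smul, hy]) ⟨x, hx⟩
  have h2 := fixed_card_le hF hg hx
  omega

/-- A subgroup fixing a point and normalising `⟨h⟩` is small. -/
theorem false_of_normalises (hF : Fintype.card F = q ^ 2) [Fact r.Prime]
    (hr : ¬ r ∣ q ^ 3 * (q ^ 2 - 1)) (hrq : q + 1 < r) {h : G} (hh : orderOf h = r) (A : Subgroup G)
    {x : Pts} (hAx : ∀ a ∈ A, a • x = x)
    (hN : A ≤ Subgroup.normalizer ((Subgroup.zpowers h : Subgroup G) : Set G))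
    (hA : ¬ Nat.card A ∣ Nat.gcd 3 (q + 1) * (r - 1)) : False := by
  set θ := (Subgroup.zpowers h).normalizerMonoidHom.comp (Subgroup.inclusion hN) with hθ
  have h1 := θ.ker.card_mul_index
  rw [Subgroup.index_ker] at h1
  have h2 : Nat.card θ.range ∣ r - 1 := by
    refine (Subgroup.card_subgroup_dvd_card _).trans ?_
    rw [IsCyclic.card_mulAut, Nat.card_zpowers, hh, Nat.totient_prime Fact.out]
  have h3 : ∀ a : θ.ker, ((a.1 : G)) ∈ Subgroup.center G := by
    intro a
    by_contra ha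
    refine false_of_commute hF hr hrq hh ha (hAx _ a.1.2) ?_
    have h4 : Subgroup.inclusion hN a.1 ∈ (Subgroup.zpowers h).normalizerMonoidHom.ker := a.2
    rw [Subgroup.normalizerMonoidHom_ker, Subgroup.mem_subgroupOf, Subgroup.mem_centralizer_iff] at h4
    exact (h4 h (Subgroup.mem_zpowers h)).symm
  have h5 : Nat.card θ.ker ∣ Nat.gcd 3 (q + 1) := by
    rw [← card_center_SU (F := F) (n := 3) hF (by norm_num)]
    refine Subgroup.card_dvd_of_injective
      ({ toFun := fun a => ⟨a.1.1, h3 a⟩, map_one' := rfl, map_mul' := fun _ _ => rfl } :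
        θ.ker →* Subgroup.center G) fun a b e => ?_
    exact Subtype.ext (Subtype.ext (congrArg (fun z : Subgroup.center G => (z : G)) e))
  exact hA (h1 ▸ Nat.mul_dvd_mul h5 h2)

/-- Sylow data for `r`. -/
theorem exists_sylow_data [Fact r.Prime] (H : Subgroup G) {m : ℕ} (hcard : Nat.card H = r * m)
    (hm : ¬ r ∣ m) :
    ∃ (P : Sylow r H) (h : G) (hh : h ∈ H), orderOf h = r ∧ (P : Subgroup H) = Subgroup.zpowers ⟨h, hh⟩ ∧
      Nat.card (Sylow r H) ∣ m ∧ Nat.card (Sylow r H) % r = 1 ∧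
      Nat.card (Sylow r H) * Nat.card (Subgroup.normalizer ((P : Subgroup H) : Set H)) = Nat.card H := by
  have hr := (Fact.out : r.Prime)
  obtain ⟨x, hx⟩ := exists_prime_orderOf_dvd_card' r (show r ∣ Nat.card H from hcard ▸ dvd_mul_right r m)
  have hR : IsPGroup r (Subgroup.zpowers x) :=
    IsPGroup.of_card (n := 1) (by rw [Nat.card_zpowers, hx, pow_one])
  obtain ⟨P, hP⟩ := hR.exists_le_sylow
  obtain ⟨n, hn⟩ := (IsPGroup.iff_card).1 P.isPGroup'
  have hPd := (P : Subgroup H).card_subgroup_dvd_card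
  rw [hn, hcard] at hPd
  have hn1 : n ≤ 1 := by
    by_contra h
    have h1 : r ^ 2 ∣ r * m := (pow_dvd_pow r (by omega)).trans hPd
    rw [sq] at h1
    exact hm (Nat.dvd_of_mul_dvd_mul_left hr.pos h1)
  have hPx : (P : Subgroup H) = Subgroup.zpowers x := by
    refine (Subgroup.eq_of_le_of_card_ge hP ?_).symm
    rw [Nat.card_zpowers, hx, hn]
    exact (Nat.pow_le_pow_right hr.pos hn1).trans (pow_one r).le
  refine ⟨P, x, x.2, by rw [← hx]; exact orderOf_injective H.subtype Subtype.val_injective x, hPx, ?_, ?_, ?_⟩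
  · have h1 := P.card_dvd_index
    have h2 := (P : Subgroup H).card_mul_index
    rw [hPx, Nat.card_zpowers, hx, hcard] at h2
    rwa [show (P : Subgroup H).index = m by rw [hPx]; exact Nat.eq_of_mul_eq_mul_left hr.pos h2] at h1
  · have h1 := card_sylow_modEq_one r H
    rwa [Nat.ModEq, Nat.mod_eq_of_lt hr.one_lt] at h1
  · rw [P.card_eq_index_normalizer, mul_comm]
    exact Subgroup.card_mul_index _

theorem normal_case (hF : Fintype.card F = q ^ 2) [Fact r.Prime]
    (hr : ¬ r ∣ q ^ 3 * (q ^ 2 - 1)) (hrq : q + 1 < r) (hfr : Frame q u w f) (H : Subgroup G)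
    (hst : ¬ Nat.card (H ⊓ st hfr : Subgroup G) ∣ Nat.gcd 3 (q + 1) * (r - 1))
    (P : Sylow r H) {h : G} {hh : h ∈ H} (ho : orderOf h = r)
    (hP : (P : Subgroup H) = Subgroup.zpowers ⟨h, hh⟩) (h1 : Nat.card (Sylow r H) = 1) : False := by
  rw [P.card_eq_index_normalizer, Subgroup.index_eq_one] at h1
  refine false_of_normalises hF hr hrq ho (H ⊓ st hfr) (x := pu hfr)
    (fun a ha => mem_stabilizer_iff.1 ha.2) (fun a ha => ?_) hst
  have h2 : (⟨a, ha.1⟩ : H) ∈ Subgroup.normalizer ((P : Subgroup H) : Set H) := h1 ▸ Subgroup.mem_top _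
  rw [Subgroup.mem_normalizer_iff] at h2
  refine Subgroup.mem_normalizer_iff.2 fun y => ?_
  have hmap : ∀ z : H, (z : G) ∈ Subgroup.zpowers h ↔ z ∈ (P : Subgroup H) := fun z => by
    rw [hP, Subgroup.mem_zpowers_iff, Subgroup.mem_zpowers_iff]
    refine exists_congr fun k => ?_
    simp [Subtype.ext_iff]
  constructor
  · intro hy
    have hyH : y ∈ H := Subgroup.zpowers_le.2 hh hy
    have := (h2 ⟨y, hyH⟩).1 ((hmap _).1 hy)
    exact (hmap _).2 this
  · intro hy
    have hyH : y ∈ H := by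
      have h3 : a * y * a⁻¹ ∈ H := Subgroup.zpowers_le.2 hh hy
      have := H.mul_mem (H.mul_mem (H.inv_mem ha.1) h3) ha.1
      rwa [show a⁻¹ * (a * y * a⁻¹) * a = y by group] at this
    exact (hmap ⟨y, hyH⟩).2 ((h2 ⟨y, hyH⟩).2 ((hmap _).1 hy))

theorem eq_one_of_dvd_mod {r m n : ℕ} (hn : n ∣ m) (h1 : n % r = 1)
    (hc : ∀ k ∈ m.divisors, k % r = 1 → k = 1) (hm : m ≠ 0) : n = 1 :=
  hc n (Nat.mem_divisors.2 ⟨hn, hm⟩) h1

variable (hF : Fintype.card F = q ^ 2) (hfr : Frame q u w f) (H : Subgroup (SU 3 F q))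

include hF

theorem no_regular_seven (h7 : q = 7) (hH : Good H) (hst : Nat.card (H ⊓ st hfr : Subgroup G) = q ^ 2 - 1) :
    False := by
  have hc := hH.card_eq hF hfr
  rw [hst] at hc
  subst h7
  have : Fact (Nat.Prime 43) := ⟨by norm_num⟩
  obtain ⟨P, h, hh, ho, hP, hdvd, hmod, -⟩ := exists_sylow_data (r := 43) H (m := 384) (by rw [hc]; norm_num)
    (by norm_num)
  refine normal_case hF (by norm_num) (by norm_num) hfr H (by rw [hst]; norm_num) P ho hP
    (eq_one_of_dvd_mod hdvd hmod (by decide +kernel) (by norm_num))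

theorem no_regular_eleven (h11 : q = 11) (hH : Good H) (hst : Nat.card (H ⊓ st hfr : Subgroup G) = q ^ 2 - 1) :
    False := by
  have hc := hH.card_eq hF hfr
  rw [hst] at hc
  subst h11
  have : Fact (Nat.Prime 37) := ⟨by norm_num⟩
  obtain ⟨P, h, hh, ho, hP, hdvd, hmod, -⟩ := exists_sylow_data (r := 37) H (m := 4320) (by rw [hc]; norm_num)
    (by norm_num)
  refine normal_case hF (by norm_num) (by norm_num) hfr H (by rw [hst]; norm_num) P ho hP
    (eq_one_of_dvd_mod hdvd hmod (by decide +kernel) (by norm_num))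

theorem no_regular_three (h3 : q = 3) (hH : Good H) (hst : Nat.card (H ⊓ st hfr : Subgroup G) = q ^ 2 - 1) :
    False := by
  have hc := hH.card_eq hF hfr
  rw [hst] at hc
  subst h3
  have : Fact (Nat.Prime 7) := ⟨by norm_num⟩
  have : Fact (Nat.Prime 2) := ⟨Nat.prime_two⟩
  obtain ⟨P, h, hh, ho, hP, hdvd, hmod, hprod⟩ := exists_sylow_data (r := 7) H (m := 32) (by rw [hc]; norm_num)
    (by norm_num)
  have hn : Nat.card (Sylow 7 H) = 1 ∨ Nat.card (Sylow 7 H) = 8 := by
    have : ∀ k ∈ Nat.divisors 32, k % 7 = 1 → k = 1 ∨ k = 8 := by decide +kernel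
    exact this _ (Nat.mem_divisors.2 ⟨hdvd, by norm_num⟩) hmod
  rcases hn with hn | hn
  · exact normal_case hF (by norm_num) (by norm_num) hfr H (by rw [hst]; norm_num) P ho hP hn
  rw [hn, hc] at hprod
  set N := Subgroup.normalizer ((P : Subgroup H) : Set H)
  set θ := (P : Subgroup H).normalizerMonoidHom
  have h1 := θ.ker.card_mul_index
  rw [Subgroup.index_ker] at h1
  have h2 : Nat.card θ.range ∣ 6 := by
    refine (Subgroup.card_subgroup_dvd_card _).trans ?_
    have : IsCyclic (P : Subgroup H) := by rw [hP]; infer_instance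
    rw [IsCyclic.card_mulAut, hP, Nat.card_zpowers, ← orderOf_injective H.subtype Subtype.val_injective ⟨h, hh⟩]
    show Nat.totient (orderOf h) ∣ 6
    rw [ho, Nat.totient_prime Fact.out]
  have h28 : Nat.card N = 28 := by omega
  have h4 : 2 ∣ Nat.card θ.ker := by
    rw [h28] at h1
    have : Nat.card θ.range ≤ 6 := Nat.le_of_dvd (by norm_num) h2
    interval_cases hR : Nat.card θ.range <;> omega
  obtain ⟨t, ht⟩ := exists_prime_orderOf_dvd_card' 2 h4
  have hto : orderOf (((t : N) : H) : (SU 3 F 3)) = 2 := by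
    rw [← ht, ← orderOf_injective θ.ker.subtype Subtype.val_injective t,
      ← orderOf_injective N.subtype Subtype.val_injective (θ.ker.subtype t)]
    exact orderOf_injective H.subtype Subtype.val_injective _
  have ht1 : (((t : N) : H) : (SU 3 F 3)) ≠ 1 := fun e => by rw [e, orderOf_one] at hto; omega
  obtain ⟨x, hx⟩ := exists_fixed_of_invol hF (by decide) ht1
    (by rw [← sq, ← hto]; exact pow_orderOf_eq_one _)
  refine false_of_commute hF (by norm_num : ¬ 7 ∣ 3 ^ 3 * (3 ^ 2 - 1)) (by norm_num) ho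
    (fun hcen => ?_) hx ?_
  · have h5 := Subgroup.orderOf_dvd_natCard (Subgroup.center (SU 3 F 3)) hcen
    rw [hto, card_center_SU hF (by norm_num)] at h5
    norm_num at h5
  · have h6 := (le_of_eq (Subgroup.normalizerMonoidHom_ker (H := (P : Subgroup H)))) t.2
    rw [Subgroup.mem_subgroupOf, Subgroup.mem_centralizer_iff] at h6
    exact (congrArg Subtype.val (h6 ⟨h, hh⟩ (hP ▸ Subgroup.mem_zpowers _))).symm

theorem no_abelian_eleven (h11 : q = 11) (hH : Good H) (hk : Nat.card (params hF hfr H) = q)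
    (hst : Nat.card (H ⊓ st hfr : Subgroup G) = 330) : False := by
  have hc := hH.card_eq hF hfr
  rw [hst] at hc
  obtain ⟨b, ⟨β, hok, hm⟩, hb0⟩ : ∃ b ∈ params hF hfr H, b ≠ 0 := by
    by_contra hcon
    push Not at hcon
    rw [(AddSubgroup.eq_bot_iff_forall _).2 hcon, AddSubgroup.card_bot] at hk
    omega
  set a := eSU hF (hok.spec hfr) with ha
  have hau : a ∈ uni u := E_mem_uni hF hfr hok
  have ha1 : a ≠ 1 := fun e => hb0 (E_inj hF hfr hok (Ok.zero hF) (e.trans (E_zero hF hfr).symm)).1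
  subst h11
  have : Fact (Nat.Prime 37) := ⟨by norm_num⟩
  have : Fact (Nat.Prime 11) := ⟨by norm_num⟩
  obtain ⟨P, h, hh, ho, hP, hdvd, hmod, hprod⟩ := exists_sylow_data (r := 37) H (m := 11880)
    (by rw [hc]; norm_num) (by norm_num)
  -- the normalizer contains the centre
  set N := Subgroup.normalizer ((P : Subgroup H) : Set H)
  set Z := (Subgroup.center (SU 3 F 11)).subgroupOf H
  have hZc : Z ≤ Subgroup.center H := fun z hz => Subgroup.mem_center_iff.2 fun y =>
    Subtype.ext (Subgroup.mem_center_iff.1 (Subgroup.mem_subgroupOf.1 hz) y)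
  have hZN : Z ≤ N := hZc.trans (Subgroup.center_le_normalizer _)
  have hZ : Nat.card Z = 3 := by
    rw [Nat.card_congr (Subgroup.subgroupOfEquivOfLe hH.center_le).toEquiv, card_center_SU hF (by norm_num)]
    norm_num
  have hPc : Nat.card (P : Subgroup H) = 37 := by
    rw [hP, Nat.card_zpowers, ← ho]
    exact (orderOf_injective H.subtype Subtype.val_injective ⟨h, hh⟩).symm
  have h111 : 111 ∣ Nat.card N := by
    have h1 : 3 ∣ Nat.card N := (dvd_of_eq hZ.symm).trans (Subgroup.card_dvd_of_le hZN)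
    have h2 : 37 ∣ Nat.card N := (dvd_of_eq hPc.symm).trans (Subgroup.card_dvd_of_le Subgroup.le_normalizer)
    omega
  have hn : Nat.card (Sylow 37 H) = 1 ∨ Nat.card (Sylow 37 H) = 3960 := by
    have h4 : Nat.card (Sylow 37 H) ∣ 3960 := by
      obtain ⟨j, hj⟩ := h111
      rw [hj, hc] at hprod
      exact Dvd.intro j (Nat.eq_of_mul_eq_mul_right (by norm_num : 0 < 111) (by linarith))
    have : ∀ k ∈ Nat.divisors 3960, k % 37 = 1 → k = 1 ∨ k = 3960 := by decide +kernel
    exact this _ (Nat.mem_divisors.2 ⟨h4, by norm_num⟩) hmod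
  rcases hn with hn | hn
  · exact normal_case hF (by norm_num) (by norm_num) hfr H (by rw [hst]; norm_num) P ho hP hn
  rw [hn, hc] at hprod
  have hN111 : Nat.card N = 111 := by omega
  -- the normalizer is abelian
  have hNc : N ≤ Subgroup.centralizer ((P : Subgroup H) : Set H) := by
    have hsup : N = (P : Subgroup H) ⊔ Z := by
      refine (Subgroup.eq_of_le_of_card_ge (sup_le Subgroup.le_normalizer hZN) ?_).symm
      rw [hN111]
      refine Nat.le_of_dvd Nat.card_pos ?_
      have h1 : 3 ∣ Nat.card ((P : Subgroup H) ⊔ Z : Subgroup H) := (dvd_of_eq hZ.symm).trans (Subgroup.card_dvd_of_le le_sup_right)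
      have h2 : 37 ∣ Nat.card ((P : Subgroup H) ⊔ Z : Subgroup H) := (dvd_of_eq hPc.symm).trans (Subgroup.card_dvd_of_le le_sup_left)
      omega
    rw [hsup]
    refine sup_le ?_ (hZc.trans (Subgroup.center_le_centralizer _))
    rw [hP]
    intro x hx
    rw [Subgroup.mem_centralizer_iff]
    intro y hy
    obtain ⟨i, rfl⟩ := Subgroup.mem_zpowers_iff.1 hx
    obtain ⟨j, rfl⟩ := Subgroup.mem_zpowers_iff.1 hy
    exact ((Commute.refl _).zpow_zpow j i).eq
  have hcompl := MonoidHom.ker_transferSylow_isComplement' P hNc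
  set M := (MonoidHom.transferSylow P hNc).ker
  have hM : Nat.card M = 11880 := by
    have := hcompl.card_mul
    rw [hPc, hc] at this
    omega
  -- every point gives a subgroup of order eleven in `M`
  have horder : orderOf a = 11 := by
    have h1 := Subgroup.orderOf_dvd_natCard (H ⊓ uni u : Subgroup (SU 3 F 11)) (x := a) ⟨hm, hau⟩
    have h2 : Nat.card (H ⊓ uni u : Subgroup (SU 3 F 11)) ∣ Nat.card (uni u : Subgroup (SU 3 F 11)) :=
      Subgroup.card_dvd_of_le inf_le_right
    rw [card_uni hF hfr] at h2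
    have h3 : Nat.card (H ⊓ uni u : Subgroup (SU 3 F 11)) ∣ 330 := (Subgroup.card_dvd_of_le
      (inf_le_inf_left H (uni_le_st hfr))).trans (dvd_of_eq hst)
    have h4 : orderOf a ∣ 11 := by
      exact (Nat.dvd_gcd (h1.trans h2) (h1.trans h3)).trans (by norm_num)
    exact ((Nat.dvd_prime (by norm_num)).1 h4).resolve_left fun e => ha1 (orderOf_eq_one_iff.1 e)
  choose gx hgx he using fun x : (IsoPoint 3 F 11) => hH.transitive hF (pu hfr) x
  let W : (IsoPoint 3 F 11) → H := fun x => ⟨gx x * a * (gx x)⁻¹, H.mul_mem (H.mul_mem (hgx x) hm) (H.inv_mem (hgx x))⟩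
  have hWo : ∀ x, orderOf (W x) = 11 := fun x => by
    rw [← orderOf_injective H.subtype Subtype.val_injective (W x)]
    show orderOf (MulAut.conj (gx x) a) = 11
    exact (orderOf_injective (MulAut.conj (gx x)).toMonoidHom (MulAut.conj (gx x)).injective a).trans horder
  have hWM : ∀ x, W x ∈ M := fun x => by
    refine MonoidHom.mem_ker.2 ?_
    have h1 : orderOf (MonoidHom.transferSylow P hNc (W x)) ∣ 11 := (orderOf_map_dvd _ _).trans (dvd_of_eq (hWo x))
    have h2 := orderOf_dvd_natCard (MonoidHom.transferSylow P hNc (W x))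
    rw [hPc] at h2
    exact orderOf_eq_one_iff.1 (Nat.dvd_one.1 ((Nat.dvd_gcd h1 h2).trans (by norm_num)))
  have hfix : ∀ x, (W x : (SU 3 F 11)) • x = x := fun x => by
    show (gx x * a * (gx x)⁻¹) • x = x
    rw [mul_smul, mul_smul, inv_smul_eq_iff.2 (he x).symm, mem_stabilizer_iff.1 (uni_le_st hfr hau), he x]
  have huniq : ∀ x y, (W x : (SU 3 F 11)) • y = y → y = x := fun x y hy => by
    have hy' : (gx x * a * (gx x)⁻¹) • y = y := hy
    rw [mul_smul, mul_smul, smul_eq_iff_eq_inv_smul] at hy'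
    rw [inv_smul_eq_iff.1 (uni_unique_fix hF hfr hau ha1 hy'), he x]
  let S : (IsoPoint 3 F 11) → Sylow 11 M := fun x => Sylow.ofCard (Subgroup.zpowers ⟨W x, hWM x⟩) (by
    rw [Nat.card_zpowers, ← orderOf_injective M.subtype Subtype.val_injective ⟨W x, hWM x⟩]
    show orderOf (W x) = _
    rw [hWo x, hM, show (11880 : ℕ) = 11 * 1080 by norm_num, Nat.factorization_mul (by norm_num) (by norm_num),
      Finsupp.add_apply, Nat.Prime.factorization_self (by norm_num),
      Nat.factorization_eq_zero_of_not_dvd (by norm_num), add_zero, pow_one])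
  have hinj : Function.Injective S := by
    intro x y e
    have h1 : (⟨W y, hWM y⟩ : M) ∈ Subgroup.zpowers (⟨W x, hWM x⟩ : M) := by
      have h2 : Subgroup.zpowers (⟨W x, hWM x⟩ : M) = Subgroup.zpowers ⟨W y, hWM y⟩ :=
        congrArg (fun Q : Sylow 11 M => (Q : Subgroup M)) e
      rw [h2]
      exact Subgroup.mem_zpowers _
    obtain ⟨k, hk⟩ := Subgroup.mem_zpowers_iff.1 h1
    refine huniq y x ?_
    have h3 : (W x : (SU 3 F 11)) ^ k = (W y : (SU 3 F 11)) := by
      have := congrArg (fun z : M => ((z : H) : (SU 3 F 11))) hk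
      simpa using this
    rw [← h3]
    exact mem_stabilizer_iff.1 (zpow_mem (mem_stabilizer_iff.2 (hfix x) : (W x : (SU 3 F 11)) ∈ stabilizer (SU 3 F 11) x) k)
  have h1332 : 1332 ≤ Nat.card (Sylow 11 M) := by
    have := Nat.card_le_card_of_injective S hinj
    rwa [card_pts hF hfr] at this
  obtain ⟨Q⟩ : Nonempty (Sylow 11 M) := ⟨S (pu hfr)⟩
  have hQ : Nat.card (Q : Subgroup M) = 11 := by
    rw [Sylow.card_eq_multiplicity, hM, show (11880 : ℕ) = 11 * 1080 by norm_num,
      Nat.factorization_mul (by norm_num) (by norm_num), Finsupp.add_apply,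
      Nat.Prime.factorization_self (by norm_num), Nat.factorization_eq_zero_of_not_dvd (by norm_num),
      add_zero, pow_one]
  have hd := Q.card_dvd_index
  have hi := (Q : Subgroup M).card_mul_index
  rw [hQ, hM] at hi
  have := Nat.le_of_dvd (by omega) hd
  omega

theorem no_transvection_eight (h8 : q = 8) (hH : Good H)
    (hst : Nat.card (H ⊓ st hfr : Subgroup G) = 72) : False := by
  have hc := hH.card_eq hF hfr
  rw [hst] at hc
  subst h8
  have : Fact (Nat.Prime 19) := ⟨by norm_num⟩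
  have : Fact (Nat.Prime 2) := ⟨Nat.prime_two⟩
  obtain ⟨P, h, hh, ho, hP, hdvd, hmod, hprod⟩ := exists_sylow_data (r := 19) H (m := 1944)
    (by rw [hc]; norm_num) (by norm_num)
  have hn : Nat.card (Sylow 19 H) = 1 ∨ Nat.card (Sylow 19 H) = 324 := by
    have : ∀ k ∈ Nat.divisors 1944, k % 19 = 1 → k = 1 ∨ k = 324 := by decide +kernel
    exact this _ (Nat.mem_divisors.2 ⟨hdvd, by norm_num⟩) hmod
  rcases hn with hn | hn
  · exact normal_case hF (by norm_num) (by norm_num) hfr H (by rw [hst]; norm_num) P ho hP hn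
  rw [hn, hc] at hprod
  set N := Subgroup.normalizer ((P : Subgroup H) : Set H)
  obtain ⟨g, hg⟩ := exists_prime_orderOf_dvd_card' 2 (show 2 ∣ Nat.card N by omega)
  have hgo : orderOf ((g : H) : (SU 3 F 8)) = 2 := by
    rw [← hg, ← orderOf_injective N.subtype Subtype.val_injective g]
    exact orderOf_injective H.subtype Subtype.val_injective _
  set t := ((g : H) : (SU 3 F 8)) with ht
  have ht2 : t * t = 1 := by rw [← sq, ← hgo]; exact pow_orderOf_eq_one _
  have ht1 : t ≠ 1 := fun e => by rw [e, orderOf_one] at hgo; omega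
  have htinv : t⁻¹ = t := inv_eq_of_mul_eq_one_right ht2
  have hchar : CharP F 2 := by
    obtain ⟨p, k, hp, -, hc2, hk⟩ := exists_char_pow hF
    have : p = 2 := (Nat.prime_dvd_prime_iff_eq hp Nat.prime_two).1 (hp.dvd_of_dvd_pow (show p ∣ 2 ^ 3 by
      rw [show (2 : ℕ) ^ 3 = p ^ k from hk]; exact dvd_pow_self p (by rintro rfl; simp at hk)))
    exact this ▸ hc2
  have h2F : (2 : F) = 0 := CharTwo.two_eq_zero
  -- involutions with a fixed point are transvections
  have hinv : ∀ {s : (SU 3 F 8)}, s ≠ 1 → s * s = 1 → ∃ x : (IsoPoint 3 F 8), s • x = x ∧ s ∈ rootSub x := by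
    intro s hs1 hs2
    have hP2 : IsPGroup 2 (Subgroup.zpowers s) :=
      IsPGroup.of_card (n := 1) (by rw [Nat.card_zpowers, pow_one, orderOf_eq_prime (by rw [sq, hs2]) hs1])
    obtain ⟨x, hx⟩ := hP2.nonempty_fixed_point_of_prime_not_dvd_card (IsoPoint 3 F 8) (by rw [card_pts hF hfr]; norm_num)
    have hx' : s • x = x := hx ⟨s, Subgroup.mem_zpowers s⟩
    refine ⟨x, hx', ?_⟩
    obtain ⟨u', w', f', hfr', rfl⟩ := exists_frame_at hF x
    have hsu : s ∈ uni u' := by
      have hmem : s ∈ st hfr' := mem_stabilizer_iff.2 hx'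
      refine (lamHom_eq_one_iff hF hfr' (g := ⟨s, hmem⟩)).1 ?_
      have h1 := map_mul (lamHom hF hfr') ⟨s, hmem⟩ ⟨s, hmem⟩
      rw [show (⟨s, hmem⟩ * ⟨s, hmem⟩ : st hfr') = 1 from Subtype.ext hs2, map_one] at h1
      set l := lamHom hF hfr' ⟨s, hmem⟩
      have h2 : (l : F) * (l : F) = 1 := by rw [← Units.val_mul, ← h1, Units.val_one]
      refine Units.ext ?_
      rcases mul_self_eq_one_iff.1 h2 with h3 | h3
      · exact h3
      · rw [h3, Units.val_one]
        linear_combination -h2F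
    obtain ⟨b, β, hb, e⟩ := (mem_uni_iff hF hfr').1 hsu
    rw [e, E_mul hF hfr' hb hb] at hs2
    have h3 := (E_inj hF hfr' (hb.add hF hb) (Ok.zero hF) (hs2.trans (E_zero hF hfr').symm)).2
    have h4 : b * b ^ 8 = 0 := by linear_combination -h3 + β * h2F
    obtain rfl : b = 0 := by simpa using h4
    exact (mem_root_iff hF hfr').2 ⟨β, hb, e⟩
  -- `t` inverts or centralises `h`
  have hgN := Subgroup.mem_normalizer_iff.1 g.2 ⟨h, hh⟩
  have h5 := hgN.1 (hP ▸ Subgroup.mem_zpowers _)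
  rw [hP, Subgroup.mem_zpowers_iff] at h5
  obtain ⟨k, hk⟩ := h5
  have hk' : t * h * t⁻¹ = h ^ k := by
    have := congrArg (fun z : H => (z : (SU 3 F 8))) hk
    simpa using this.symm
  have hk2 : h ^ (k * k) = h := by
    rw [_root_.zpow_mul, ← hk', conj_zpow, ← hk', htinv,
      show t * (t * h * t) * t = (t * t) * h * (t * t) by group, ht2, one_mul, mul_one]
  have h19 : (19 : ℤ) ∣ (k - 1) * (k + 1) := by
    have h1 : h ^ (k * k - 1) = 1 := by rw [_root_.zpow_sub, hk2, zpow_one, mul_inv_cancel]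
    rw [← orderOf_dvd_iff_zpow_eq_one, ho] at h1
    rw [show (k - 1) * (k + 1) = k * k - 1 by ring]
    exact_mod_cast h1
  rcases Int.Prime.dvd_mul' (by norm_num : Nat.Prime 19) h19 with h6 | h6
  · -- centralises
    have h7 : h ^ (k - 1) = 1 := orderOf_dvd_iff_zpow_eq_one.1 (by rw [ho]; exact h6)
    rw [_root_.zpow_sub_one, mul_inv_eq_one] at h7
    rw [h7, mul_inv_eq_iff_eq_mul] at hk'
    obtain ⟨x, hx, -⟩ := hinv ht1 ht2
    refine false_of_commute hF (by norm_num : ¬ 19 ∣ 8 ^ 3 * (8 ^ 2 - 1)) (by norm_num) ho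
      (fun hcen => ?_) hx hk'
    have h8 := Subgroup.orderOf_dvd_natCard (Subgroup.center (SU 3 F 8)) hcen
    rw [hgo, card_center_SU hF (by norm_num)] at h8
    norm_num at h8
  · -- inverts
    have h7 : h ^ (k + 1) = 1 := orderOf_dvd_iff_zpow_eq_one.1 (by rw [ho]; exact h6)
    rw [_root_.zpow_add_one, ← eq_inv_iff_mul_eq_one] at h7
    rw [h7, htinv] at hk'
    have h1h : h ≠ 1 := fun e => by rw [e, orderOf_one] at ho; omega
    have hs1 : t * h ≠ 1 := fun e => by
      have e1 : h = t := by rw [← one_mul h, ← ht2, mul_assoc, e, mul_one]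
      rw [← e1, ho] at hgo
      omega
    have hs2 : t * h * (t * h) = 1 := by
      rw [show t * h * (t * h) = (t * h * t) * h by group, hk', inv_mul_cancel]
    obtain ⟨x, hx, hxr⟩ := hinv ht1 ht2
    obtain ⟨y, hy, hyr⟩ := hinv hs1 hs2
    have hxy : x ≠ y := fun e => by
      refine fixed_free hF (by norm_num : ¬ 19 ∣ 8 ^ 3 * (8 ^ 2 - 1)) ho x ?_
      subst e
      have h8 : (t * (t * h)) • x = x := by rw [mul_smul, hy, hx]
      rwa [← mul_assoc, ht2, one_mul] at h8
    obtain ⟨u₁, w₁, f₁, hfr₁, rfl⟩ := exists_frame_at hF x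
    obtain ⟨c, γ, hc', rfl⟩ := exists_E_pf hF hfr₁ (Ne.symm hxy)
    set g₁ := eSU hF (hc'.spec hfr₁)
    set hfr₂ := frame_map hfr₁ g₁
    rw [← pf_map hfr₁ g₁] at hyr
    rw [show pu hfr₁ = pu hfr₂ by rw [pu_map hfr₁ g₁, E_smul_pu hF hfr₁ hc']] at hxr
    have hwmem : ∀ {s : (SU 3 F 8)} (x : (IsoPoint 3 F 8)), OnLine 8 (ap g₁ w₁) x → s ∈ rootSub x → ap s (ap g₁ w₁) = ap g₁ w₁ :=
      fun {s} x hxl hs => hs.2 _ fun v hv => (herm_eq_zero_symm hF).1 (hxl v hv)
    have hw1 := hwmem _ (onLine_pu hfr₂) hxr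
    have hw2 := hwmem _ (onLine_pf hfr₂) hyr
    have hhw : ap h (ap g₁ w₁) = ap g₁ w₁ := by
      rw [show h = t * (t * h) by rw [← mul_assoc, ht2, one_mul], ap_mul, hw2, hw1]
    have hl : h ∈ lineStab hfr₂ := ⟨1, one_ne_zero, by rw [hhw, one_smul]⟩
    have h8 := le_card_of_invariant hF (by norm_num : ¬ 19 ∣ 8 ^ 3 * (8 ^ 2 - 1)) ho (OnLine 8 (ap g₁ w₁))
      (fun z hz => onLine_smul hF hfr₂ hl hz) ⟨_, onLine_pu hfr₂⟩
    rw [card_onLine hF hfr₂] at h8
    omega

theorem no_transvection_nine (h9 : q = 9) (hH : Good H) {N : ℕ} (hN : N = 108 ∨ N = 81 ∨ N = 162)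
    (hst : Nat.card (H ⊓ st hfr : Subgroup G) = N) : False := by
  have hc := hH.card_eq hF hfr
  rw [hst] at hc
  subst h9
  have : Fact (Nat.Prime 73) := ⟨by norm_num⟩
  obtain ⟨P, h, hh, ho, hP, hdvd, hmod, -⟩ := exists_sylow_data (r := 73) H (m := 10 * N)
    (by rw [hc]; rcases hN with rfl | rfl | rfl <;> norm_num) (by rcases hN with rfl | rfl | rfl <;> norm_num)
  refine normal_case hF (by norm_num) (by norm_num) hfr H ?_ P ho hP
    (eq_one_of_dvd_mod hdvd hmod ?_ (by omega))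
  · rw [hst]; rcases hN with rfl | rfl | rfl <;> norm_num
  · rcases hN with rfl | rfl | rfl <;> decide +kernel

end Cfsg.Agent.H72.PSUThree
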